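import Cfsg.Agent.Lib.Blk83.Ex27.Quot
import Cfsg.Agent.Lib.Char.CentralOver
import Cfsg.Agent.Lib.Char.Exceptional
import Mathlib.RingTheory.RootsOfUnity.Complex

/-!
The characters of the principal `3`-block over the three linear characters of a central subgroup of
order three, and the products with the functions on the quotient vanishing at singular elements.
-/

set_option autoImplicit false
set_option maxHeartbeats 800000

open Cfsg CfsgLib.Blocks
open scoped Classical ComplexConjugate

namespace CfsgLib.Blk83.Ex27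

universe u

variable {G : Type u} [Group G] [Fintype G] {M : Ideal Cfsg.AlgInt}

/-- The scalar of a central element in an irreducible representation. -/
noncomputable def om (z : G) (a : IrrCharacter G) : ℂ := (a : G → ℂ) z / (a : G → ℂ) 1

theorem om_mul_apply {z : G} (hc : ∀ g : G, g * z = z * g) (a : IrrCharacter G) (g : G) :
    (a : G → ℂ) (g * z) = om z a * (a : G → ℂ) g := by
  have h := CfsgLib.CharOver.apply_mul_central a.2 (Subgroup.mem_center_iff.2 hc) g
  have h1 := CfsgLib.BlockReg.deg_ne_zero a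
  rw [om, div_mul_eq_mul_div, eq_div_iff h1]
  linear_combination h

theorem om_pow_apply {z : G} (hc : ∀ g : G, g * z = z * g) (a : IrrCharacter G) (g : G) (n : ℕ) :
    (a : G → ℂ) (g * z ^ n) = om z a ^ n * (a : G → ℂ) g := by
  induction n with
  | zero => simp
  | succ n ih =>
    rw [pow_succ z n, ← mul_assoc, om_mul_apply hc, ih]
    ring

theorem om_cube {z : G} (hc : ∀ g : G, g * z = z * g) (h3 : z ^ 3 = 1) (a : IrrCharacter G) :
    om z a ^ 3 = 1 := by
  have h := om_pow_apply hc a 1 3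
  rw [one_mul, h3] at h
  exact mul_right_cancel₀ (CfsgLib.BlockReg.deg_ne_zero a) (by linear_combination -h)

/-- The three values. -/
theorem om_cases {ζ : ℂ} (hζ : IsPrimitiveRoot ζ 3) {z : G} (hc : ∀ g : G, g * z = z * g)
    (h3 : z ^ 3 = 1) (a : IrrCharacter G) : om z a = 1 ∨ om z a = ζ ∨ om z a = ζ ^ 2 := by
  obtain ⟨i, hi, he⟩ := hζ.eq_pow_of_pow_eq_one (om_cube hc h3 a)
  interval_cases i
  · exact Or.inl (by rw [← he, pow_zero])
  · exact Or.inr (Or.inl (by rw [← he, pow_one]))
  · exact Or.inr (Or.inr he.symm)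

theorem om_infl (z : G) [(Subgroup.zpowers z).Normal]
    (η : IrrCharacter (G ⧸ Subgroup.zpowers z)) : om z (infl (Subgroup.zpowers z) η) = 1 := by
  rw [om, show ((infl (Subgroup.zpowers z) η : IrrCharacter G) : G → ℂ) z =
    (infl (Subgroup.zpowers z) η : G → ℂ) 1 from ?_, div_self (CfsgLib.BlockReg.deg_ne_zero _)]
  simp [(QuotientGroup.eq_one_iff z).2 (Subgroup.mem_zpowers z)]

theorem exists_infl_of_om {z : G} [(Subgroup.zpowers z).Normal] (hc : ∀ g : G, g * z = z * g)
    (a : IrrCharacter G) (ha : om z a = 1) :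
    ∃ η : IrrCharacter (G ⧸ Subgroup.zpowers z), infl (Subgroup.zpowers z) η = a := by
  refine exists_infl_eq _ fun n hn => ?_
  obtain ⟨k, rfl⟩ := (Submonoid.mem_powers_iff n z).1 (mem_powers_iff_mem_zpowers.2 hn)
  have h := om_pow_apply hc a 1 k
  rw [one_mul, ha, one_pow, one_mul] at h
  exact h

/-- A Galois twist exchanging the two faithful scalars and fixing the values at regular elements. -/
theorem exists_sigma [Fact (Nat.Prime 3)] (hM : IsPModular 3 M) {z : G}
    (hc : ∀ g : G, g * z = z * g) (hz : orderOf z = 3) :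
    ∃ σ : IrrCharacter G → IrrCharacter G, Function.Injective σ ∧
      (∀ a, om z (σ a) = om z a ^ 2) ∧
      (∀ a (g : G), IsPRegular 3 g → (σ a : G → ℂ) g = (a : G → ℂ) g) ∧
      ∀ a, a ∈ principalBlock M G → σ a ∈ principalBlock M G := by
  set n := Nat.card G with hn
  have hn0 : n ≠ 0 := Nat.card_pos.ne'
  have hv : 1 ≤ n.factorization 3 := by
    refine (Nat.Prime.dvd_iff_one_le_factorization Nat.prime_three hn0).1 ?_
    rw [← hz]; exact orderOf_dvd_natCard z
  have hcop : Nat.Coprime (3 ^ n.factorization 3) (n / 3 ^ n.factorization 3) :=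
    (Nat.coprime_ordCompl Nat.prime_three hn0).pow_left _
  obtain ⟨k, hk2, hk1⟩ := Nat.chineseRemainder hcop 2 1
  have hk3 : k % 3 = 2 := (Nat.ModEq.of_dvd (dvd_pow_self 3 (by omega)) hk2)
  have hkco : k.Coprime n := by
    rw [← Nat.ordProj_mul_ordCompl_eq_self n 3]
    refine Nat.Coprime.mul_right (Nat.Coprime.pow_right _ ?_) ?_
    · exact ((Nat.Prime.coprime_iff_not_dvd Nat.prime_three).2 (by omega)).symm
    · have h1 := Nat.ModEq.gcd_eq hk1
      rw [Nat.gcd_one_left] at h1
      exact h1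
  have hfix : ∀ g : G, IsPRegular 3 g → g ^ k = g := by
    intro g hg
    have hxm : orderOf g ∣ n / 3 ^ n.factorization 3 := by
      refine ((Nat.prime_three.coprime_iff_not_dvd.2 hg).symm.pow_right
        (n.factorization 3)).dvd_of_dvd_mul_left ?_
      rw [Nat.ordProj_mul_ordCompl_eq_self]
      exact orderOf_dvd_natCard g
    calc g ^ k = g ^ 1 := pow_eq_pow_iff_modEq.2 (Nat.ModEq.of_dvd hxm hk1)
      _ = g := pow_one g
  have hreg : ∀ a (g : G), IsPRegular 3 g →
      (CfsgLib.CharGalois.powIrr hkco a : G → ℂ) g = (a : G → ℂ) g := fun a g hg => by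
    rw [CfsgLib.CharGalois.powIrr_apply, hfix g hg]
  have h1 : IsPRegular 3 (1 : G) := by simp [IsPRegular]
  refine ⟨CfsgLib.CharGalois.powIrr hkco, (CfsgLib.CharGalois.powIrr_bijective hkco).1, fun a => ?_,
    hreg, fun a ha => ?_⟩
  · have hzk : z ^ k = z ^ 2 := by rw [← pow_mod_orderOf, hz, hk3]
    have h := om_pow_apply hc a 1 2
    rw [one_mul] at h
    rw [om, hreg a 1 h1, CfsgLib.CharGalois.powIrr_apply, hzk, h,
      mul_div_assoc, div_self (CfsgLib.BlockReg.deg_ne_zero a), mul_one]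
  · rw [mem_principalBlock_iff 3 hM] at ha ⊢
    refine fun h => ha ?_
    rw [← h, regMult, regMult]
    congr 1
    refine Finset.sum_congr rfl fun g _ => ?_
    simp only [Cfsg.pRegularPart]
    split_ifs with hg
    · exact (hreg a g hg).symm
    · rfl

/-- **The products.** For functions on the quotient in the span of its principal block, vanishing at
singular elements, the lifted coefficients of the members of the block are integers with the
expected sum of products. -/
theorem exists_dec [Fact (Nat.Prime 3)] (hM : IsPModular 3 M) (N : Subgroup G) [N.Normal]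
    (hc : N ≤ Subgroup.center G) (hN : Nat.card N = 3) [Fintype (G ⧸ N)] {O : Type*}
    (P : O → ↥(principalBlock M (G ⧸ N)) → ℤ)
    (hP : ∀ o (x : G ⧸ N), ¬ IsPRegular 3 x → ∑ η : ↥(principalBlock M (G ⧸ N)),
      (P o η : ℂ) * ((η : IrrCharacter (G ⧸ N)) : G ⧸ N → ℂ) x = 0) :
    ∃ w : ↥(principalBlock M G) → ↥(principalBlock M (G ⧸ N)) → ℤ,
      (∀ a : ↥(principalBlock M G), ∀ g : G, IsPRegular 3 g → ((a : IrrCharacter G) : G → ℂ) g =
        ∑ η : ↥(principalBlock M (G ⧸ N)), (w a η : ℂ) * ((η : IrrCharacter (G ⧸ N)) : G ⧸ N → ℂ) g) ∧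
      (∀ a a' : ↥(principalBlock M G), (∀ g : G, IsPRegular 3 g →
        ((a : IrrCharacter G) : G → ℂ) g = ((a' : IrrCharacter G) : G → ℂ) g) →
        ∀ o, ∑ η, w a η * P o η = ∑ η, w a' η * P o η) ∧
      (∀ (a : ↥(principalBlock M G)) (η' : ↥(principalBlock M (G ⧸ N))),
        (a : IrrCharacter G) = infl N (η' : IrrCharacter (G ⧸ N)) →
        ∀ o, ∑ η, w a η * P o η = P o η') ∧
      ∀ o o', ∑ a : ↥(principalBlock M G), (∑ η, w a η * P o η) * (∑ η, w a η * P o' η) =
        3 * ∑ η, P o η * P o' η := by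
  haveI := hM.2.1
  have hp : IsPGroup 3 N := IsPGroup.of_card (n := 1) (by rw [hN, pow_one])
  have hiff := principal_infl_iff N hM hc hp (M := M)
  choose n hn using fun a : ↥(principalBlock M G) =>
    CfsgLib.CentralQuot.exists_int_lift N hM hc hp principalBlock_isPBlock
      (principalBlock_isPBlock (M := M) (G := G ⧸ N)) hiff a.2
  have hw : ∀ (a : ↥(principalBlock M G)) (g : G), IsPRegular 3 g →
      ((a : IrrCharacter G) : G → ℂ) g =
        ∑ η : ↥(principalBlock M (G ⧸ N)), (n a η : ℂ) * ((η : IrrCharacter (G ⧸ N)) : G ⧸ N → ℂ) g := fun a g hg => by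
    rw [hn a g hg]
    exact Finset.sum_subtype _ (fun _ => Set.mem_toFinset)
      fun η => (n a η : ℂ) * (η : G ⧸ N → ℂ) g
  let F : O → G ⧸ N → ℂ := fun o x =>
    ∑ η : ↥(principalBlock M (G ⧸ N)), (P o η : ℂ) * ((η : IrrCharacter (G ⧸ N)) : G ⧸ N → ℂ) x
  have hFreg : ∀ o (x : G ⧸ N), ¬ IsPRegular 3 x → F o x = 0 := hP
  have horth : ∀ η η' : ↥(principalBlock M (G ⧸ N)), Cfsg.classInner ((η : IrrCharacter (G ⧸ N)) : G ⧸ N → ℂ)
      ((η' : IrrCharacter (G ⧸ N)) : G ⧸ N → ℂ) = if η = η' then 1 else 0 := fun η η' => by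
    rw [CfsgLib.Char.classInner_irr η.1.2 η'.1.2]
    exact if_congr ⟨fun h => Subtype.ext (Subtype.ext h), fun h => by rw [h]⟩ rfl rfl
  have hcard : (Nat.card G : ℂ) = 3 * (Nat.card (G ⧸ N) : ℂ) := by
    rw [Subgroup.card_eq_card_quotient_mul_card_subgroup N, hN]; push_cast; ring
  have hne : (Nat.card (G ⧸ N) : ℂ) ≠ 0 := Nat.cast_ne_zero.2 Nat.card_pos.ne'
  have hpairQ : ∀ (v : ↥(principalBlock M (G ⧸ N)) → ℂ) o,
      (3 : ℂ) * (Nat.card G : ℂ)⁻¹ * ∑ g ∈ CfsgLib.BlockRank.regSet (G := G) 3,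
        (∑ η : ↥(principalBlock M (G ⧸ N)), v η * ((η : IrrCharacter (G ⧸ N)) : G ⧸ N → ℂ) g) * conj (F o g) =
      ∑ η : ↥(principalBlock M (G ⧸ N)), v η * (P o η : ℂ) := by
    intro v o
    rw [CfsgLib.CentralQuot.sum_regular N Fact.out hc hp (fun x : G ⧸ N =>
      (∑ η : ↥(principalBlock M (G ⧸ N)), v η * ((η : IrrCharacter (G ⧸ N)) : G ⧸ N → ℂ) x) * conj (F o x)),
      Finset.sum_subset (Finset.subset_univ _) (fun x _ hx => by
        rw [hFreg o x fun hx' => hx (Finset.mem_filter.2 ⟨Finset.mem_univ _, hx'⟩), map_zero,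
          mul_zero]),
      hcard, show (3 : ℂ) * (3 * (Nat.card (G ⧸ N) : ℂ))⁻¹ = (Nat.card (G ⧸ N) : ℂ)⁻¹ by
        field_simp]
    have hexp : ∀ x : G ⧸ N,
        (∑ η : ↥(principalBlock M (G ⧸ N)), v η * ((η : IrrCharacter (G ⧸ N)) : G ⧸ N → ℂ) x) * conj (F o x) =
        ∑ η : ↥(principalBlock M (G ⧸ N)), ∑ η' : ↥(principalBlock M (G ⧸ N)), (v η * (P o η' : ℂ)) *
          (((η : IrrCharacter (G ⧸ N)) : G ⧸ N → ℂ) x *
            conj (((η' : IrrCharacter (G ⧸ N)) : G ⧸ N → ℂ) x)) := fun x => by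
      simp only [F, map_sum, map_mul, map_intCast, Finset.mul_sum, Finset.sum_mul]
      rw [Finset.sum_comm]
      exact Finset.sum_congr rfl fun η _ => Finset.sum_congr rfl fun η' _ => by ring
    rw [Finset.sum_congr rfl fun x _ => hexp x, Finset.sum_comm, Finset.mul_sum]
    refine Finset.sum_congr rfl fun η _ => ?_
    rw [Finset.sum_comm, Finset.mul_sum, Finset.sum_eq_single η]
    · rw [← Finset.mul_sum, mul_left_comm]
      have h := horth η η
      rw [if_pos rfl, Cfsg.classInner] at h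
      rw [h, mul_one]
    · intro η' _ hne'
      rw [← Finset.mul_sum, mul_left_comm]
      have h := horth η η'
      rw [if_neg (Ne.symm hne'), Cfsg.classInner] at h
      rw [h, mul_zero]
    · exact fun h => absurd (Finset.mem_univ _) h
  let f : O → G → ℂ := fun o g => if IsPRegular 3 g then 3 * F o g else 0
  have hfcl : ∀ o, Cfsg.IsClassFunction G (f o) := fun o g d => by
    simp only [f, F, CfsgLib.BlockRank.isPRegular_conj, QuotientGroup.mk_mul, QuotientGroup.mk_inv]
    congr 2
    exact Finset.sum_congr rfl fun η _ => congrArg _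
      (CfsgLib.Char.IsIrrCharacter.isClassFunction η.1.2 _ _)
  have hpairf : ∀ (θ : G → ℂ) o, Cfsg.classInner θ (f o) =
      (3 : ℂ) * (Nat.card G : ℂ)⁻¹ * ∑ g ∈ CfsgLib.BlockRank.regSet (G := G) 3,
        θ g * conj (F o g) := fun θ o => by
    rw [Cfsg.classInner, CfsgLib.BlockRank.regSet, Finset.sum_filter, Finset.mul_sum, Finset.mul_sum]
    refine Finset.sum_congr rfl fun g _ => ?_
    simp only [f]
    split_ifs <;> simp [map_ofNat] <;> ring
  have hpair : ∀ (a : ↥(principalBlock M G)) o,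
      Cfsg.classInner ((a : IrrCharacter G) : G → ℂ) (f o) =
        ((∑ η : ↥(principalBlock M (G ⧸ N)), n a η * P o η : ℤ) : ℂ) := by
    intro a o
    rw [hpairf, Finset.sum_congr rfl fun g hg => by
      rw [hw a g (Finset.mem_filter.1 hg).2], hpairQ (fun η => (n a η : ℂ)) o]
    push_cast
    rfl
  refine ⟨fun a η => n a η, hw, fun a a' h o => ?_, fun a η' h o => ?_, fun o o' => ?_⟩
  · have key : ((∑ η : ↥(principalBlock M (G ⧸ N)), n a η * P o η : ℤ) : ℂ) = ((∑ η : ↥(principalBlock M (G ⧸ N)), n a' η * P o η : ℤ) : ℂ) := by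
      rw [← hpair, ← hpair, hpairf, hpairf]
      congr 1
      exact Finset.sum_congr rfl fun g hg => by rw [h g (Finset.mem_filter.1 hg).2]
    exact_mod_cast key
  · have key : ((∑ η : ↥(principalBlock M (G ⧸ N)), n a η * P o η : ℤ) : ℂ) = (P o η' : ℂ) := by
      rw [← hpair, hpairf]
      have := hpairQ (fun η => if η = η' then 1 else 0) o
      simp only [ite_mul, one_mul, zero_mul, Finset.sum_ite_eq', Finset.mem_univ, if_true] at this
      rw [← this]
      congr 1
      exact Finset.sum_congr rfl fun g _ => by rw [h]; rfl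
    exact_mod_cast key
  -- the sum of products
  have hzero : ∀ (a : IrrCharacter G), a ∉ principalBlock M G → ∀ o,
      Cfsg.classInner (a : G → ℂ) (f o) = 0 := by
    intro a ha o
    have key : ∀ η : ↥(principalBlock M (G ⧸ N)), CfsgLib.BlockRank.regPair 3 (a : G → ℂ)
        ((infl N (η : IrrCharacter (G ⧸ N)) : IrrCharacter G) : G → ℂ) = 0 := by
      intro η
      have h := CfsgLib.BlockRank.regClosed_of_isPBlock hM principalBlock_isPBlock
        (infl N (η : IrrCharacter (G ⧸ N))) ((hiff η.1).1 η.2) a ha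
      rw [CfsgLib.BlockRank.classInner_pRegularPart_eq, mul_eq_zero] at h
      have h0 := h.resolve_left (inv_ne_zero (Nat.cast_ne_zero.2 Nat.card_pos.ne'))
      rw [CfsgLib.BlockRank.regPair] at h0 ⊢
      have h2 := congrArg conj h0
      rw [map_sum, map_zero] at h2
      rw [← h2]
      exact Finset.sum_congr rfl fun g _ => by rw [map_mul, Complex.conj_conj, mul_comm]
    rw [hpairf]
    simp only [F, map_sum, map_mul, map_intCast, Finset.mul_sum]
    rw [Finset.sum_comm]
    refine Finset.sum_eq_zero fun η _ => ?_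
    have h := congrArg (fun t => (3 : ℂ) * (Nat.card G : ℂ)⁻¹ * (P o η : ℂ) * t) (key η)
    simp only [mul_zero] at h
    rw [← h, CfsgLib.BlockRank.regPair, Finset.mul_sum]
    exact Finset.sum_congr rfl fun g _ => by
      simp only [coe_infl, Function.comp_apply]
      ring
  have hconj : ∀ (θ : IrrCharacter G) o,
      Cfsg.classInner (f o) (θ : G → ℂ) = conj (Cfsg.classInner (θ : G → ℂ) (f o)) := fun θ o => by
    rw [Cfsg.classInner, Cfsg.classInner, map_mul, map_inv₀, map_natCast, map_sum]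
    congr 1
    exact Finset.sum_congr rfl fun g _ => by rw [map_mul, Complex.conj_conj, mul_comm]
  have htot : Cfsg.classInner (f o) (f o') = ∑ a : IrrCharacter G,
      Cfsg.classInner (f o) (a : G → ℂ) * Cfsg.classInner (a : G → ℂ) (f o') := by
    conv_lhs => rw [CfsgLib.Char.IsClassFunction.eq_sum_classInner (hfcl o)]
    simp only [Cfsg.classInner, Finset.sum_apply, Pi.smul_apply, smul_eq_mul, Finset.sum_mul,
      Finset.mul_sum]
    rw [Finset.sum_comm]
    exact Finset.sum_congr rfl fun a _ => Finset.sum_congr rfl fun g _ => Finset.sum_congr rfl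
      fun g' _ => by ring
  have key : ((∑ a : ↥(principalBlock M G),
      (∑ η : ↥(principalBlock M (G ⧸ N)), n a η * P o η) * (∑ η : ↥(principalBlock M (G ⧸ N)), n a η * P o' η) : ℤ) : ℂ) =
      ((3 * ∑ η : ↥(principalBlock M (G ⧸ N)), P o η * P o' η : ℤ) : ℂ) := by
    have h1 : Cfsg.classInner (f o) (f o') = ∑ a : ↥(principalBlock M G),
        ((∑ η : ↥(principalBlock M (G ⧸ N)), n a η * P o η : ℤ) : ℂ) * ((∑ η : ↥(principalBlock M (G ⧸ N)), n a η * P o' η : ℤ) : ℂ) := by
      rw [htot, ← Finset.sum_subset (Finset.subset_univ (principalBlock M G).toFinset)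
        (fun a _ ha => by rw [hzero a (fun h => ha (Set.mem_toFinset.2 h)) o', mul_zero]),
        Finset.sum_subtype _ (fun _ => Set.mem_toFinset)
          (fun a : IrrCharacter G => Cfsg.classInner (f o) (a : G → ℂ) *
            Cfsg.classInner (a : G → ℂ) (f o'))]
      exact Finset.sum_congr rfl fun a _ => by rw [hconj, hpair, hpair, map_intCast]
    push_cast at h1 ⊢
    rw [← h1, hpairf, Finset.sum_congr rfl fun g hg => by
      simp only [f, if_pos (Finset.mem_filter.1 hg).2, mul_assoc]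
      rw [show F o g * conj (F o' g) =
        (∑ η : ↥(principalBlock M (G ⧸ N)), (P o η : ℂ) * ((η : IrrCharacter (G ⧸ N)) : G ⧸ N → ℂ) g) * conj (F o' g)
        from rfl], ← Finset.mul_sum, mul_left_comm, hpairQ (fun η => (P o η : ℂ)) o']
  exact_mod_cast key

end CfsgLib.Blk83.Ex27
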