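import Cfsg.Agent.Lib.Blk83.CyclicShape
import Mathlib.Data.Complex.Basic
import Mathlib.Tactic.FieldSimp
import Mathlib.Tactic.IntervalCases

/-!
Integral vectors: the columns of norm nine, the vectors orthogonal to them and the supports of
their lifts.
-/

set_option autoImplicit false
set_option maxHeartbeats 1000000

open scoped Classical

namespace CfsgLib.Blk83.Ex27

variable {K : Type*} [Fintype K] {Q : Type*} [Fintype Q]

/-- The shape of a family of orthogonal columns of norm nine. -/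
structure Shape (x : Q → K → ℤ) (z : Q → K) (O : Finset K) : Prop where
  zinj : Function.Injective z
  two : ∀ q, x q (z q) = 2 ∨ x q (z q) = -2
  other : ∀ q q', q ≠ q' → 2 * x q (z q') = -x q' (z q')
  notMem : ∀ q, z q ∉ O
  card : O.card + Fintype.card Q = 6
  ord : ∀ k ∈ O, (∀ q, x q k = 1) ∨ (∀ q, x q k = -1)
  zero : ∀ k ∉ O, (∀ q, z q ≠ k) → ∀ q, x q k = 0

/-- A single column. -/
theorem column_cases (x deg : K → ℤ) (k₀ : K) (hd0 : deg k₀ = 1) (h1 : x k₀ = 1)
    (h9 : ∑ k, x k * x k = 9) (h0 : ∑ k, x k * deg k = 0) :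
    ((∀ k, x k = 0 ∨ x k = 1 ∨ x k = -1) ∧ (Finset.univ.filter fun k => x k ≠ 0).card = 9) ∨
      ∃ z, (x z = 2 ∨ x z = -2) ∧ (∀ k ≠ z, x k = 0 ∨ x k = 1 ∨ x k = -1) ∧
        (Finset.univ.filter fun k => x k ≠ 0).card = 6 := by
  have hb : ∀ k, -2 ≤ x k ∧ x k ≤ 2 := by
    intro k
    by_cases hk : k = k₀
    · subst hk; omega
    · have : x k * x k + x k₀ * x k₀ ≤ 9 := by
        rw [← h9, ← Finset.sum_pair (f := fun i => x i * x i) hk]
        exact Finset.sum_le_sum_of_subset_of_nonneg (Finset.subset_univ _)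
          fun i _ _ => mul_self_nonneg _
      rw [h1] at this
      constructor <;> nlinarith
  have hval : ∀ k, x k = -2 ∨ x k = -1 ∨ x k = 0 ∨ x k = 1 ∨ x k = 2 := fun k => by
    have := hb k; omega
  set S2 := Finset.univ.filter fun k => x k = 2 ∨ x k = -2 with hS2
  set S1 := Finset.univ.filter fun k => x k = 1 ∨ x k = -1 with hS1
  have hsum : 4 * (S2.card : ℤ) + S1.card = 9 := by
    rw [← h9]
    have e : ∀ k, x k * x k =
        (if k ∈ S2 then (4 : ℤ) else 0) + (if k ∈ S1 then 1 else 0) := by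
      intro k
      rcases hval k with h | h | h | h | h <;> simp [hS1, hS2, h]
    simp only [e, Finset.sum_add_distrib, Finset.sum_ite_mem, Finset.univ_inter, Finset.sum_const,
      nsmul_eq_mul, mul_one]
    ring
  have hsupp : (Finset.univ.filter fun k => x k ≠ 0) = S2 ∪ S1 := by
    ext k
    rcases hval k with h | h | h | h | h <;> simp [hS1, hS2, h]
  have hdis : Disjoint S2 S1 := Finset.disjoint_left.2 fun k h2 h1' => by
    simp only [hS1, hS2, Finset.mem_filter] at h2 h1'
    omega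
  rw [hsupp, Finset.card_union_of_disjoint hdis]
  have hk₀ : k₀ ∈ S1 := Finset.mem_filter.2 ⟨Finset.mem_univ _, Or.inl h1⟩
  have hS1pos : 0 < S1.card := Finset.card_pos.2 ⟨k₀, hk₀⟩
  rcases (show S2.card = 0 ∨ S2.card = 1 ∨ S2.card = 2 by omega) with h | h | h
  · refine Or.inl ⟨fun k => ?_, by omega⟩
    have hk : k ∉ S2 := by rw [Finset.card_eq_zero.1 h]; exact Finset.notMem_empty _
    simp only [hS2, Finset.mem_filter, Finset.mem_univ, true_and, not_or] at hk
    have := hval k
    omega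
  · obtain ⟨z, hz⟩ := Finset.card_eq_one.1 h
    have hz2 : z ∈ S2 := hz ▸ Finset.mem_singleton_self z
    refine Or.inr ⟨z, (Finset.mem_filter.1 hz2).2, fun k hk => ?_, by omega⟩
    have hk' : k ∉ S2 := by rw [hz]; simpa using hk
    simp only [hS2, Finset.mem_filter, Finset.mem_univ, true_and, not_or] at hk'
    have := hval k
    omega
  · -- parity
    exfalso
    have h1c : S1 = {k₀} := by
      obtain ⟨w, hw⟩ := Finset.card_eq_one.1 (show S1.card = 1 by omega)
      rw [hw] at hk₀ ⊢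
      rw [Finset.mem_singleton.1 hk₀]
    have hev : (2 : ℤ) ∣ ∑ k ∈ Finset.univ.erase k₀, x k * deg k := by
      refine Finset.dvd_sum fun k hk => ?_
      have hk' : k ∉ S1 := by rw [h1c]; simpa using (Finset.mem_erase.1 hk).1
      simp only [hS1, Finset.mem_filter, Finset.mem_univ, true_and, not_or] at hk'
      rcases hval k with hv | hv | hv | hv | hv <;> rw [hv]
      · exact ⟨-deg k, by ring⟩
      · exact absurd hv hk'.2
      · simp
      · exact absurd hv hk'.1
      · exact ⟨deg k, by ring⟩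
    rw [← Finset.add_sum_erase _ _ (Finset.mem_univ k₀), h1, hd0] at h0
    obtain ⟨c, hc⟩ := hev
    omega

/-- **The shape of the columns.** -/
theorem exists_shape_columns (x : Q → K → ℤ) (deg : K → ℤ) (hdeg : ∀ k, 0 < deg k) (k₀ : K)
    (hd0 : deg k₀ = 1) (h1 : ∀ q, x q k₀ = 1)
    (hgram : ∀ q q', ∑ k, x q k * x q' k = if q = q' then 9 else 0)
    (h0 : ∀ q, ∑ k, x q k * deg k = 0) (hcg : ∀ q k, (3 : ℤ) ∣ deg k - x q k) [Nonempty Q] :
    (∃ z O, Shape x z O) ∨ (Fintype.card Q = 1 ∧ ∀ q,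
      (∀ k, x q k = 0 ∨ x q k = 1 ∨ x q k = -1) ∧
        (Finset.univ.filter fun k => x q k ≠ 0).card = 9) := by
  have hcase := fun q => column_cases (x q) deg k₀ hd0 (h1 q) (by rw [hgram, if_pos rfl]) (h0 q)
  have hbound : ∀ q k, -2 ≤ x q k ∧ x q k ≤ 2 := fun q k => by
    rcases hcase q with ⟨h, -⟩ | ⟨z, hz, h, -⟩
    · have := h k; omega
    · by_cases hk : k = z
      · subst hk; omega
      · have := h k hk; omega
  rcases (Nat.one_le_iff_ne_zero.2 (Fintype.card_ne_zero (α := Q))).lt_or_eq with hlt | heq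
  swap
  · obtain ⟨q₀⟩ := ‹Nonempty Q›
    haveI : Subsingleton Q := Fintype.card_le_one_iff_subsingleton.1 heq.symm.le
    rcases hcase q₀ with h | ⟨z, hz, h, hc⟩
    · exact Or.inr ⟨heq.symm, fun q => Subsingleton.elim q₀ q ▸ h⟩
    refine Or.inl ⟨fun _ => z, (Finset.univ.filter fun k => x q₀ k ≠ 0).erase z,
      fun q q' _ => Subsingleton.elim q q', fun q => Subsingleton.elim q₀ q ▸ hz,
      fun q q' hne => absurd (Subsingleton.elim q q') hne, fun _ => Finset.notMem_erase _ _,
      ?_, fun k hk => ?_, fun k hk hkz q => ?_⟩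
    · rw [Finset.card_erase_of_mem (Finset.mem_filter.2 ⟨Finset.mem_univ _, by omega⟩), hc, ← heq]
    · rw [Finset.mem_erase, Finset.mem_filter] at hk
      rcases h k hk.1 with h' | h' | h'
      · exact absurd h' hk.2.2
      · exact Or.inl fun q => Subsingleton.elim q₀ q ▸ h'
      · exact Or.inr fun q => Subsingleton.elim q₀ q ▸ h'
    · rw [Subsingleton.elim q q₀]
      by_contra hne
      exact hk (Finset.mem_erase.2 ⟨Ne.symm (hkz q), Finset.mem_filter.2 ⟨Finset.mem_univ _, hne⟩⟩)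
  left
  have hpair : ∀ q q', q ≠ q' → ∃ α β : K, α ≠ β ∧
      (∀ k, k ≠ α → k ≠ β → x q k = x q' k) ∧ x q α = x q' α + 3 ∧ x q' β = x q β + 3 := by
    intro q q' hne
    have hd : ∀ k, ∃ v, x q k - x q' k = 3 * v := fun k => by
      have := dvd_sub (hcg q' k) (hcg q k)
      rw [sub_sub_sub_cancel_left] at this
      exact this
    choose v hv using hd
    have h2 : ∑ k, v k * v k = 2 := by
      have h18 : ∑ k, (x q k - x q' k) * (x q k - x q' k) = 18 := by
        simp only [sub_mul, mul_sub, Finset.sum_sub_distrib]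
        rw [hgram, hgram, hgram, hgram, if_pos rfl, if_pos rfl, if_neg hne, if_neg (Ne.symm hne)]
        norm_num
      simp only [hv] at h18
      rw [show ∑ k, 3 * v k * (3 * v k) = 9 * ∑ k, v k * v k by
        rw [Finset.mul_sum]; exact Finset.sum_congr rfl fun k _ => by ring] at h18
      linarith
    have hv0 : ∑ k, v k * deg k = 0 := by
      have h3 : ∑ k, (x q k - x q' k) * deg k = 0 := by
        simp only [sub_mul, Finset.sum_sub_distrib, h0, sub_zero]
      simp only [hv, mul_assoc, ← Finset.mul_sum] at h3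
      linarith
    obtain ⟨α, β, hab, hvv⟩ := exists_eq_sub_of_norm_two_aux v deg hdeg h2 hv0
    refine ⟨α, β, hab, fun k hα hβ => ?_, ?_, ?_⟩
    · have := hv k; rw [hvv, if_neg hα, if_neg hβ] at this; omega
    · have := hv α; rw [hvv, if_pos rfl, if_neg hab] at this; omega
    · have := hv β; rw [hvv, if_neg (Ne.symm hab), if_pos rfl] at this; omega
  have hz : ∀ q, ∃ z, (x q z = 2 ∨ x q z = -2) ∧
      (∀ k ≠ z, x q k = 0 ∨ x q k = 1 ∨ x q k = -1) ∧
      (Finset.univ.filter fun k => x q k ≠ 0).card = 6 := by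
    intro q
    obtain ⟨q', hq'⟩ := Fintype.exists_ne_of_one_lt_card hlt q
    obtain ⟨α, β, hab, -, hα, hβ⟩ := hpair q q' hq'.symm
    rcases hcase q with ⟨h, -⟩ | h
    · exfalso
      rcases hcase q' with ⟨h', -⟩ | ⟨z', -, h', -⟩
      · have := h α; have := h' α; omega
      · by_cases hz' : α = z'
        · have := h β; have := h' β (hz' ▸ hab.symm); omega
        · have := h α; have := h' α hz'; omega
    · exact h
  choose z hz2 hz1 hz6 using hz
  have huniq : ∀ q k, (x q k = 2 ∨ x q k = -2) → k = z q := fun q k hk => by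
    by_contra hne
    have := hz1 q k hne
    omega
  have hdiff : ∀ q q', q ≠ q' → z q ≠ z q' ∧ (∀ k, k ≠ z q → k ≠ z q' → x q k = x q' k) ∧
      2 * x q (z q') = -x q' (z q') := by
    intro q q' hne
    obtain ⟨α, β, hab, hrest, hα, hβ⟩ := hpair q q' hne
    have hbα := hbound q α
    have hbα' := hbound q' α
    have hbβ := hbound q β
    have hbβ' := hbound q' β
    by_cases hA : α = z q
    · have hB : β = z q' := by
        rcases (show (x q β = 2 ∨ x q β = -2) ∨ (x q' β = 2 ∨ x q' β = -2) by omega) with h | h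
        · exact absurd (hA.trans (huniq q β h).symm) hab
        · exact huniq q' β h
      subst hA hB
      refine ⟨hab, fun k h1 h2 => hrest k h1 h2, ?_⟩
      have := hz1 q (z q') hab.symm
      have := hz2 q'
      omega
    · have hA' : α = z q' := huniq q' α (by
        have := hz1 q α hA; omega)
      have hB : β = z q := by
        rcases (show (x q β = 2 ∨ x q β = -2) ∨ (x q' β = 2 ∨ x q' β = -2) by omega) with h | h
        · exact huniq q β h
        · exact absurd (hA'.trans (huniq q' β h).symm) hab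
      subst hA' hB
      refine ⟨hab.symm, fun k h1 h2 => hrest k h2 h1, ?_⟩
      have := hz1 q (z q') hab
      have := hz2 q'
      omega
  obtain ⟨q₀⟩ := ‹Nonempty Q›
  have hinj : Function.Injective z := fun q q' h => by
    by_contra hne
    exact (hdiff q q' hne).1 h
  have hrow : ∀ k, (∀ q, z q ≠ k) → ∀ q, x q k = x q₀ k := fun k hk q => by
    by_cases hq : q = q₀
    · rw [hq]
    · exact (hdiff q q₀ hq).2.1 k (hk q).symm (hk q₀).symm
  refine ⟨z, (Finset.univ.filter fun k => x q₀ k ≠ 0) \ Finset.univ.image z, hinj, hz2,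
    fun q q' hne => (hdiff q q' hne).2.2, fun q => by simp, ?_, fun k hk => ?_, fun k hk hkz q => ?_⟩
  · rw [Finset.card_sdiff_of_subset, Finset.card_image_of_injective _ hinj, Finset.card_univ, hz6]
    · have hle : (Finset.univ.image z).card ≤ (Finset.univ.filter fun k => x q₀ k ≠ 0).card :=
        Finset.card_le_card (image_subset_support hz2 fun q q' hne => (hdiff q q' hne).2.2)
      rw [Finset.card_image_of_injective _ hinj, Finset.card_univ, hz6] at hle
      omega
    · exact image_subset_support hz2 fun q q' hne => (hdiff q q' hne).2.2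
  · simp only [Finset.mem_sdiff, Finset.mem_filter, Finset.mem_univ, true_and, Finset.mem_image,
      not_exists] at hk
    rcases hz1 q₀ k (fun h => hk.2 q₀ h.symm) with h | h | h
    · exact absurd h hk.1
    · exact Or.inl fun q => (hrow k hk.2 q).trans h
    · exact Or.inr fun q => (hrow k hk.2 q).trans h
  · rw [hrow k hkz q]
    by_contra hne
    exact hk (Finset.mem_sdiff.2 ⟨Finset.mem_filter.2 ⟨Finset.mem_univ _, hne⟩, by simpa using hkz⟩)
where
  exists_eq_sub_of_norm_two_aux (v deg : K → ℤ) (hdeg : ∀ i, 0 < deg i)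
      (h2 : ∑ i, v i * v i = 2) (h0 : ∑ i, v i * deg i = 0) :
      ∃ α β : K, α ≠ β ∧ ∀ i, v i = (if i = α then 1 else 0) - (if i = β then 1 else 0) :=
    CfsgLib.Blk83.Cyc.exists_eq_sub_of_norm_two v deg hdeg h2 h0
  image_subset_support {x : Q → K → ℤ} {z : Q → K} (hz2 : ∀ q, x q (z q) = 2 ∨ x q (z q) = -2)
      (hd : ∀ q q', q ≠ q' → 2 * x q (z q') = -x q' (z q')) {q₀ : Q} :
      Finset.univ.image z ⊆ Finset.univ.filter fun k => x q₀ k ≠ 0 := by
    intro k hk
    obtain ⟨q, -, rfl⟩ := Finset.mem_image.1 hk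
    refine Finset.mem_filter.2 ⟨Finset.mem_univ _, ?_⟩
    by_cases h : q₀ = q
    · subst h; have := hz2 q₀; omega
    · have := hd q₀ q h; have := hz2 q; omega

/-- The supports of lifted vectors, the common part. -/
theorem lift_supports {J : Type*} (deg : K → ℤ) (hdeg : ∀ k, 0 < deg k) (N F : J → K → ℤ)
    (hN2 : ∀ j, ∑ k, N j k * N j k = 2) (hN0 : ∀ j, ∑ k, N j k * deg k = 0)
    (hNN : ∀ i j, i ≠ j → ∑ k, N i k * N j k = 0) (hF3 : ∀ j, ∑ k, F j k * F j k = 3)
    (hFN : ∀ i j, i ≠ j → ∑ k, F i k * N j k = 0)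
    (hFN1 : ∀ j, ∑ k, F j k * N j k = 1 ∨ ∑ k, F j k * N j k = -1) :
    ∃ A A' : J → K, (∀ j, A j ≠ A' j) ∧
      (∀ i j, i ≠ j → A i ≠ A j ∧ A i ≠ A' j ∧ A' i ≠ A j ∧ A' i ≠ A' j) ∧
      (∀ j k, k ≠ A j → k ≠ A' j → N j k = 0) ∧
      (∀ j (w : K → ℤ), ∑ k, w k * N j k = w (A j) - w (A' j)) ∧
      ∀ j, ∃ P B C : K, (P = A j ∨ P = A' j) ∧ P ≠ B ∧ P ≠ C ∧ B ≠ C ∧
        B ≠ A j ∧ B ≠ A' j ∧ C ≠ A j ∧ C ≠ A' j ∧
        (F j P = 1 ∨ F j P = -1) ∧ (F j B = 1 ∨ F j B = -1) ∧ (F j C = 1 ∨ F j C = -1) ∧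
        ∀ k, k ≠ P → k ≠ B → k ≠ C → F j k = 0 := by
  choose A A' hne hNv using fun j =>
    CfsgLib.Blk83.Cyc.exists_eq_sub_of_norm_two (N j) deg hdeg (hN2 j) (hN0 j)
  have hdot : ∀ j (w : K → ℤ), ∑ k, w k * N j k = w (A j) - w (A' j) := fun j w => by
    simp [hNv, mul_sub, mul_ite, Finset.sum_sub_distrib]
  refine ⟨A, A', hne, fun i j hij => ?_, fun j k h h' => by rw [hNv, if_neg h, if_neg h', sub_zero],
    hdot, fun j => ?_⟩
  · have h := hNN i j hij
    rw [hdot] at h
    simp only [hNv] at h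
    have h1 := hne i
    have h2 := hne j
    refine ⟨?_, ?_, ?_, ?_⟩ <;> intro e
    · rw [← e, if_pos rfl, if_neg h1] at h
      rw [if_neg (show A' j ≠ A i from fun e' => h2 (e.symm.trans e'.symm))] at h
      split_ifs at h <;> omega
    · rw [← e, if_pos rfl, if_neg h1] at h
      rw [if_neg (show A j ≠ A i from fun e' => h2 (e'.trans e))] at h
      split_ifs at h <;> omega
    · rw [← e, if_pos rfl, if_neg (Ne.symm h1)] at h
      rw [if_neg (show A' j ≠ A' i from fun e' => h2 (e.symm.trans e'.symm))] at h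
      split_ifs at h <;> omega
    · rw [← e, if_pos rfl, if_neg (Ne.symm h1)] at h
      rw [if_neg (show A j ≠ A' i from fun e' => h2 (e'.trans e))] at h
      split_ifs at h <;> omega
  have h3 := hF3 j
  have hval : ∀ k, F j k = 0 ∨ F j k = 1 ∨ F j k = -1 := by
    intro k
    have h : F j k * F j k ≤ 3 :=
      h3 ▸ Finset.single_le_sum (f := fun k => F j k * F j k)
        (fun k _ => mul_self_nonneg _) (Finset.mem_univ k)
    have h4 : -1 ≤ F j k ∧ F j k ≤ 1 := ⟨by nlinarith, by nlinarith⟩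
    omega
  set S := Finset.univ.filter fun k => F j k ≠ 0 with hS
  have hcard : S.card = 3 := by
    have h : ∑ k ∈ S, F j k * F j k = 3 := by
      rw [hS, Finset.sum_filter, ← h3]
      exact Finset.sum_congr rfl fun k _ => by split_ifs with h <;> simp_all
    rw [Finset.sum_congr rfl fun k hk => show F j k * F j k = 1 by
      rcases hval k with e | e | e <;> simp_all, Finset.sum_const, nsmul_eq_mul, mul_one] at h
    exact_mod_cast h
  have hown := hFN1 j
  rw [hdot] at hown
  obtain ⟨P, P', hP, hPne, hPmem, hP'0⟩ : ∃ P P', ((P = A j ∧ P' = A' j) ∨ (P = A' j ∧ P' = A j)) ∧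
      P ≠ P' ∧ F j P ≠ 0 ∧ F j P' = 0 := by
    have ha := hval (A j)
    have hb := hval (A' j)
    rcases (show (F j (A j) ≠ 0 ∧ F j (A' j) = 0) ∨ (F j (A' j) ≠ 0 ∧ F j (A j) = 0) by omega) with
      h | h
    · exact ⟨_, _, Or.inl ⟨rfl, rfl⟩, hne j, h.1, h.2⟩
    · exact ⟨_, _, Or.inr ⟨rfl, rfl⟩, (hne j).symm, h.1, h.2⟩
  have hPS : P ∈ S := Finset.mem_filter.2 ⟨Finset.mem_univ _, hPmem⟩
  obtain ⟨B, C, hBC, hSe⟩ := Finset.card_eq_two.1
    (show (S.erase P).card = 2 by rw [Finset.card_erase_of_mem hPS, hcard])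
  have hBmem : B ∈ S.erase P := hSe ▸ Finset.mem_insert_self _ _
  have hCmem : C ∈ S.erase P := hSe ▸ Finset.mem_insert_of_mem (Finset.mem_singleton_self _)
  rw [hS, Finset.mem_erase, Finset.mem_filter] at hBmem hCmem
  refine ⟨P, B, C, hP.imp And.left And.left, hBmem.1.symm, hCmem.1.symm, hBC, ?_, ?_, ?_, ?_,
    ?_, ?_, ?_, fun k h1 h2 h3 => ?_⟩
  · rcases hP with ⟨e, e'⟩ | ⟨e, e'⟩
    · exact e ▸ hBmem.1
    · exact fun h => hBmem.2.2 (by rw [h, ← e', hP'0])
  · rcases hP with ⟨e, e'⟩ | ⟨e, e'⟩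
    · exact fun h => hBmem.2.2 (by rw [h, ← e', hP'0])
    · exact e ▸ hBmem.1
  · rcases hP with ⟨e, e'⟩ | ⟨e, e'⟩
    · exact e ▸ hCmem.1
    · exact fun h => hCmem.2.2 (by rw [h, ← e', hP'0])
  · rcases hP with ⟨e, e'⟩ | ⟨e, e'⟩
    · exact fun h => hCmem.2.2 (by rw [h, ← e', hP'0])
    · exact e ▸ hCmem.1
  · exact (hval P).resolve_left hPmem
  · exact (hval B).resolve_left hBmem.2.2
  · exact (hval C).resolve_left hCmem.2.2
  · by_contra hk
    have : k ∈ S.erase P := Finset.mem_erase.2 ⟨h1, Finset.mem_filter.2 ⟨Finset.mem_univ _, hk⟩⟩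
    rw [hSe] at this
    simp [h2, h3] at this

/-- A sum supported at three points. -/
theorem sum_three {P B C : K} (hPB : P ≠ B) (hPC : P ≠ C) (hBC : B ≠ C) (f : K → ℤ)
    (hf : ∀ k, k ≠ P → k ≠ B → k ≠ C → f k = 0) : ∑ k, f k = f P + f B + f C := by
  rw [← Finset.sum_subset (Finset.subset_univ {P, B, C}) fun k _ hk => by
    simp only [Finset.mem_insert, Finset.mem_singleton, not_or] at hk
    exact hf k hk.1 hk.2.1 hk.2.2,
    Finset.sum_insert (by simp [hPB, hPC]), Finset.sum_pair hBC, add_assoc]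

/-- **The supports of the lifts.** -/
theorem supports_of_lifts {J : Type*} [Fintype J] (x : Q → K → ℤ) (deg : K → ℤ)
    (hdeg : ∀ k, 0 < deg k) (q₀ : Q)
    (hshape : (∃ z O, Shape x z O ∧ Fintype.card J = O.card) ∨
      ((∀ k, x q₀ k = 0 ∨ x q₀ k = 1 ∨ x q₀ k = -1) ∧
        (Finset.univ.filter fun k => x q₀ k ≠ 0).card = 9 ∧ 5 ≤ Fintype.card J))
    (N F : J → K → ℤ)
    (hN2 : ∀ j, ∑ k, N j k * N j k = 2) (hN0 : ∀ j, ∑ k, N j k * deg k = 0)
    (hNN : ∀ i j, i ≠ j → ∑ k, N i k * N j k = 0) (hF3 : ∀ j, ∑ k, F j k * F j k = 3)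
    (hFN : ∀ i j, i ≠ j → ∑ k, F i k * N j k = 0)
    (hFN1 : ∀ j, ∑ k, F j k * N j k = 1 ∨ ∑ k, F j k * N j k = -1)
    (hFF : ∀ i j, i ≠ j → ∑ k, F i k * F j k = 1)
    (hNx : ∀ j q, ∑ k, x q k * N j k = 0)
    (hFx : ∀ j, ∑ k, x q₀ k * F j k = 3 ∨ ∑ k, x q₀ k * F j k = -3)
    (hFx0 : ∀ j q, q ≠ q₀ → ∑ k, x q k * F j k = 0) :
    ∃ (z : Q → K) (O : Finset K) (T : Finset K), Shape x z O ∧ Fintype.card J = O.card ∧
      T.card = 2 * Fintype.card J ∧ (∀ k ∈ T, ∀ q, x q k = 0) ∧
      ∀ k, (∀ q, x q k = 0) → k ∉ T → ∀ j, N j k = 0 ∧ F j k = 0 := by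
  obtain ⟨A, A', hne, hdis, hNsupp, hdot, hFs⟩ :=
    lift_supports deg hdeg N F hN2 hN0 hNN hF3 hFN hFN1
  have hAA : ∀ j q, x q (A j) = x q (A' j) := fun j q => by
    have := hNx j q
    rw [hdot] at this
    omega
  choose P B C hP hPB hPC hBC hBA hBA' hCA hCA' hFP hFB hFC hF0 using hFs
  have hx3 : ∀ j q, ∑ k, x q k * F j k =
      x q (P j) * F j (P j) + x q (B j) * F j (B j) + x q (C j) * F j (C j) := fun j q =>
    sum_three (hPB j) (hPC j) (hBC j) (fun k => x q k * F j k)
      fun k h1 h2 h3 => by simp [hF0 j k h1 h2 h3]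
  have hxP : ∀ j q, x q (P j) = x q (A j) := fun j q => by
    rcases hP j with h | h <;> rw [h]
    exact (hAA j q).symm
  set Jin := Finset.univ.filter fun j => x q₀ (A j) ≠ 0 with hJin
  have hpairs : ∀ (T : Finset J), (T.image A ∪ T.image A').card = 2 * T.card := by
    intro T
    rw [Finset.card_union_of_disjoint, Finset.card_image_of_injective, Finset.card_image_of_injective,
      two_mul]
    · exact fun i j h => by_contra fun hij => (hdis i j hij).2.2.2 h
    · exact fun i j h => by_contra fun hij => (hdis i j hij).1 h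
    · rw [Finset.disjoint_left]
      rintro k hk hk'
      obtain ⟨i, -, rfl⟩ := Finset.mem_image.1 hk
      obtain ⟨j, -, h⟩ := Finset.mem_image.1 hk'
      by_cases hij : i = j
      · subst hij; exact hne i h.symm
      · exact (hdis i j hij).2.1 h.symm
  -- outside: one coordinate of absolute value two
  have hout : ∀ j, x q₀ (A j) = 0 → (x q₀ (B j) = 2 ∨ x q₀ (B j) = -2) ∨
      (x q₀ (C j) = 2 ∨ x q₀ (C j) = -2) ∨
      (x q₀ (B j) < -2 ∨ 2 < x q₀ (B j)) ∨ (x q₀ (C j) < -2 ∨ 2 < x q₀ (C j)) := by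
    intro j hj
    have h := hFx j
    rw [hx3, hxP, hj] at h
    rcases hFB j with e | e <;> rcases hFC j with e' | e' <;> rw [e, e'] at h <;> omega
  rcases hshape with ⟨z, O, hS, hJ⟩ | ⟨hu, h9, hJ⟩
  swap
  · exfalso
    have hall : Jin = Finset.univ := Finset.eq_univ_of_forall fun j => Finset.mem_filter.2
      ⟨Finset.mem_univ _, fun hj => by
        have := hout j hj; have := hu (B j); have := hu (C j); omega⟩
    have h1 : (Jin.image A ∪ Jin.image A').card ≤
        (Finset.univ.filter fun k => x q₀ k ≠ 0).card := Finset.card_le_card fun k hk => by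
      rw [Finset.mem_filter]
      refine ⟨Finset.mem_univ _, ?_⟩
      rcases Finset.mem_union.1 hk with h | h <;> obtain ⟨j, hj, rfl⟩ := Finset.mem_image.1 h
      · exact (Finset.mem_filter.1 hj).2
      · rw [← hAA]; exact (Finset.mem_filter.1 hj).2
    rw [hpairs, hall, Finset.card_univ, h9] at h1
    omega
  -- the values of a shape
  have hrowO : ∀ k ∈ O, ∀ q, x q k = 1 ∨ x q k = -1 := fun k hk q =>
    (hS.ord k hk).imp (fun h => h q) fun h => h q
  have hrow : ∀ k, k ∉ O → (∀ q, x q k = 0) ∨ ∃ q, z q = k := fun k hk => by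
    by_cases h : ∃ q, z q = k
    · exact Or.inr h
    · exact Or.inl (hS.zero k hk (not_exists.1 h))
  have hbound : ∀ k q, -2 ≤ x q k ∧ x q k ≤ 2 ∧
      ((x q k = 2 ∨ x q k = -2) → k = z q) := by
    intro k q
    by_cases hk : k ∈ O
    · have := hrowO k hk q
      exact ⟨by omega, by omega, fun h => by omega⟩
    rcases hrow k hk with h | ⟨q', rfl⟩
    · have := h q
      exact ⟨by omega, by omega, fun h => by omega⟩
    by_cases hq : q = q'
    · subst hq
      have := hS.two q
      exact ⟨by omega, by omega, fun _ => rfl⟩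
    · have := hS.other q q' hq
      have := hS.two q'
      exact ⟨by omega, by omega, fun h => by omega⟩
  -- members of pairs are not exceptional
  have hnotz : ∀ j q, A j ≠ z q ∧ A' j ≠ z q := by
    intro j q
    constructor <;> intro h
    · refine hne j ((hbound (A' j) q).2.2 ?_ ▸ h)
      rw [← hAA, h]; exact hS.two q
    · refine hne j (h ▸ ((hbound (A j) q).2.2 ?_))
      rw [hAA, h]; exact hS.two q
  have hpairO : ∀ j, A j ∈ O ∨ ∀ q, x q (A j) = 0 := fun j => by
    by_cases h : A j ∈ O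
    · exact Or.inl h
    · exact Or.inr ((hrow _ h).resolve_right fun ⟨q, hq⟩ => (hnotz j q).1 hq.symm)
  -- outside: the two further coordinates
  have key : ∀ j, x q₀ (A j) = 0 → ∃ c ∈ O, (∀ i, c ≠ A i ∧ c ≠ A' i) ∧
      ((B j = z q₀ ∧ C j = c) ∨ (C j = z q₀ ∧ B j = c)) := by
    intro j hj
    have hj0 : ∀ q, x q (A j) = 0 := (hpairO j).resolve_left fun h => by
      have := hrowO _ h q₀; omega
    obtain ⟨b, c, hbc, hb, hset⟩ : ∃ b c, b ≠ c ∧ b = z q₀ ∧
        ((B j = b ∧ C j = c) ∨ (C j = b ∧ B j = c)) := by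
      rcases hout j hj with h | h | h | h
      · exact ⟨B j, C j, hBC j, (hbound _ _).2.2 h, Or.inl ⟨rfl, rfl⟩⟩
      · exact ⟨C j, B j, (hBC j).symm, (hbound _ _).2.2 h, Or.inr ⟨rfl, rfl⟩⟩
      · have := hbound (B j) q₀; omega
      · have := hbound (C j) q₀; omega
    subst hb
    have hF : (F j (z q₀) = 1 ∨ F j (z q₀) = -1) ∧ (F j c = 1 ∨ F j c = -1) ∧
        (∀ q, ∑ k, x q k * F j k = x q (z q₀) * F j (z q₀) + x q c * F j c) ∧
        c ≠ A j ∧ c ≠ A' j := by
      rcases hset with ⟨e1, e2⟩ | ⟨e1, e2⟩ <;> subst e2 <;> rw [← e1]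
      · exact ⟨hFB j, hFC j, fun q => by rw [hx3, hxP, hj0, zero_mul, zero_add], hCA j, hCA' j⟩
      · exact ⟨hFC j, hFB j, fun q => by rw [hx3, hxP, hj0, zero_mul, zero_add, add_comm],
          hBA j, hBA' j⟩
    obtain ⟨hFb, hFc, hsum, hcA, hcA'⟩ := hF
    have hc0 : x q₀ c ≠ 0 := by
      intro h0
      have h := hFx j
      rw [hsum, h0] at h
      have := hS.two q₀
      rcases hFb with e | e <;> rw [e] at h <;> omega
    have hcO : c ∈ O := by
      by_contra hcO
      rcases hrow c hcO with h | ⟨q, rfl⟩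
      · exact hc0 (h q₀)
      have hq : q ≠ q₀ := fun h => hbc (by rw [h])
      have h := hsum q
      rw [hFx0 j q hq] at h
      have := hS.other q q₀ hq
      have := hS.two q₀
      have := hS.two q
      rcases hFb with e | e <;> rcases hFc with e' | e' <;> rw [e, e'] at h <;> omega
    refine ⟨c, hcO, fun i => ?_, hset⟩
    by_cases hij : i = j
    · subst hij; exact ⟨hcA, hcA'⟩
    have h := hFN j i (Ne.symm hij)
    rw [hdot] at h
    have hz := hnotz i q₀
    have hjP : ∀ k, (k = A i ∨ k = A' i) → k ≠ P j := by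
      intro k hk e
      have := hdis i j hij
      rcases hk with rfl | rfl <;> rcases hP j with e' | e' <;> simp_all
    have hoth : ∀ k, (k = A i ∨ k = A' i) → k ≠ c → F j k = 0 := by
      intro k hk hkc
      refine hF0 j k (hjP k hk) ?_ ?_ <;> intro e <;> rcases hset with ⟨e1, e2⟩ | ⟨e1, e2⟩
      · exact (show k ≠ z q₀ by rcases hk with rfl | rfl; exacts [hz.1, hz.2]) (e.trans e1)
      · exact hkc (e.trans e2)
      · exact hkc (e.trans e2)
      · exact (show k ≠ z q₀ by rcases hk with rfl | rfl; exacts [hz.1, hz.2]) (e.trans e1)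
    constructor <;> intro e
    · rw [← e, hoth (A' i) (Or.inr rfl) (fun h' => hne i (e.symm.trans h'.symm))] at h
      omega
    · rw [← e, hoth (A i) (Or.inl rfl) (fun h' => hne i (h'.trans e))] at h
      omega
  haveI : Nonempty K := ⟨z q₀⟩
  choose! cf hcfO hcfA hcfset using key
  have hcfinj : ∀ i j, x q₀ (A i) = 0 → x q₀ (A j) = 0 → cf i = cf j → i = j := by
    intro i j hi hj h
    by_contra hij
    have hdd := hdis i j hij
    have hz := hnotz i q₀
    obtain ⟨-, hi'⟩ := (⟨trivial, hcfA i hi⟩ : True ∧ _)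
    have hcj := hcfA j hj
    have hsub : ∀ k, k = A i ∨ k = A' i → F j k = 0 := by
      intro k hk
      refine hF0 j k ?_ ?_ ?_ <;> intro e
      · rcases hk with rfl | rfl <;> rcases hP j with e' | e' <;> simp_all
      · rcases hcfset j hj with ⟨e1, e2⟩ | ⟨e1, e2⟩
        · rcases hk with rfl | rfl; exacts [hz.1 (e.trans e1), hz.2 (e.trans e1)]
        · rcases hk with rfl | rfl
          exacts [(hcj i).1 (e.trans e2).symm, (hcj i).2 (e.trans e2).symm]
      · rcases hcfset j hj with ⟨e1, e2⟩ | ⟨e1, e2⟩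
        · rcases hk with rfl | rfl
          exacts [(hcj i).1 (e.trans e2).symm, (hcj i).2 (e.trans e2).symm]
        · rcases hk with rfl | rfl; exacts [hz.1 (e.trans e1), hz.2 (e.trans e1)]
    have h1 := hFF i j hij
    rw [sum_three (hPB i) (hPC i) (hBC i) (fun k => F i k * F j k)
      (fun k e1 e2 e3 => by simp [hF0 i k e1 e2 e3]), hsub _ (hP i), mul_zero, zero_add] at h1
    have hzero : ∀ k, (k = B i ∨ k = C i) → F i k * F j k = 1 ∨ F i k * F j k = -1 := by
      intro k hk
      have hk1 : F i k = 1 ∨ F i k = -1 := by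
        rcases hk with rfl | rfl; exacts [hFB i, hFC i]
      have hk2 : F j k = 1 ∨ F j k = -1 := by
        have hk4 : k = z q₀ ∨ k = cf j := by
          rcases hcfset i hi with ⟨e1, e2⟩ | ⟨e1, e2⟩ <;> rcases hk with hk | hk
          exacts [Or.inl (hk.trans e1), Or.inr ((hk.trans e2).trans h),
            Or.inr ((hk.trans e2).trans h), Or.inl (hk.trans e1)]
        have hk3 : k = B j ∨ k = C j := by
          rcases hcfset j hj with ⟨d1, d2⟩ | ⟨d1, d2⟩ <;> rcases hk4 with hk4 | hk4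
          exacts [Or.inl (hk4.trans d1.symm), Or.inr (hk4.trans d2.symm),
            Or.inr (hk4.trans d1.symm), Or.inl (hk4.trans d2.symm)]
        rcases hk3 with rfl | rfl; exacts [hFB j, hFC j]
      rcases hk1 with e | e <;> rcases hk2 with e' | e' <;> rw [e, e'] <;> norm_num
    have := hzero _ (Or.inl rfl)
    have := hzero _ (Or.inr rfl)
    omega
  have hJin0 : Jin = ∅ := by
    have hsub : (Jinᶜ).image cf ∪ (Jin.image A ∪ Jin.image A') ⊆ O := by
      intro k hk
      rcases Finset.mem_union.1 hk with h | h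
      · obtain ⟨j, hj, rfl⟩ := Finset.mem_image.1 h
        exact hcfO j (by simpa [hJin] using hj)
      rcases Finset.mem_union.1 h with h | h <;> obtain ⟨j, hj, rfl⟩ := Finset.mem_image.1 h <;>
        rw [hJin, Finset.mem_filter] at hj
      · exact (hpairO j).resolve_right fun h0 => hj.2 (h0 q₀)
      · by_contra hcon
        rcases hrow _ hcon with h0 | ⟨q, hq⟩
        · exact hj.2 (by rw [hAA, h0])
        · exact (hnotz j q).2 hq.symm
    have h := Finset.card_le_card hsub
    rw [Finset.card_union_of_disjoint, hpairs, Finset.card_image_of_injOn, Finset.card_compl,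
      ← hJ] at h
    · have := Finset.card_le_univ Jin
      exact Finset.card_eq_zero.1 (by omega)
    · intro i hi j hj
      exact hcfinj i j (by simpa [hJin] using hi) (by simpa [hJin] using hj)
    · rw [Finset.disjoint_left]
      intro k hk hk'
      obtain ⟨j, hj, rfl⟩ := Finset.mem_image.1 hk
      have hc := hcfA j (by simpa [hJin] using hj)
      rcases Finset.mem_union.1 hk' with h | h <;> obtain ⟨i, -, hi⟩ := Finset.mem_image.1 h
      exacts [(hc i).1 hi.symm, (hc i).2 hi.symm]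
  have hj0 : ∀ j, x q₀ (A j) = 0 := fun j => by
    by_contra h
    have : j ∈ Jin := Finset.mem_filter.2 ⟨Finset.mem_univ _, h⟩
    simp [hJin0] at this
  have hjall : ∀ j q, x q (A j) = 0 := fun j => (hpairO j).resolve_left fun h => by
    have := hrowO _ h q₀
    have := hj0 j
    omega
  refine ⟨z, O, Finset.univ.image A ∪ Finset.univ.image A', hS, hJ,
    by rw [hpairs, Finset.card_univ], fun k hk q => ?_, fun k hk hkT j => ?_⟩
  · rcases Finset.mem_union.1 hk with h | h <;> obtain ⟨j, -, rfl⟩ := Finset.mem_image.1 h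
    · exact hjall j q
    · rw [← hAA]; exact hjall j q
  · simp only [Finset.mem_union, Finset.mem_image, Finset.mem_univ, true_and, not_or,
      not_exists] at hkT
    refine ⟨hNsupp j k (Ne.symm (hkT.1 j)) (Ne.symm (hkT.2 j)), hF0 j k ?_ ?_ ?_⟩
    · rcases hP j with e | e <;> rw [e]
      exacts [Ne.symm (hkT.1 j), Ne.symm (hkT.2 j)]
    all_goals
      intro e
      have := hk q₀
      rcases hcfset j (hj0 j) with ⟨e1, e2⟩ | ⟨e1, e2⟩ <;> subst e <;>
        first
          | (rw [e1] at this; have := hS.two q₀; omega)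
          | (rw [e2] at this; have := hrowO _ (hcfO j (hj0 j)) q₀; omega)

end CfsgLib.Blk83.Ex27
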