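import Cfsg.Agent.Lib.Blk83.Ex27.Sections
import Cfsg.Agent.Lib.Blk83.Ex27.Shape
import Cfsg.Agent.Lib.Blk83.PairCount
import Cfsg.Agent.Lib.Char.Integral

/-!
The integral columns of the principal `3`-block at self-inverse elements of order three whose
centralizers have normal `3`-complements of index nine.
-/

set_option autoImplicit false
set_option maxHeartbeats 800000

open Cfsg CfsgLib.Blocks
open scoped Classical ComplexConjugate

namespace CfsgLib.Blk83.Ex27

universe u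

variable {G : Type u} [Group G] [Fintype G] {M : Ideal Cfsg.AlgInt}

/-- The value at a self-inverse element of order three is an integer congruent to the degree. -/
theorem exists_int_value {y : G} (hy : orderOf y = 3) (hinv : IsConj y y⁻¹) (χ : IrrCharacter G) :
    ∃ x : ℤ, (χ : G → ℂ) y = (x : ℂ) ∧ (3 : ℤ) ∣ (charDegree (χ : G → ℂ) : ℤ) - x := by
  haveI := Fintype.ofFinite (Subgroup.zpowers y)
  obtain ⟨m, hm⟩ := exists_nat_sum_eq χ (Subgroup.zpowers y)
  have hy1 : y ≠ 1 := fun h => by rw [h, orderOf_one] at hy; norm_num at hy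
  have h3 : y ^ 3 = 1 := hy ▸ pow_orderOf_eq_one y
  have hyy : y ^ 2 = y⁻¹ := by
    rw [eq_inv_iff_mul_eq_one, ← pow_succ]; exact h3
  have hinv' : (χ : G → ℂ) y⁻¹ = (χ : G → ℂ) y := by
    obtain ⟨g, hg⟩ := isConj_iff.1 hinv
    rw [← hg]
    exact CfsgLib.Char.IsIrrCharacter.isClassFunction χ.2 y g
  have hsum : ∑ w : Subgroup.zpowers y, (χ : G → ℂ) w =
      (χ : G → ℂ) 1 + (χ : G → ℂ) y + (χ : G → ℂ) y⁻¹ := by
    let f : Fin 3 → Subgroup.zpowers y := fun i => ⟨y ^ (i : ℕ), Subgroup.npow_mem_zpowers y i⟩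
    have hf : Function.Bijective f := by
      refine (Fintype.bijective_iff_injective_and_card f).2 ⟨fun a b hab => ?_, ?_⟩
      · have h1 : y ^ (a : ℕ) = y ^ (b : ℕ) := congrArg Subtype.val hab
        exact Fin.ext (pow_injOn_Iio_orderOf (by rw [Set.mem_Iio, hy]; exact a.2)
          (by rw [Set.mem_Iio, hy]; exact b.2) h1)
      · rw [Fintype.card_fin, ← Nat.card_eq_fintype_card, Nat.card_zpowers, hy]
    rw [← Fintype.sum_bijective f hf (fun i => (χ : G → ℂ) (f i : G))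
      (fun w => (χ : G → ℂ) w) (fun i => rfl), Fin.sum_univ_three]
    simp [f, hyy]
  rw [hsum, Nat.card_zpowers, hy, hinv', ← CfsgLib.BlockReg.deg_cast χ] at hm
  push_cast at hm
  have hint : IsIntegral ℤ ((χ : G → ℂ) y) := CfsgLib.Char.IsGeneralizedCharacter.isIntegral_apply
    (CfsgLib.Char.IsIrrCharacter.isGeneralizedCharacter χ.2) y
  have hq : (χ : G → ℂ) y =
      (((3 * (m : ℚ) - (charDegree (χ : G → ℂ) : ℚ)) / 2 : ℚ) : ℂ) := by
    push_cast
    linear_combination hm / 2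
  rw [hq] at hint
  obtain ⟨x, hx⟩ := CfsgLib.Char.exists_int_of_isIntegral_ratCast hint
  refine ⟨x, ?_, ?_⟩
  · rw [hq, ← hx]; norm_num
  · refine ⟨(m : ℤ) - x, ?_⟩
    have h2 : 2 * x = 3 * (m : ℤ) - (charDegree (χ : G → ℂ) : ℤ) := by
      have : (2 : ℚ) * (x : ℚ) = 3 * (m : ℚ) - (charDegree (χ : G → ℂ) : ℚ) := by
        rw [hx]; ring
      exact_mod_cast this
    linarith

omit [Fintype G] in
theorem sum_block (B : Set (IrrCharacter G)) [Fintype B] (f : IrrCharacter G → ℂ) :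
    ∑ χ ∈ B.toFinset, f χ = ∑ χ : B, f χ :=
  Finset.sum_subtype _ (fun _ => Set.mem_toFinset) f

/-- **The columns** at a family of such elements. -/
theorem exists_columns [Fact (Nat.Prime 3)] (hM : IsPModular 3 M)
    {Q : Type} [Fintype Q] [Nonempty Q] (y : Q → G)
    (hord : ∀ q, orderOf (y q) = 3) (hinv : ∀ q, IsConj (y q) (y q)⁻¹)
    (hc : ∀ q, Compl 3 (y q) 2) (hne : ∀ q q', IsConj (y q) (y q') → q = q') :
    ∃ x : Q → ↥(principalBlock M G) → ℤ,
      (∀ q (χ : ↥(principalBlock M G)),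
        ((χ : IrrCharacter G) : G → ℂ) (y q) = (x q χ : ℂ)) ∧
      (∀ q q', ∑ χ, x q χ * x q' χ = if q = q' then 9 else 0) ∧
      (∀ q, ∑ χ : ↥(principalBlock M G),
        x q χ * (charDegree ((χ : IrrCharacter G) : G → ℂ) : ℤ) = 0) ∧
      (∀ q (χ : ↥(principalBlock M G)),
        (3 : ℤ) ∣ (charDegree ((χ : IrrCharacter G) : G → ℂ) : ℤ) - x q χ) ∧
      ((∃ z O, Shape x z O) ∨ (Fintype.card Q = 1 ∧ ∀ q,
        (∀ χ, x q χ = 0 ∨ x q χ = 1 ∨ x q χ = -1) ∧
          (Finset.univ.filter fun χ => x q χ ≠ 0).card = 9)) := by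
  haveI := hM.2.1
  choose x hx hcg using fun q (χ : ↥(principalBlock M G)) =>
    exists_int_value (hord q) (hinv q) (χ : IrrCharacter G)
  have hpow : ∀ q, ∃ k : ℕ, orderOf (y q) = 3 ^ k := fun q => ⟨1, by rw [hord, pow_one]⟩
  have hgram : ∀ q q', ∑ χ, x q χ * x q' χ = if q = q' then 9 else 0 := by
    intro q q'
    have key : ((∑ χ, x q χ * x q' χ : ℤ) : ℂ) = ((if q = q' then 9 else 0 : ℤ) : ℂ) := by
      have : ((∑ χ, x q χ * x q' χ : ℤ) : ℂ) = ∑ χ ∈ (principalBlock M G).toFinset,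
          (χ : G → ℂ) (y q) * conj ((χ : G → ℂ) (y q')) := by
        rw [sum_block]
        push_cast
        exact Finset.sum_congr rfl fun χ _ => by rw [hx, hx, map_intCast]
      rw [this]
      split_ifs with h
      · subst h
        rw [principal_norm hM (hpow q) (hc q)]
        norm_num
      · rw [sum_apply_ne hM (hpow q) (hpow q') fun hconj => h (hne q q' hconj)]
        norm_num
    exact_mod_cast key
  have hdeg : ∀ q, ∑ χ : ↥(principalBlock M G),
      x q χ * (charDegree ((χ : IrrCharacter G) : G → ℂ) : ℤ) = 0 := by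
    intro q
    have key : ((∑ χ : ↥(principalBlock M G),
        x q χ * (charDegree ((χ : IrrCharacter G) : G → ℂ) : ℤ) : ℤ) : ℂ) = ((0 : ℤ) : ℂ) := by
      have h0 := sum_apply_ne hM (hpow q) (y' := (1 : G)) ⟨0, by simp⟩ (fun hconj => by
        have h1 := hord q
        rw [isConj_one_left.1 hconj, orderOf_one] at h1
        norm_num at h1)
      rw [sum_block] at h0
      rw [Int.cast_zero, ← h0]
      push_cast
      refine Finset.sum_congr rfl fun χ _ => ?_
      rw [hx, ← CfsgLib.BlockReg.deg_cast (χ : IrrCharacter G), map_natCast]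
    exact_mod_cast key
  refine ⟨x, hx, hgram, hdeg, hcg, ?_⟩
  obtain ⟨k₀, hk₀⟩ : ∃ k₀ : ↥(principalBlock M G),
      (k₀ : IrrCharacter G) = CfsgLib.Char.principalIrr := ⟨⟨_, principal_mem hM⟩, rfl⟩
  refine exists_shape_columns x (fun χ => (charDegree ((χ : IrrCharacter G) : G → ℂ) : ℤ))
    (fun χ => Int.natCast_pos.2 (CfsgLib.BlockReg.deg_pos (χ : IrrCharacter G))) k₀ ?_ (fun q => ?_)
    hgram hdeg hcg
  · have h1 : (charDegree ((k₀ : IrrCharacter G) : G → ℂ) : ℂ) = 1 := by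
      rw [CfsgLib.BlockReg.deg_cast, hk₀]; simp
    exact_mod_cast h1
  · have h1 : (x q k₀ : ℂ) = 1 := by rw [← hx, hk₀]; simp
    exact_mod_cast h1

/-- In a shape the block has no characters outside the supports, when every singular element
has its `3`-part among the conjugates of the elements of the family. -/
theorem shape_cover [Fact (Nat.Prime 3)] (hM : IsPModular 3 M)
    (h3 : 3 ∣ Nat.card G) {Q : Type} [Fintype Q] (y : Q → G)
    (hord : ∀ q, orderOf (y q) = 3) (hc : ∀ q, Compl 3 (y q) 2)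
    (hcov : ∀ g : G, (∃ k : ℕ, orderOf g = 3 ^ k) → g = 1 ∨ ∃ q, IsConj g (y q))
    {x : Q → ↥(principalBlock M G) → ℤ}
    (hx : ∀ q (χ : ↥(principalBlock M G)),
      ((χ : IrrCharacter G) : G → ℂ) (y q) = (x q χ : ℂ))
    (χ : ↥(principalBlock M G)) : ∃ q, x q χ ≠ 0 := by
  by_contra hcon
  push Not at hcon
  obtain ⟨g, hg, hne⟩ := exists_singular_ne_zero hM h3 χ.2
  obtain ⟨y₁, hy₁⟩ := CfsgLib.Blocks.exists_isPPart (p := 3) Fact.out g
  rcases hcov y₁ (by obtain ⟨_, -, -, h', -⟩ := hy₁; exact h') with h1 | ⟨q, hq⟩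
  · obtain ⟨s₁, hs₁, -, -, hreg⟩ := hy₁
    refine hg ?_
    rw [← hs₁, h1, one_mul]
    exact hreg
  obtain ⟨c, hc'⟩ := isConj_iff.1 hq
  have hy₂ := CfsgLib.Blocks.IsPPart.conj hy₁ c
  rw [hc'] at hy₂
  obtain ⟨s, hse, hcomm, -, hs⟩ := hy₂
  apply hne
  have hmem : s ∈ Subgroup.centralizer ({y q} : Set G) :=
    Subgroup.mem_centralizer_singleton_iff.2 hcomm.eq.symm
  rw [show (χ : IrrCharacter G).1 g = ((χ : IrrCharacter G) : G → ℂ) (c * g * c⁻¹) from
    (CfsgLib.Char.IsIrrCharacter.isClassFunction (χ : IrrCharacter G).2 g c).symm, ← hse,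
    show s = ((⟨s, hmem⟩ : Subgroup.centralizer ({y q} : Set G)) : G) from rfl,
    principal_translate_const hM ⟨1, by rw [hord, pow_one]⟩ (hc q) χ.2 (by
      rw [Cfsg.IsPRegular, Subgroup.orderOf_mk]; exact hs), hx, hcon q, Int.cast_zero]

end CfsgLib.Blk83.Ex27
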