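import Cfsg.Agent.Lib.Blk83.Ex27.Shape
import Mathlib.Algebra.BigOperators.Field

/-!
The vectors orthogonal to the columns, and the integral matrices with the same inner products.
-/

set_option autoImplicit false
set_option maxHeartbeats 1000000

open scoped Classical

namespace CfsgLib.Blk83.Ex27

variable {L : Type*} [Fintype L] {I : Type*} [Fintype I]

omit [Fintype I] in
/-- A column of norm at most three has entries of absolute value at most one. -/
theorem val_le_one (D : L → ℤ) {m : ℤ} (hm : m ≤ 3) (h : ∑ a, D a * D a = m) (a : L) :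
    D a = 0 ∨ D a = 1 ∨ D a = -1 := by
  have h1 : D a * D a ≤ m :=
    h ▸ Finset.single_le_sum (f := fun k => D k * D k) (fun k _ => mul_self_nonneg _)
      (Finset.mem_univ a)
  have : -1 ≤ D a ∧ D a ≤ 1 := ⟨by nlinarith, by nlinarith⟩
  omega

/-- At least four columns of norm two with inner products one form a star. -/
theorem exists_star (D : L → I → ℤ)
    (hgram : ∀ i j, ∑ a, D a i * D a j = if i = j then 2 else 1) (h4 : 4 ≤ Fintype.card I) :
    ∃ (c : L) (leaf : I → L) (η : ℤ), (η = 1 ∨ η = -1) ∧ Function.Injective leaf ∧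
      (∀ i, leaf i ≠ c) ∧ (∀ i, D c i = η) ∧ (∀ i, D (leaf i) i = 1 ∨ D (leaf i) i = -1) ∧
      ∀ a i, a ≠ c → a ≠ leaf i → D a i = 0 := by
  have hv : ∀ i a, D a i = 0 ∨ D a i = 1 ∨ D a i = -1 := fun i =>
    val_le_one (fun a => D a i) (m := 2) (by norm_num) (by rw [hgram, if_pos rfl])
  obtain ⟨S, hSdef⟩ : ∃ S : I → Finset L, ∀ i a, a ∈ S i ↔ D a i ≠ 0 :=
    ⟨fun i => Finset.univ.filter fun a => D a i ≠ 0, fun i a => by simp⟩
  have h1 : ∀ i a, a ∈ S i → D a i = 1 ∨ D a i = -1 := fun i a ha =>
    (hv i a).resolve_left ((hSdef i a).1 ha)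
  have hS2 : ∀ i, (S i).card = 2 := fun i => by
    have h := hgram i i
    rw [if_pos rfl, ← Finset.sum_subset (Finset.subset_univ (S i))
      (fun a _ ha => by rw [not_not.1 (mt (hSdef i a).2 ha), zero_mul]),
      Finset.sum_congr rfl (fun a ha => show D a i * D a i = 1 by
        rcases h1 i a ha with e | e <;> simp [e]), Finset.sum_const, nsmul_eq_mul, mul_one] at h
    exact_mod_cast h
  have hinter : ∀ i j, i ≠ j → ∃ w, S i ∩ S j = {w} ∧ D w i * D w j = 1 := fun i j hij => by
    have h := hgram i j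
    rw [if_neg hij, ← Finset.sum_subset (Finset.subset_univ (S i ∩ S j)) (fun a _ ha => by
      rw [Finset.mem_inter, not_and_or, hSdef, hSdef, not_not, not_not] at ha
      rcases ha with e | e <;> simp [e])] at h
    have hle : (S i ∩ S j).card ≤ 2 :=
      (Finset.card_le_card Finset.inter_subset_left).trans (hS2 i).le
    rcases (show (S i ∩ S j).card = 0 ∨ (S i ∩ S j).card = 1 ∨ (S i ∩ S j).card = 2 by omega) with
      e | e | e
    · rw [Finset.card_eq_zero.1 e, Finset.sum_empty] at h; omega
    · obtain ⟨w, hw⟩ := Finset.card_eq_one.1 e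
      refine ⟨w, hw, ?_⟩
      rwa [hw, Finset.sum_singleton] at h
    · exfalso
      obtain ⟨a, b, hab, hw⟩ := Finset.card_eq_two.1 e
      rw [hw, Finset.sum_pair hab] at h
      have ha : a ∈ S i ∩ S j := hw ▸ Finset.mem_insert_self _ _
      have hb : b ∈ S i ∩ S j := hw ▸ Finset.mem_insert_of_mem (Finset.mem_singleton_self _)
      rcases h1 i a (Finset.mem_inter.1 ha).1 with e1 | e1 <;>
        rcases h1 j a (Finset.mem_inter.1 ha).2 with e2 | e2 <;>
        rcases h1 i b (Finset.mem_inter.1 hb).1 with e3 | e3 <;>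
        rcases h1 j b (Finset.mem_inter.1 hb).2 with e4 | e4 <;> simp [e1, e2, e3, e4] at h
  obtain ⟨i₁, i₂, hi⟩ : ∃ i₁ i₂ : I, i₁ ≠ i₂ := by
    obtain ⟨i₁, i₂, h⟩ := Fintype.one_lt_card_iff.1 (show 1 < Fintype.card I by omega)
    exact ⟨i₁, i₂, h⟩
  obtain ⟨c, hc, -⟩ := hinter i₁ i₂ hi
  have hc12 : c ∈ S i₁ ∧ c ∈ S i₂ := Finset.mem_inter.1 (hc ▸ Finset.mem_singleton_self c)
  have hall : ∀ i, c ∈ S i := by
    intro i
    by_contra hci
    have hi1 : i ≠ i₁ := fun e => hci (e ▸ hc12.1)
    have hi2 : i ≠ i₂ := fun e => hci (e ▸ hc12.2)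
    obtain ⟨a, ha, -⟩ := hinter i i₁ hi1
    obtain ⟨b, hb, -⟩ := hinter i i₂ hi2
    have ha' : a ∈ S i ∧ a ∈ S i₁ := Finset.mem_inter.1 (ha ▸ Finset.mem_singleton_self a)
    have hb' : b ∈ S i ∧ b ∈ S i₂ := Finset.mem_inter.1 (hb ▸ Finset.mem_singleton_self b)
    have hab : a ≠ b := fun e => by
      have : a ∈ S i₁ ∩ S i₂ := Finset.mem_inter.2 ⟨ha'.2, e ▸ hb'.2⟩
      rw [hc, Finset.mem_singleton] at this
      exact hci (this ▸ ha'.1)
    have hSi : S i = {a, b} :=
      (Finset.eq_of_subset_of_card_le (by simp [Finset.insert_subset_iff, ha'.1, hb'.1])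
        (by rw [hS2, Finset.card_pair hab])).symm
    obtain ⟨j, hj⟩ : ∃ j, j ∉ ({i, i₁, i₂} : Finset I) := by
      refine ⟨_, (Classical.choose_spec (Finset.exists_mem_notMem_of_card_lt_card
        (s := ({i, i₁, i₂} : Finset I)) (t := Finset.univ) ?_)).2⟩
      exact Finset.card_le_three.trans_lt (by rw [Finset.card_univ]; omega)
    simp only [Finset.mem_insert, Finset.mem_singleton, not_or] at hj
    obtain ⟨a₁, ha₁, -⟩ := hinter j i₁ hj.2.1
    obtain ⟨a₂, ha₂, -⟩ := hinter j i₂ hj.2.2
    obtain ⟨a₀, ha₀, -⟩ := hinter j i hj.1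
    have hSi1 : S i₁ = {c, a} := (Finset.eq_of_subset_of_card_le
      (by simp [Finset.insert_subset_iff, hc12.1, ha'.2])
      (by rw [hS2, Finset.card_pair (show c ≠ a from fun e => hci (by rw [e]; exact ha'.1))])).symm
    have hSi2 : S i₂ = {c, b} := (Finset.eq_of_subset_of_card_le
      (by simp [Finset.insert_subset_iff, hc12.2, hb'.2])
      (by rw [hS2, Finset.card_pair (show c ≠ b from fun e => hci (by rw [e]; exact hb'.1))])).symm
    by_cases hcj : c ∈ S j
    · have hnab : ∀ w ∈ S i, w ∉ S j := by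
        intro w hw hwj
        rw [hSi, Finset.mem_insert, Finset.mem_singleton] at hw
        rcases hw with rfl | rfl
        · have h2 : ({c, w} : Finset L) ⊆ S j ∩ S i₁ := by
            simp [Finset.insert_subset_iff, hcj, hwj, hc12.1, ha'.2]
          have := Finset.card_le_card h2
          rw [ha₁, Finset.card_singleton, Finset.card_pair (show c ≠ w from fun e => hci (by rw [e]; exact ha'.1))] at this
          omega
        · have h2 : ({c, w} : Finset L) ⊆ S j ∩ S i₂ := by
            simp [Finset.insert_subset_iff, hcj, hwj, hc12.2, hb'.2]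
          have := Finset.card_le_card h2
          rw [ha₂, Finset.card_singleton, Finset.card_pair (show c ≠ w from fun e => hci (by rw [e]; exact hb'.1))] at this
          omega
      have : a₀ ∈ S j ∩ S i := ha₀ ▸ Finset.mem_singleton_self a₀
      exact hnab a₀ (Finset.mem_inter.1 this).2 (Finset.mem_inter.1 this).1
    · have h3 : a ∈ S j := by
        have h := ha₁ ▸ Finset.mem_singleton_self a₁
        rw [Finset.mem_inter, hSi1, Finset.mem_insert, Finset.mem_singleton] at h
        rcases h.2 with e | e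
        · exact absurd (e ▸ h.1) hcj
        · exact e ▸ h.1
      have h4' : b ∈ S j := by
        have h := ha₂ ▸ Finset.mem_singleton_self a₂
        rw [Finset.mem_inter, hSi2, Finset.mem_insert, Finset.mem_singleton] at h
        rcases h.2 with e | e
        · exact absurd (e ▸ h.1) hcj
        · exact e ▸ h.1
      have h2 : ({a, b} : Finset L) ⊆ S j ∩ S i := by
        simp [Finset.insert_subset_iff, h3, h4', ha'.1, hb'.1]
      have := Finset.card_le_card h2
      rw [ha₀, Finset.card_singleton, Finset.card_pair hab] at this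
      omega
  choose leaf hleaf using fun i => Finset.card_eq_one.1
    (show ((S i).erase c).card = 1 by rw [Finset.card_erase_of_mem (hall i), hS2])
  have hmem : ∀ i, leaf i ≠ c ∧ leaf i ∈ S i := fun i =>
    Finset.mem_erase.1 (hleaf i ▸ Finset.mem_singleton_self _)
  have hprod : ∀ i j, i ≠ j → D c i * D c j = 1 := fun i j hij => by
    obtain ⟨w, hw, hw1⟩ := hinter i j hij
    have : c ∈ S i ∩ S j := Finset.mem_inter.2 ⟨hall i, hall j⟩
    rw [hw, Finset.mem_singleton] at this
    rwa [this]
  refine ⟨c, leaf, D c i₁, h1 _ _ (hall i₁), fun i j h => ?_, fun i => (hmem i).1, fun i => ?_,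
    fun i => h1 _ _ (hmem i).2, fun a i hac hal => ?_⟩
  · by_contra hij
    obtain ⟨w, hw, -⟩ := hinter i j hij
    have h2 : ({c, leaf i} : Finset L) ⊆ S i ∩ S j := by
      simp [Finset.insert_subset_iff, hall i, hall j, (hmem i).2, h ▸ (hmem j).2]
    have := Finset.card_le_card h2
    rw [hw, Finset.card_singleton, Finset.card_pair (hmem i).1.symm] at this
    omega
  · by_cases hi1 : i = i₁
    · rw [hi1]
    · have := hprod i i₁ hi1
      rcases h1 _ _ (hall i) with e | e <;> rcases h1 _ _ (hall i₁) with e' | e' <;>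
        rw [e, e'] at this ⊢ <;> omega
  · by_contra hne
    have : a ∈ (S i).erase c := Finset.mem_erase.2 ⟨hac, (hSdef i a).2 hne⟩
    rw [hleaf i, Finset.mem_singleton] at this
    exact hal this

/-- Eight columns of norm two with inner products one need nine rows. -/
theorem false_of_star (D : L → I → ℤ) (hgram : ∀ i j, ∑ a, D a i * D a j = if i = j then 2 else 1)
    (h4 : 4 ≤ Fintype.card I) (hL : Fintype.card L ≤ Fintype.card I) : False := by
  obtain ⟨c, leaf, η, -, hinj, hne, -⟩ := exists_star D hgram h4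
  have h := Fintype.card_le_of_injective (fun o : Option I => o.elim c leaf) (by
    rintro (_ | i) (_ | j) h <;> simp only [Option.elim] at h
    · rfl
    · exact absurd h.symm (hne j)
    · exact absurd h (hne i)
    · exact congrArg some (hinj h))
  rw [Fintype.card_option] at h
  omega

/-- Two columns of norm five with inner product four. -/
theorem two_by_two (D : L → I → ℤ) (hI : Fintype.card I = 2) (hL : Fintype.card L = 2)
    (hgram : ∀ i j, ∑ a, D a i * D a j = if i = j then 5 else 4) :
    ∃ (f : I → L) (η : I → ℤ), Function.Injective f ∧ (∀ i, η i = 1 ∨ η i = -1) ∧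
      ∀ i j, D (f i) j = η i * if i = j then 2 else 1 := by
  obtain ⟨a, b, hab, hu⟩ := Finset.card_eq_two.1 (hL ▸ Finset.card_univ (α := L))
  obtain ⟨i, j, hij, huI⟩ := Finset.card_eq_two.1 (hI ▸ Finset.card_univ (α := I))
  have g := fun x y => hgram x y
  simp only [hu, Finset.sum_pair hab] at g
  have e1 := g i i; have e2 := g j j; have e3 := g i j
  rw [if_pos rfl] at e1 e2
  rw [if_neg hij] at e3
  have hb : ∀ x y : ℤ, x * x + y * y = 5 →
      ((x = 2 ∨ x = -2) ∧ (y = 1 ∨ y = -1)) ∨ ((x = 1 ∨ x = -1) ∧ (y = 2 ∨ y = -2)) := by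
    intro x y h
    have hx : -2 ≤ x ∧ x ≤ 2 := ⟨by nlinarith, by nlinarith⟩
    have hy : -2 ≤ y ∧ y ≤ 2 := ⟨by nlinarith, by nlinarith⟩
    obtain ⟨hx1, hx2⟩ := hx
    obtain ⟨hy1, hy2⟩ := hy
    interval_cases x <;> interval_cases y <;> omega
  have hI' : ∀ x, x = i ∨ x = j := fun x => by
    have := Finset.mem_univ x
    rwa [huI, Finset.mem_insert, Finset.mem_singleton] at this
  -- the row with entry two in the column `i`
  obtain ⟨p, q, hpq, hp, hq, e1, e2, e3⟩ : ∃ p q : L, p ≠ q ∧ (D p i = 2 ∨ D p i = -2) ∧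
      (D q i = 1 ∨ D q i = -1) ∧ D p i * D p i + D q i * D q i = 5 ∧
      D p j * D p j + D q j * D q j = 5 ∧ D p i * D p j + D q i * D q j = 4 := by
    rcases hb _ _ e1 with h | h
    · exact ⟨a, b, hab, h.1, h.2, e1, e2, e3⟩
    · exact ⟨b, a, hab.symm, h.2, h.1, by linarith, by linarith, by linarith⟩
  obtain ⟨hp', hq'⟩ : (D p j = D p i / 2) ∧ (D q j = 2 * D q i) := by
    rcases hp with e | e <;> rcases hq with e' | e' <;> rw [e, e'] at e3 ⊢ <;>
      rcases hb _ _ e2 with ⟨h | h, h' | h'⟩ | ⟨h | h, h' | h'⟩ <;> rw [h, h'] at e3 ⊢ <;>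
      constructor <;> norm_num at *
  refine ⟨fun x => if x = i then p else q, fun x => if x = i then D p i / 2 else D q i, ?_, ?_, ?_⟩
  · intro x y h
    rcases hI' x with rfl | rfl <;> rcases hI' y with rfl | rfl <;>
      simp [hij.symm, hpq, hpq.symm] at h ⊢
  · intro x
    rcases hI' x with rfl | rfl
    · rcases hp with e | e <;> simp [e]
    · simpa [hij.symm] using hq
  · intro x y
    rcases hI' x with rfl | rfl <;> rcases hI' y with rfl | rfl <;>
      simp [hij, hij.symm, hp', hq']
    · rcases hp with e | e <;> simp [e]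
    · ring

/-- Four columns of norm three with inner products two in four rows. -/
theorem four_by_four (D : L → I → ℤ) (hI : Fintype.card I = 4) (hL : Fintype.card L = 4)
    (hgram : ∀ i j, ∑ a, D a i * D a j = if i = j then 3 else 2) :
    ∃ (f : I → L) (η : I → ℤ), Function.Injective f ∧ (∀ i, η i = 1 ∨ η i = -1) ∧
      ∀ i j, D (f i) j = η i * if i = j then 0 else -1 := by
  have hv : ∀ i a, D a i = 0 ∨ D a i = 1 ∨ D a i = -1 := fun i =>
    val_le_one (fun a => D a i) (m := 3) le_rfl (by rw [hgram, if_pos rfl])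
  have hzero : ∀ i, ∃ a, D a i = 0 ∧ ∀ b, D b i = 0 → b = a := by
    intro i
    have h := hgram i i
    rw [if_pos rfl] at h
    have e : ∀ a, D a i * D a i = 1 - if D a i = 0 then 1 else 0 := fun a => by
      rcases hv i a with e | e | e <;> simp [e]
    simp only [e, Finset.sum_sub_distrib, Finset.sum_const, Finset.card_univ, hL, nsmul_eq_mul,
      mul_one, Finset.sum_boole] at h
    have hc : (Finset.univ.filter fun a => D a i = 0).card = 1 := by omega
    obtain ⟨a, ha⟩ := Finset.card_eq_one.1 hc
    refine ⟨a, ?_, fun b hb => ?_⟩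
    · have := ha ▸ Finset.mem_singleton_self a
      simpa using this
    · have : b ∈ Finset.univ.filter fun a => D a i = 0 := by simp [hb]
      rwa [ha, Finset.mem_singleton] at this
  choose f hf hfu using hzero
  have hne : ∀ i a, a ≠ f i → D a i = 1 ∨ D a i = -1 := fun i a ha =>
    (hv i a).resolve_left fun e => ha (hfu i a e)
  have hfinj : Function.Injective f := by
    intro i j h
    by_contra hij
    have hs := hgram i j
    rw [if_neg hij, ← Finset.add_sum_erase _ _ (Finset.mem_univ (f i)), hf i, zero_mul,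
      zero_add] at hs
    have hc : (Finset.univ.erase (f i)).card = 3 := by
      rw [Finset.card_erase_of_mem (Finset.mem_univ _), Finset.card_univ, hL]
    obtain ⟨a, b, c, hab, hac, hbc, he⟩ := Finset.card_eq_three.1 hc
    rw [he, Finset.sum_insert (by simp [hab, hac]), Finset.sum_pair hbc] at hs
    have hm : ∀ w ∈ ({a, b, c} : Finset L), (D w i = 1 ∨ D w i = -1) ∧ (D w j = 1 ∨ D w j = -1) :=
      fun w hw => by
        rw [← he, Finset.mem_erase] at hw
        exact ⟨hne i w hw.1, hne j w (h ▸ hw.1)⟩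
    obtain ⟨ha1, ha2⟩ := hm a (by simp)
    obtain ⟨hb1, hb2⟩ := hm b (by simp)
    obtain ⟨hc1, hc2⟩ := hm c (by simp)
    rcases ha1 with e1 | e1 <;> rcases ha2 with e2 | e2 <;> rcases hb1 with e3 | e3 <;>
      rcases hb2 with e4 | e4 <;> rcases hc1 with e5 | e5 <;> rcases hc2 with e6 | e6 <;>
      simp [e1, e2, e3, e4, e5, e6] at hs
  have hbij : Function.Bijective f :=
    (Fintype.bijective_iff_injective_and_card f).2 ⟨hfinj, hI.trans hL.symm⟩
  have hrow : ∀ i j j', j ≠ i → j' ≠ i → D (f i) j = D (f i) j' := by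
    intro i j j' hj hj'
    by_cases hjj : j = j'
    · rw [hjj]
    have hs := hgram j j'
    rw [if_neg hjj, ← (Equiv.ofBijective f hbij).sum_comp] at hs
    simp only [Equiv.ofBijective_apply] at hs
    obtain ⟨k, hk⟩ : ∃ k, k ∉ ({i, j, j'} : Finset I) := by
      refine ⟨_, (Classical.choose_spec (Finset.exists_mem_notMem_of_card_lt_card
        (s := ({i, j, j'} : Finset I)) (t := Finset.univ) ?_)).2⟩
      exact Finset.card_le_three.trans_lt (by rw [Finset.card_univ]; omega)
    simp only [Finset.mem_insert, Finset.mem_singleton, not_or] at hk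
    have huniv : (Finset.univ : Finset I) = {i, k, j, j'} := (Finset.eq_univ_of_card _ (by
      rw [hI, Finset.card_insert_of_notMem (by simp [hk.1, Ne.symm hk.1, Ne.symm hj, Ne.symm hj']),
        Finset.card_insert_of_notMem (by simp [hk.2.1, hk.2.2]), Finset.card_pair hjj])).symm
    rw [huniv, Finset.sum_insert (by simp [Ne.symm hk.1, Ne.symm hj, Ne.symm hj']),
      Finset.sum_insert (by simp [hk.2.1, hk.2.2]), Finset.sum_pair hjj, hf j, hf j', zero_mul,
      mul_zero] at hs
    rcases hne j (f i) (fun e => hj (hfinj e).symm) with e1 | e1 <;>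
      rcases hne j' (f i) (fun e => hj' (hfinj e).symm) with e2 | e2 <;>
      rcases hne j (f k) (fun e => hk.2.1 (hfinj e)) with e3 | e3 <;>
      rcases hne j' (f k) (fun e => hk.2.2 (hfinj e)) with e4 | e4 <;>
      simp [e1, e2, e3, e4] at hs ⊢
  have hex : ∀ i : I, ∃ j, j ≠ i := fun i => Fintype.exists_ne_of_one_lt_card (by omega) i
  choose nb hnb using hex
  refine ⟨f, fun i => -D (f i) (nb i), hfinj, fun i => ?_, fun i j => ?_⟩
  · rcases hne (nb i) (f i) (fun e => hnb i (hfinj e).symm) with e | e <;> simp [e]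
  · by_cases h : i = j
    · subst h; rw [if_pos rfl, mul_zero, hf]
    · rw [if_neg h, hrow i j (nb i) (Ne.symm h) (hnb i)]; ring

variable {K : Type*} [Fintype K] {Q : Type*} [Fintype Q]

/-- The vectors whose products with the orthogonal vectors give the lifts. -/
noncomputable def tvec (x : Q → K → ℤ) (z : Q → K) (q₀ : Q) (o k : K) : ℤ :=
  (if k = o then x q₀ k else 0) + if k = z q₀ then x q₀ k / 2 else 0

theorem sum_mul_tvec (x : Q → K → ℤ) (z : Q → K) (q₀ : Q) (o : K) (w : K → ℤ) :
    ∑ k, w k * tvec x z q₀ o k = w o * x q₀ o + w (z q₀) * (x q₀ (z q₀) / 2) := by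
  simp [tvec, mul_add, Finset.sum_add_distrib, mul_ite]

/-- **The orthogonal vectors.** -/
theorem exists_dual {x : Q → K → ℤ} {z : Q → K} {O : Finset K} (hS : Shape x z O) (q₀ : Q)
    (hQ : Fintype.card Q = 1 ∨ Fintype.card Q = 2 ∨ Fintype.card Q = 4) :
    ∃ P : O → K → ℤ, (∀ o q, ∑ k, P o k * x q k = 0) ∧
      (∀ w : K → ℂ, (∀ o, ∑ k, (P o k : ℂ) * w k = 0) →
        ∃ α : Q → ℂ, ∀ k, (∃ q, x q k ≠ 0) → w k = ∑ q, α q * (x q k : ℂ)) ∧
      ∀ {L : Type} [Fintype L] (D : L → O → ℤ), Fintype.card L = O.card →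
        (∀ o o', ∑ a, D a o * D a o' = ∑ k, P o k * P o' k) →
        ∃ (f : O → L) (η : O → ℤ), Function.Injective f ∧ (∀ o, η o = 1 ∨ η o = -1) ∧
          ∀ o o', D (f o) o' = η o * ∑ k, P o' k * tvec x z q₀ o k := by
  obtain ⟨σ, hσ⟩ : ∃ σ : Q → ℤ, ∀ q, (σ q = 1 ∨ σ q = -1) ∧ x q (z q) = 2 * σ q :=
    ⟨fun q => x q (z q) / 2, fun q => by rcases hS.two q with h | h <;> simp [h]⟩
  have hσσ : ∀ q, σ q * σ q = 1 := fun q => by rcases (hσ q).1 with e | e <;> simp [e]
  have hother : ∀ q q', q ≠ q' → x q (z q') = -σ q' := fun q q' hne => by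
    have := hS.other q q' hne
    have := (hσ q').2
    omega
  have hss : ∀ (o : O) (q : Q), x q o * x q o = 1 ∧ x q o = x q₀ o := fun o q => by
    rcases hS.ord o o.2 with h | h <;> simp [h q, h q₀]
  have hzo : ∀ (o : O) (q : Q), (o : K) ≠ z q := fun o q h => hS.notMem q (h ▸ o.2)
  have hhalf : x q₀ (z q₀) / 2 = σ q₀ := by
    rw [(hσ q₀).2]; omega
  have hcO : O.card = 6 - Fintype.card Q := by have := hS.card; omega
  have htot : ∀ q, ∑ q', σ q' * x q (z q') = 3 - (Fintype.card Q : ℤ) := by
    intro q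
    rw [← Finset.add_sum_erase _ _ (Finset.mem_univ q), (hσ q).2,
      Finset.sum_congr rfl fun q' hq' => show σ q' * x q (z q') = -1 by
        rw [hother q q' (Finset.mem_erase.1 hq').1.symm, mul_neg, hσσ],
      Finset.sum_const, Finset.card_erase_of_mem (Finset.mem_univ _), Finset.card_univ,
      nsmul_eq_mul, Nat.cast_sub (Fintype.card_pos_iff.2 ⟨q⟩)]
    push_cast
    linear_combination 2 * hσσ q
  rcases hQ with h1 | hQ'
  · -- one column
    haveI : Subsingleton Q := Fintype.card_le_one_iff_subsingleton.1 h1.le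
    obtain ⟨o₀, ho₀⟩ : O.Nonempty := Finset.card_pos.1 (by omega)
    refine ⟨fun o k => if (o : K) = o₀ then
        (if k = o₀ then 2 * x q₀ k else 0) - (if k = z q₀ then σ q₀ else 0)
      else (if k = (o : K) then x q₀ k else 0) - (if k = o₀ then x q₀ k else 0), ?_, ?_, ?_⟩
    · intro o q
      rw [Subsingleton.elim q q₀]
      by_cases h : (o : K) = o₀
      · simp only [if_pos h, sub_mul, ite_mul, zero_mul, Finset.sum_sub_distrib, Finset.sum_ite_eq',
          Finset.mem_univ, if_true, (hσ q₀).2, mul_assoc, (hss ⟨o₀, ho₀⟩ q₀).1]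
        linear_combination (-2 : ℤ) * hσσ q₀
      · simp only [if_neg h, sub_mul, ite_mul, zero_mul, Finset.sum_sub_distrib, Finset.sum_ite_eq',
          Finset.mem_univ, if_true, (hss ⟨o₀, ho₀⟩ q₀).1, (hss o q₀).1, sub_self]
    · intro w hw
      refine ⟨fun _ => (x q₀ o₀ : ℂ) * w o₀, fun k hk => ?_⟩
      rw [Fintype.sum_subsingleton _ q₀]
      by_cases hkO : k ∈ O
      · by_cases hk0 : k = o₀
        · subst hk0
          have : (x q₀ k : ℂ) * (x q₀ k : ℂ) = 1 := by exact_mod_cast (hss ⟨k, hkO⟩ q₀).1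
          linear_combination -w k * this
        · have h := hw ⟨k, hkO⟩
          simp only [if_neg hk0, Int.cast_sub, sub_mul, apply_ite (Int.cast : ℤ → ℂ), Int.cast_zero,
            ite_mul, zero_mul, Finset.sum_sub_distrib, Finset.sum_ite_eq', Finset.mem_univ,
            if_true] at h
          have : (x q₀ k : ℂ) * (x q₀ k : ℂ) = 1 := by exact_mod_cast (hss ⟨k, hkO⟩ q₀).1
          linear_combination (x q₀ k : ℂ) * h - w k * this
      · obtain ⟨q, hq⟩ := hk
        rw [Subsingleton.elim q q₀] at hq
        obtain rfl : k = z q₀ := by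
          by_contra hne
          exact hq (hS.zero k hkO (fun q => by rw [Subsingleton.elim q q₀]; exact Ne.symm hne) q₀)
        have h := hw ⟨o₀, ho₀⟩
        simp only [if_pos rfl, Int.cast_sub, Int.cast_mul, sub_mul, apply_ite (Int.cast : ℤ → ℂ),
          Int.cast_zero, ite_mul, zero_mul, Finset.sum_sub_distrib, Finset.sum_ite_eq',
          Finset.mem_univ, if_true, Int.cast_ofNat] at h
        have : (σ q₀ : ℂ) * (σ q₀ : ℂ) = 1 := by exact_mod_cast hσσ q₀
        rw [(hσ q₀).2]
        push_cast
        linear_combination -(σ q₀ : ℂ) * h - w (z q₀) * this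
    · intro L _ D hL hD
      let I' := {o : O // (o : K) ≠ o₀}
      have hI' : Fintype.card I' = 4 := by
        rw [Fintype.card_subtype_compl, Fintype.card_coe,
          Fintype.card_congr (Equiv.subtypeEquivRight (fun o : O => show (o : K) = o₀ ↔
            o = ⟨o₀, ho₀⟩ from ⟨fun h => Subtype.ext h, fun h => by rw [h]⟩)),
          Fintype.card_subtype_eq, hcO, h1]
      have hP' : ∀ (o : I') (w : K → ℤ),
          ∑ k, (if ((o : O) : K) = o₀ then
            (if k = o₀ then 2 * x q₀ k else 0) - (if k = z q₀ then σ q₀ else 0)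
            else (if k = ((o : O) : K) then x q₀ k else 0) - (if k = o₀ then x q₀ k else 0)) * w k =
          x q₀ (o : O) * w (o : O) - x q₀ o₀ * w o₀ := fun o w => by
        simp [if_neg o.2, sub_mul, ite_mul, Finset.sum_sub_distrib]
      have hP0 : ∀ (w : K → ℤ),
          ∑ k, (if ((⟨o₀, ho₀⟩ : O) : K) = o₀ then
            (if k = o₀ then 2 * x q₀ k else 0) - (if k = z q₀ then σ q₀ else 0)
            else (if k = ((⟨o₀, ho₀⟩ : O) : K) then x q₀ k else 0) -
              (if k = o₀ then x q₀ k else 0)) * w k =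
          2 * x q₀ o₀ * w o₀ - σ q₀ * w (z q₀) := fun w => by
        simp [sub_mul, ite_mul, Finset.sum_sub_distrib]
      have hz0 : z q₀ ≠ o₀ := fun h => hS.notMem q₀ (h ▸ ho₀)
      have hgI : ∀ i j : I', ∑ a, D a i * D a j = if i = j then 2 else 1 := by
        intro i j
        rw [hD, hP']
        simp only [if_neg j.2, i.2, j.2.symm, if_false, if_pos rfl]
        have e0 := (hss ⟨o₀, ho₀⟩ q₀).1
        have ei := (hss i q₀).1
        by_cases hij : i = j
        · subst hij
          simp [i.2.symm]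
          linarith
        · have : ((i : O) : K) ≠ ((j : O) : K) := fun h => hij (Subtype.ext (Subtype.ext h))
          simp [this, j.2.symm, hij]
          linarith
      obtain ⟨c, leaf, η, hη, hinj, hne, hc, hlf, hrest⟩ := exists_star
        (fun a (i : I') => D a i) (fun i j => (hgI i j).trans (by split_ifs <;> rfl)) (by omega)
      obtain ⟨o', ho'⟩ : ∃ o' : O, o' = ⟨o₀, ho₀⟩ := ⟨_, rfl⟩
      have h0i : ∀ i : I', ∑ a, D a o' * D a i = -2 := fun i => by
        rw [hD, ho', hP0]
        simp [i.2, i.2.symm, hz0, (hzo i q₀).symm]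
        have e0 := (hss ⟨o₀, ho₀⟩ q₀).1
        linarith
      have h00 : ∑ a, D a o' * D a o' = 5 := by
        rw [hD, ho', hP0]
        simp [hz0, hz0.symm]
        have e0 := (hss ⟨o₀, ho₀⟩ q₀).1
        linarith [hσσ q₀]
      -- the rows are the centre and the leaves
      have huniv : ∀ a, a = c ∨ ∃ i, leaf i = a := by
        intro a
        by_contra hcon
        push Not at hcon
        have hle := Fintype.card_le_of_injective
          (fun o : Option (Option I') => o.elim a fun o => o.elim c leaf) (by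
            rintro (_ | _ | i) (_ | _ | j) h <;> simp only [Option.elim] at h
            · rfl
            · exact absurd h hcon.1
            · exact absurd h.symm (hcon.2 j)
            · exact absurd h.symm hcon.1
            · rfl
            · exact absurd h.symm (hne j)
            · exact absurd h (hcon.2 i)
            · exact absurd h (hne i)
            · exact congrArg (some ∘ some) (hinj h))
        rw [Fintype.card_option, Fintype.card_option, hI', hL, hcO, h1] at hle
        omega
      have hsum : ∀ g : L → ℤ, ∑ a, g a = g c + ∑ i, g (leaf i) := fun g => by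
        rw [← Finset.add_sum_erase _ _ (Finset.mem_univ c),
          show Finset.univ.erase c = Finset.univ.image leaf by
            ext a
            simp only [Finset.mem_erase, Finset.mem_univ, and_true, Finset.mem_image, true_and]
            exact ⟨fun h => (huniv a).resolve_left h, fun ⟨i, hi⟩ => hi ▸ hne i⟩,
          Finset.sum_image hinj.injOn]
      have hcol : ∀ i, D c o' * η + D (leaf i) o' * D (leaf i) i = -2 := fun i => by
        have h := h0i i
        rw [hsum, Finset.sum_eq_single i] at h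
        · simpa [hc i] using h
        · intro j _ hj
          rw [hrest (leaf j) i (hne j) (fun e => hj (hinj e)), mul_zero]
        · exact fun h => absurd (Finset.mem_univ _) h
      have hsq : ∀ i, D (leaf i) o' * D (leaf i) o' = (2 + D c o' * η) * (2 + D c o' * η) :=
        fun i => by
          have := hcol i
          rw [show 2 + D c o' * η = -(D (leaf i) o' * D (leaf i) i) by linarith]
          rcases hlf i with e | e <;> rw [e] <;> ring
      have hce : D c o' * η = -1 := by
        have h := h00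
        rw [hsum, Finset.sum_congr rfl fun i _ => hsq i, Finset.sum_const, Finset.card_univ, hI',
          nsmul_eq_mul] at h
        have hcc : D c o' * D c o' = D c o' * η * (D c o' * η) := by
          rcases hη with e | e <;> rw [e] <;> ring
        push_cast at h
        have : (D c o' * η + 1) * (5 * (D c o' * η) + 11) = 0 := by linarith
        rcases mul_eq_zero.1 this with e | e <;> omega
      refine ⟨fun o => if h : (o : K) = o₀ then c else leaf ⟨o, h⟩,
        fun o => if h : (o : K) = o₀ then -η else D (leaf ⟨o, h⟩) (o : O), ?_, ?_, ?_⟩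
      · intro o o₂ h
        simp only at h
        split_ifs at h with e e₂ e₂
        · exact Subtype.ext (e.trans e₂.symm)
        · exact absurd h.symm (hne _)
        · exact absurd h (hne _)
        · exact congrArg Subtype.val (hinj h)
      · intro o
        simp only
        split_ifs with e
        · rcases hη with e' | e' <;> simp [e']
        · exact hlf _
      · intro o o₂
        simp only [sum_mul_tvec, hhalf]
        have e0 := (hss ⟨o₀, ho₀⟩ q₀).1
        by_cases e₂ : (o₂ : K) = o₀
        · have : o₂ = o' := ho' ▸ Subtype.ext e₂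
          subst this
          by_cases e : (o : K) = o₀
          · simp [e, e₂, hz0, hz0.symm]
            rcases hη with e' | e' <;> rw [e'] at hce ⊢ <;> nlinarith [hσσ q₀]
          · simp [e, e₂, hz0, (hzo o q₀)]
            have := hcol ⟨o, e⟩
            rcases hlf ⟨o, e⟩ with e' | e' <;> simp only [e'] at this ⊢ <;> linarith [hσσ q₀]
        · by_cases e : (o : K) = o₀
          · simp [e, e₂, Ne.symm e₂, hz0, (hzo o₂ q₀).symm]
            rw [hc ⟨o₂, e₂⟩]
            linear_combination -η * e0
          · simp [e, e₂, hz0, (hzo o₂ q₀).symm]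
            by_cases eo : (o : K) = o₂
            · obtain rfl : o = o₂ := Subtype.ext eo
              rw [if_pos rfl]
              linear_combination -(D (leaf ⟨o, e⟩) (o : O)) * (hss o q₀).1
            · have eo' : ¬ (o : K) = (o₂ : K) := eo
              simp [Ne.symm eo'] at *
              rw [if_neg eo']
              exact hrest (leaf ⟨o, e⟩) ⟨o₂, e₂⟩ (hne ⟨o, e⟩) fun h => eo' (congrArg Subtype.val (hinj h))
  -- two or four columns
  obtain ⟨c, hc⟩ : ∃ c : ℤ, c * ((Fintype.card Q : ℤ) - 3) = 1 ∧ c * c = 1 := by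
    rcases hQ' with h | h <;> rw [h]
    · exact ⟨-1, by norm_num, by norm_num⟩
    · exact ⟨1, by norm_num, by norm_num⟩
  refine ⟨fun o k => (if k = (o : K) then x q₀ k else 0) + c * ∑ q, if k = z q then σ q else 0,
    ?_, ?_, ?_⟩
  · intro o q
    simp only [add_mul, mul_assoc, Finset.sum_mul, Finset.sum_add_distrib, ← Finset.mul_sum, ite_mul,
      zero_mul]
    rw [Finset.sum_ite_eq', if_pos (Finset.mem_univ _), Finset.sum_comm,
      Finset.sum_congr rfl fun q' _ => by rw [Finset.sum_ite_eq', if_pos (Finset.mem_univ _)],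
      htot, (hss o q).2, (hss o q₀).1]
    linear_combination -hc.1
  · intro w hw
    have hw' : ∀ o : O, (x q₀ o : ℂ) * w o + (c : ℂ) * ∑ q, (σ q : ℂ) * w (z q) = 0 := fun o => by
      rw [← hw o]
      refine Eq.symm ?_
      simp only [Int.cast_add, Int.cast_mul, Int.cast_sum, add_mul, mul_assoc, Finset.sum_mul,
        Finset.sum_add_distrib, ← Finset.mul_sum, apply_ite (Int.cast : ℤ → ℂ), Int.cast_zero,
        ite_mul, zero_mul]
      rw [Finset.sum_ite_eq', if_pos (Finset.mem_univ _), Finset.sum_comm,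
        Finset.sum_congr rfl fun q' _ => by rw [Finset.sum_ite_eq', if_pos (Finset.mem_univ _)]]
    obtain ⟨W, hW⟩ : ∃ W, W = ∑ q, (σ q : ℂ) * w (z q) := ⟨_, rfl⟩
    rw [← hW] at hw'
    refine ⟨fun q => ((σ q : ℂ) * w (z q) * 3 - 3 * W / ((Fintype.card Q : ℂ) - 3)) / 9 +
      0 * W, fun k hk => ?_⟩
    obtain ⟨r, hr⟩ : ∃ r : ℂ, r = (Fintype.card Q : ℂ) - 3 := ⟨_, rfl⟩
    have hcr : (c : ℂ) * r = 1 := by rw [hr]; exact_mod_cast hc.1
    have hr0 : r ≠ 0 := fun h => by rw [h, mul_zero] at hcr; exact zero_ne_one hcr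
    simp only [zero_mul, add_zero, ← hr]
    have htotal : ∑ q, ((σ q : ℂ) * w (z q) * 3 - 3 * W / r) / 9 = -(c : ℂ) * W := by
      rw [← Finset.sum_div, Finset.sum_sub_distrib, ← Finset.sum_mul, ← hW, Finset.sum_const,
        nsmul_eq_mul, Finset.card_univ, show (Fintype.card Q : ℂ) = r + 3 by rw [hr]; ring]
      field_simp
      linear_combination 9 * W * hcr
    by_cases hkO : k ∈ O
    · have hrow : ∀ q, (x q k : ℂ) = (x q₀ k : ℂ) := fun q => by
        exact_mod_cast (hss ⟨k, hkO⟩ q).2
      simp only [hrow, ← Finset.sum_mul, htotal]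
      have h := hw' ⟨k, hkO⟩
      have : (x q₀ k : ℂ) * (x q₀ k : ℂ) = 1 := by exact_mod_cast (hss ⟨k, hkO⟩ q₀).1
      linear_combination (x q₀ k : ℂ) * h - w k * this
    · obtain ⟨q₁, rfl⟩ : ∃ q, z q = k := by
        by_contra hcon
        obtain ⟨q, hq⟩ := hk
        exact hq (hS.zero k hkO (not_exists.1 hcon) q)
      have hrow : ∀ q, (x q (z q₁) : ℂ) = (if q = q₁ then 3 * (σ q₁ : ℂ) else 0) - (σ q₁ : ℂ) := by
        intro q
        by_cases h : q = q₁
        · subst h; rw [if_pos rfl, (hσ q).2]; push_cast; ring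
        · rw [if_neg h, hother q q₁ h]; push_cast; ring
      simp only [hrow, mul_sub, mul_ite, mul_zero, Finset.sum_sub_distrib, Finset.sum_ite_eq',
        Finset.mem_univ, if_true, ← Finset.sum_mul, htotal]
      have : (σ q₁ : ℂ) * (σ q₁ : ℂ) = 1 := by exact_mod_cast hσσ q₁
      field_simp
      linear_combination -9 * r * w (z q₁) * this - 9 * W * (σ q₁ : ℂ) * hcr
  · intro L _ D hL hD
    have hPP : ∀ (o : O) (w : K → ℤ), ∑ k, ((if k = (o : K) then x q₀ k else 0) +
        c * ∑ q, if k = z q then σ q else 0) * w k =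
        x q₀ o * w o + c * ∑ q, σ q * w (z q) := fun o w => by
      simp only [add_mul, mul_assoc, Finset.sum_mul, Finset.sum_add_distrib, ← Finset.mul_sum,
        ite_mul, zero_mul]
      rw [Finset.sum_ite_eq', if_pos (Finset.mem_univ _), Finset.sum_comm,
        Finset.sum_congr rfl fun q' _ => by rw [Finset.sum_ite_eq', if_pos (Finset.mem_univ _)]]
    have hgram : ∀ o o' : O, ∑ a, D a o * D a o' =
        (if o = o' then 1 else 0) + (Fintype.card Q : ℤ) := by
      intro o o'
      rw [hD, hPP]
      have hzz : ∀ q, (∑ q', if z q = z q' then σ q' else 0) = σ q := fun q => by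
        simp [hS.zinj.eq_iff]
      simp only [(hzo o' _).symm, if_false, zero_add, hzz, (hzo o _), Finset.sum_const_zero,
        mul_zero, add_zero]
      rw [Finset.sum_congr rfl fun q _ => show σ q * (c * σ q) = c by
        rw [mul_left_comm, hσσ, mul_one], Finset.sum_const, Finset.card_univ, nsmul_eq_mul]
      by_cases h : o = o'
      · subst h
        rw [if_pos rfl, if_pos rfl]
        linear_combination (hss o q₀).1 + (Fintype.card Q : ℤ) * hc.2
      · rw [if_neg h, if_neg fun h' => h (Subtype.ext h')]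
        linear_combination (Fintype.card Q : ℤ) * hc.2
    have ht : ∀ o o' : O, ∑ k, ((if k = (o' : K) then x q₀ k else 0) +
        c * ∑ q, if k = z q then σ q else 0) * tvec x z q₀ o k =
        (if o = o' then 1 else 0) + c := fun o o' => by
      rw [hPP]
      simp only [tvec, hhalf, (hzo o' q₀), if_false, add_zero, (hzo o _).symm, zero_add,
        hS.zinj.eq_iff, mul_ite, mul_zero, Finset.sum_ite_eq', Finset.mem_univ, if_true]
      by_cases h : o = o'
      · subst h
        rw [if_pos rfl, if_pos rfl]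
        linear_combination (hss o q₀).1 + c * hσσ q₀
      · rw [if_neg h, if_neg fun h' => h (Subtype.ext h'.symm)]
        linear_combination c * hσσ q₀
    simp only [ht]
    rcases hQ' with h | h
    · obtain rfl : c = -1 := by have := hc.1; rw [h] at this; omega
      obtain ⟨f, η, hf, hη, hfe⟩ := four_by_four D (by rw [Fintype.card_coe]; omega) (by omega)
        (fun i j => by rw [hgram, h]; split_ifs <;> norm_num)
      exact ⟨f, η, hf, hη, fun o o' => by rw [hfe]; split_ifs <;> norm_num⟩
    · obtain rfl : c = 1 := by have := hc.1; rw [h] at this; omega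
      obtain ⟨f, η, hf, hη, hfe⟩ := two_by_two D (by rw [Fintype.card_coe]; omega) (by omega)
        (fun i j => by rw [hgram, h]; split_ifs <;> norm_num)
      exact ⟨f, η, hf, hη, fun o o' => by rw [hfe]; split_ifs <;> norm_num⟩

end CfsgLib.Blk83.Ex27
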