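import Cfsg.Agent.Lib.Blk83.PrincipalKernel
import Cfsg.Agent.Lib.Blk83.PrincipalColumn
import Cfsg.Agent.Lib.Blk83.FrobeniusLocal
import Cfsg.Agent.Lib.PerfIso.Column
import Cfsg.Agent.Lib.CharTools.Basic
import Cfsg.Agent.Lib.PNilpotent.AbelianHall

/-!
The principal block at the sections of `p`-elements, in particular at elements whose centralizer
has a normal `p`-complement.
-/

set_option autoImplicit false
set_option maxHeartbeats 800000

open Cfsg CfsgLib.Blocks CfsgLib.BlockRank
open scoped Classical ComplexConjugate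

namespace CfsgLib.Blk83.Ex27

universe u

variable {G : Type u} [Group G] [Fintype G] {p : ℕ} [Fact p.Prime] {M : Ideal Cfsg.AlgInt}

theorem principal_isInduced (hM : IsPModular p M) {y : G} (hy : ∃ k : ℕ, orderOf y = p ^ k) :
    IsInducedBlock M (Subgroup.centralizer ({y} : Set G))
      (principalBlock M ↥(Subgroup.centralizer ({y} : Set G))) (principalBlock M G) := by
  haveI := hM.2.1
  exact (isInducedBlock_principal_iff hM (exists_isInducedBlock_centralizer hM rfl hy
    (isPBlock_principalBlock (M := M) (G := ↥(Subgroup.centralizer ({y} : Set G)))))).mpr rfl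

/-- On a section, a member of the principal block is its principal part. -/
theorem principal_translate (hM : IsPModular p M) {y : G} (hy : ∃ k : ℕ, orderOf y = p ^ k)
    {χ : IrrCharacter G} (hχ : χ ∈ principalBlock M G) {s : Subgroup.centralizer ({y} : Set G)}
    (hs : IsPRegular p s) :
    (χ : G → ℂ) (y * s) = Cfsg.blockPart (principalBlock M ↥(Subgroup.centralizer ({y} : Set G)))
      (fun c : Subgroup.centralizer ({y} : Set G) => (χ : G → ℂ) (y * c)) s := by
  haveI := hM.2.1
  haveI := Fintype.ofFinite (Subgroup.centralizer ({y} : Set G))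
  set b₀ := principalBlock M ↥(Subgroup.centralizer ({y} : Set G))
  rw [CfsgLib.PerfIso.apply_translate hM isPBlock_principalBlock hy hχ s hs]
  have hS : {b : Set (IrrCharacter (Subgroup.centralizer ({y} : Set G))) |
      IsInducedBlock M (Subgroup.centralizer ({y} : Set G)) b (principalBlock M G)} = {b₀} := by
    ext b
    constructor
    · exact fun hb => (isInducedBlock_principal_iff hM ⟨_, hb⟩).1 hb
    · intro hb
      rw [Set.mem_singleton_iff] at hb
      subst hb
      exact principal_isInduced hM hy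
  rw [hS, finsum_mem_singleton]

/-- Column orthogonality within one section. -/
theorem sum_translate_same (hM : IsPModular p M) {y : G} (hy : ∃ k : ℕ, orderOf y = p ^ k)
    {s t : Subgroup.centralizer ({y} : Set G)} (hs : IsPRegular p s) (ht : IsPRegular p t) :
    ∑ χ ∈ (principalBlock M G).toFinset, (χ : G → ℂ) (y * s) * conj ((χ : G → ℂ) (y * t)) =
      ∑ φ ∈ (principalBlock M ↥(Subgroup.centralizer ({y} : Set G))).toFinset,
        (φ : Subgroup.centralizer ({y} : Set G) → ℂ) s *
          conj ((φ : Subgroup.centralizer ({y} : Set G) → ℂ) t) := by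
  haveI := hM.2.1
  haveI := Fintype.ofFinite (Subgroup.centralizer ({y} : Set G))
  rw [← sum_blockPart_translate_mul_conj hM rfl hy (principal_isInduced hM hy) hs ht]
  exact Finset.sum_congr rfl fun χ hχ => by
    rw [principal_translate hM hy (Set.mem_toFinset.1 hχ) hs,
      principal_translate hM hy (Set.mem_toFinset.1 hχ) ht]

/-- Column orthogonality between two sections. -/
theorem sum_translate_ne (hM : IsPModular p M) {y y' : G} (hy : ∃ k : ℕ, orderOf y = p ^ k)
    (hy' : ∃ k : ℕ, orderOf y' = p ^ k) (hne : ¬ IsConj y y')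
    {s : Subgroup.centralizer ({y} : Set G)} {t : Subgroup.centralizer ({y'} : Set G)}
    (hs : IsPRegular p s) (ht : IsPRegular p t) :
    ∑ χ ∈ (principalBlock M G).toFinset, (χ : G → ℂ) (y * s) * conj ((χ : G → ℂ) (y' * t)) = 0 := by
  haveI := hM.2.1
  haveI := Fintype.ofFinite (Subgroup.centralizer ({y} : Set G))
  have hind := principal_isInduced hM hy
  rw [Finset.sum_congr rfl fun χ hχ => by
    rw [principal_translate hM hy (Set.mem_toFinset.1 hχ) hs],
    Finset.sum_subset (Finset.subset_univ _) fun χ _ hχ => by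
      rw [CfsgLib.PerfIso.blockPart_eq_zero_of_not_mem hM hy hind
        (fun h => hχ (Set.mem_toFinset.2 h)) s hs, zero_mul]]
  simp only [blockPart_eq_projKer, Finset.sum_mul]
  rw [Finset.sum_comm]
  refine Finset.sum_eq_zero fun c _ => ?_
  by_cases hc : IsPRegular p c
  swap
  · simp [projKer_eq_zero hM hind.1 hs hc]
  simp only [mul_assoc, ← Finset.mul_sum]
  rw [CfsgLib.Char.sum_mul_conj, if_neg, mul_zero]
  intro hconj
  obtain ⟨g, hg⟩ := isConj_iff.1 hconj
  obtain ⟨k, hk⟩ := hy
  obtain ⟨k', hk'⟩ := hy'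
  have h1 := CfsgLib.Blocks.isPPart_of_commute
    (Subgroup.mem_centralizer_singleton_iff.1 c.2 : Commute (c : G) y).symm hk
    (by rw [Subgroup.orderOf_coe]; exact hc)
  have h2 := CfsgLib.Blocks.isPPart_of_commute
    (Subgroup.mem_centralizer_singleton_iff.1 t.2 : Commute (t : G) y').symm hk'
    (by rw [Subgroup.orderOf_coe]; exact ht)
  have h3 := CfsgLib.Blocks.IsPPart.conj h1 g
  rw [hg] at h3
  exact hne (isConj_iff.2 ⟨g, CfsgLib.Blocks.IsPPart.unique Fact.out h3 h2⟩)

omit [Fintype G] in
/-- The principal block of a group with a normal `p`-complement. -/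
theorem principal_of_complement [Finite G] (hM : IsPModular p M) (K : Subgroup G) [K.Normal]
    (hK : ¬ p ∣ Nat.card K) {a : ℕ} (hidx : K.index = p ^ a) :
    (∀ φ ∈ principalBlock M G, ∀ s : G, IsPRegular p s → (φ : G → ℂ) s = (φ : G → ℂ) 1) ∧
      (∑ φ ∈ (principalBlock M G).toFinset, (φ : G → ℂ) 1 * conj ((φ : G → ℂ) 1) =
        ((p ^ a : ℕ) : ℂ)) ∧ Cfsg.blockRank p (principalBlock M G) = 1 := by
  haveI := Fintype.ofFinite G
  haveI := Fintype.ofFinite (G ⧸ K)
  have hQ : IsPGroup p (G ⧸ K) := IsPGroup.of_card (n := a) (by rw [← Subgroup.index_eq_card, hidx])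
  have hmem : ∀ s : G, Cfsg.IsPRegular p s → s ∈ K := by
    intro s hs
    rw [← QuotientGroup.eq_one_iff, ← orderOf_eq_one_iff]
    obtain ⟨j, hj⟩ := IsPGroup.iff_orderOf.1 hQ (QuotientGroup.mk s)
    have hs' := (isPRegular_mk_iff K hK s).1 hs
    rw [Cfsg.IsPRegular, hj] at hs'
    cases j with
    | zero => rwa [pow_zero] at hj
    | succ j => exact absurd (dvd_pow_self p j.succ_ne_zero) hs'
  have htriv : ∀ φ ∈ principalBlock M G, ∀ s : G, IsPRegular p s →
      (φ : G → ℂ) s = (φ : G → ℂ) 1 :=
    fun φ hφ s hs => principal_trivial_on hM K hK hφ s (hmem s hs)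
  refine ⟨htriv, ?_, ?_⟩
  · obtain ⟨hmaps, hinj, hsurj⟩ := inflIrr_bijOn hM K hK
    rw [← hidx, Subgroup.index_eq_card, ← Finset.sum_nbij (inflIrr K)
      (s := (Finset.univ : Finset (IrrCharacter (G ⧸ K))))
      (f := fun η => ((η : G ⧸ K → ℂ) 1) * conj ((η : G ⧸ K → ℂ) 1))]
    · rw [← CfsgLib.CharTools.sum_degree_sq' (G := G ⧸ K)]
      push_cast
      refine Finset.sum_congr rfl fun η _ => ?_
      rw [← CfsgLib.BlockReg.deg_cast η, map_natCast, sq]
    · intro η _
      exact Finset.mem_coe.2 (Set.mem_toFinset.2 (hmaps (mem_principalBlock_of_isPGroup hM hQ η)))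
    · intro η _ η' _ h
      exact inflIrr_injective K h
    · intro φ hφ
      obtain ⟨η, -, hη⟩ := hsurj (Set.mem_toFinset.1 (Finset.mem_coe.1 hφ))
      exact ⟨η, Finset.mem_coe.2 (Finset.mem_univ _), hη⟩
    · intro η _
      rw [inflIrr_apply, QuotientGroup.mk_one]
  · haveI := hM.2.1
    rw [Cfsg.blockRank]
    obtain ⟨φ₀, hφ₀⟩ := CfsgLib.BlockReg.block_nonempty hM (isPBlock_principalBlock (M := M) (G := G))
    refine (congrArg (fun W : Submodule ℂ (G → ℂ) => Module.finrank ℂ W) (le_antisymm
      (b := Submodule.span ℂ {Cfsg.pRegularPart p (φ₀ : G → ℂ)}) ?_ ?_)).trans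
      (finrank_span_singleton fun h0 => ?_)
    · rw [Submodule.span_le]
      rintro _ ⟨φ, hφ, rfl⟩
      refine Submodule.mem_span_singleton.2 ⟨(φ : G → ℂ) 1 / (φ₀ : G → ℂ) 1, funext fun s => ?_⟩
      simp only [Cfsg.pRegularPart, Pi.smul_apply, smul_eq_mul]
      split_ifs with hs
      · rw [htriv φ hφ s hs, htriv φ₀ hφ₀ s hs,
          div_mul_cancel₀ _ (CfsgLib.BlockReg.deg_ne_zero φ₀)]
      · rw [mul_zero]
    · exact Submodule.span_mono (Set.singleton_subset_iff.2 ⟨φ₀, hφ₀, rfl⟩)
    · have h1 := congrFun h0 1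
      simp only [Cfsg.pRegularPart, Pi.zero_apply] at h1
      rw [if_pos (by simp [IsPRegular, (Fact.out : p.Prime).ne_one])] at h1
      exact CfsgLib.BlockReg.deg_ne_zero φ₀ h1

/-- The centralizer of `y` has a normal `p`-complement of index `p ^ a`. -/
def Compl (p : ℕ) (y : G) (a : ℕ) : Prop :=
  ∃ K : Subgroup (Subgroup.centralizer ({y} : Set G)),
    K.Normal ∧ ¬ p ∣ Nat.card K ∧ K.index = p ^ a

/-- The members of the principal block are constant on such a section. -/
theorem principal_translate_const (hM : IsPModular p M) {y : G}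
    (hy : ∃ k : ℕ, orderOf y = p ^ k) {a : ℕ} (hc : Compl p y a) {χ : IrrCharacter G}
    (hχ : χ ∈ principalBlock M G) {s : Subgroup.centralizer ({y} : Set G)} (hs : IsPRegular p s) :
    (χ : G → ℂ) (y * s) = (χ : G → ℂ) y := by
  obtain ⟨K, hn, hK, hidx⟩ := hc
  obtain ⟨htriv, -, -⟩ := principal_of_complement hM K hK hidx
  haveI := Fintype.ofFinite (Subgroup.centralizer ({y} : Set G))
  have h1 : IsPRegular p (1 : Subgroup.centralizer ({y} : Set G)) := CfsgLib.PerfIso.isPRegular_one
  conv_rhs => rw [← mul_one y]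
  rw [principal_translate hM hy hχ hs,
    show ((1 : G)) = ((1 : Subgroup.centralizer ({y} : Set G)) : G) from rfl,
    principal_translate hM hy hχ h1, blockPart_apply, blockPart_apply]
  exact Finset.sum_congr rfl fun φ hφ => by rw [htriv φ (Set.mem_toFinset.1 hφ) s hs]

/-- The norm of such a column. -/
theorem principal_norm (hM : IsPModular p M) {y : G} (hy : ∃ k : ℕ, orderOf y = p ^ k) {a : ℕ}
    (hc : Compl p y a) :
    ∑ χ ∈ (principalBlock M G).toFinset, (χ : G → ℂ) y * conj ((χ : G → ℂ) y) =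
      ((p ^ a : ℕ) : ℂ) := by
  obtain ⟨K, hn, hK, hidx⟩ := hc
  obtain ⟨-, hsum, -⟩ := principal_of_complement hM K hK hidx
  have h1 : IsPRegular p (1 : Subgroup.centralizer ({y} : Set G)) := CfsgLib.PerfIso.isPRegular_one
  rw [← hsum, ← sum_translate_same hM hy h1 h1]
  simp

theorem principal_blockRank (hM : IsPModular p M) {y : G} {a : ℕ} (hc : Compl p y a) :
    Cfsg.blockRank p (principalBlock M ↥(Subgroup.centralizer ({y} : Set G))) = 1 := by
  obtain ⟨K, hn, hK, hidx⟩ := hc
  exact (principal_of_complement hM K hK hidx).2.2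

/-- Columns of different elements, or of a nontrivial element and a regular one, are orthogonal. -/
theorem sum_apply_ne (hM : IsPModular p M) {y y' : G} (hy : ∃ k : ℕ, orderOf y = p ^ k)
    (hy' : ∃ k : ℕ, orderOf y' = p ^ k) (hne : ¬ IsConj y y') :
    ∑ χ ∈ (principalBlock M G).toFinset, (χ : G → ℂ) y * conj ((χ : G → ℂ) y') = 0 := by
  have h1 : ∀ z : G, IsPRegular p (1 : Subgroup.centralizer ({z} : Set G)) :=
    fun z => CfsgLib.PerfIso.isPRegular_one
  simpa using sum_translate_ne hM hy hy' hne (h1 y) (h1 y')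

/-- No member of the principal block vanishes at all singular elements. -/
theorem exists_singular_ne_zero (hM : IsPModular p M) (hp : p ∣ Nat.card G) {χ : IrrCharacter G}
    (hχ : χ ∈ principalBlock M G) : ∃ g : G, ¬ IsPRegular p g ∧ (χ : G → ℂ) g ≠ 0 := by
  by_contra hcon
  push Not at hcon
  obtain ⟨y, hy⟩ := exists_prime_orderOf_dvd_card' (G := G) p (by rwa [Nat.card_eq_fintype_card] at hp ⊢)
  have hys : ¬ IsPRegular p y := fun h => h (hy ▸ dvd_rfl)
  have hne : χ ≠ (CfsgLib.Char.principalIrr : IrrCharacter G) := fun he => by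
    have h1 := hcon y hys
    rw [he] at h1
    simp at h1
  have h0 := (mem_principalBlock_iff p hM χ).1 hχ
  apply h0
  have hsum : ∑ g : G, (χ : G → ℂ) g = 0 := by
    have h1 := CfsgLib.Char.classInner_irr_of_ne χ.2
      (CfsgLib.Char.principalIrr : IrrCharacter G).2 (fun h => hne (Subtype.ext h))
    rw [Cfsg.classInner, mul_eq_zero] at h1
    have h2 := h1.resolve_left (inv_ne_zero (Nat.cast_ne_zero.2 Nat.card_pos.ne'))
    simpa using h2
  rw [regMult, show ∑ g : G, Cfsg.pRegularPart p (χ : G → ℂ) g = ∑ g : G, (χ : G → ℂ) g from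
    Finset.sum_congr rfl fun g _ => by
      simp only [Cfsg.pRegularPart]
      split_ifs with hg
      · rfl
      · exact (hcon g hg).symm, hsum, mul_zero]

/-- The number of characters of the principal block from the classes of `p`-elements. -/
theorem principal_card (hM : IsPModular p M) (X : Finset G)
    (hX : ∀ x ∈ X, ∃ k : ℕ, orderOf x = p ^ k)
    (hXrep : ∀ g : G, (∃ k : ℕ, orderOf g = p ^ k) → ∃! x, x ∈ X ∧ IsConj g x) :
    Nat.card (principalBlock M G) = ∑ x ∈ X,
      Cfsg.blockRank p (principalBlock M ↥(Subgroup.centralizer ({x} : Set G))) := by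
  haveI := hM.2.1
  rw [card_eq_sum_sections hM isPBlock_principalBlock X hX hXrep]
  refine Finset.sum_congr rfl fun x hx => ?_
  have hS : {b : Set (IrrCharacter (Subgroup.centralizer ({x} : Set G))) |
      IsInducedBlock M (Subgroup.centralizer ({x} : Set G)) b (principalBlock M G)} =
      {principalBlock M ↥(Subgroup.centralizer ({x} : Set G))} := by
    ext b
    constructor
    · exact fun hb => (isInducedBlock_principal_iff hM ⟨_, hb⟩).1 hb
    · intro hb
      rw [Set.mem_singleton_iff] at hb
      subst hb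
      exact principal_isInduced hM (hX x hx)
  rw [hS, finsum_mem_singleton]

end CfsgLib.Blk83.Ex27
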