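import Cfsg.Agent.Lib.Transfer.Fusion
import Cfsg.Agent.Lib.Blk83.Ex27.Sections
import Cfsg.Prelude.Def_Transfer
import Mathlib.GroupTheory.Transfer

/-!
The local structure of a group with extraspecial Sylow 3-subgroup of order 27 and exponent 3 whose
normalizer centralizes the centre.
-/

set_option autoImplicit false
set_option maxHeartbeats 800000

open Cfsg CfsgLib.Transfer
open scoped Classical Pointwise

namespace CfsgLib.Blk83.Ex27

universe u

variable {G : Type u} [Group G] [Finite G]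

/-- The hypotheses. -/
structure Data (P : Sylow 3 G) (z : G) : Prop where
  card : Nat.card (P : Subgroup G) = 27
  exp : ∀ x ∈ P, x ^ 3 = 1
  zmem : z ∈ P
  zne : z ≠ 1
  zcomm : ∀ y ∈ P, z * y = y * z
  center : ∀ w ∈ P, (∀ y ∈ P, w * y = y * w) → w ∈ Subgroup.zpowers z
  comm : ∀ x ∈ P, ∀ y ∈ P, x * y * x⁻¹ * y⁻¹ ∈ Subgroup.zpowers z
  norm : ∀ g ∈ Subgroup.normalizer ((P : Subgroup G) : Set G), g * z = z * g

theorem data_of_extraspecial {P : Sylow 3 G} (hE : Cfsg.IsExtraspecial 3 ↥(P : Subgroup G))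
    (h27 : Nat.card (P : Subgroup G) = 27) (hexp : ∀ x ∈ (P : Subgroup G), x ^ 3 = 1)
    (hNC : ∀ g ∈ Subgroup.normalizer ((P : Subgroup G) : Set G), ∀ z ∈ (P : Subgroup G),
      (∀ y ∈ (P : Subgroup G), z * y = y * z) → g * z = z * g) :
    ∃ z, Data P z := by
  obtain ⟨⟨-, -, hcomm⟩, hcard⟩ := hE
  haveI : Fact (Nat.Prime 3) := ⟨Nat.prime_three⟩
  obtain ⟨z, hz, hz1⟩ : ∃ z ∈ Subgroup.center ↥(P : Subgroup G), z ≠ 1 := by
    refine (Subgroup.bot_or_exists_ne_one _).resolve_left fun h => ?_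
    rw [h, Subgroup.card_bot] at hcard
    norm_num at hcard
  have hgen : Subgroup.center ↥(P : Subgroup G) = Subgroup.zpowers z := by
    refine (Subgroup.eq_of_le_of_card_ge (Subgroup.zpowers_le.2 hz) ?_).symm
    rw [hcard, Nat.card_zpowers, orderOf_eq_prime (Subtype.ext (by simpa using hexp z z.2)) hz1]
  have hmap : ∀ w : ↥(P : Subgroup G), w ∈ Subgroup.center ↥(P : Subgroup G) →
      (w : G) ∈ Subgroup.zpowers (z : G) := fun w hw => by
    rw [hgen, Subgroup.mem_zpowers_iff] at hw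
    obtain ⟨i, rfl⟩ := hw
    exact Subgroup.mem_zpowers_iff.2 ⟨i, by simp⟩
  refine ⟨z, h27, hexp, z.2, fun h => hz1 (Subtype.ext h), fun y hy => ?_, fun w hw hwc => ?_,
    fun x hx y hy => ?_, fun g hg => hNC g hg z z.2 fun y hy => ?_⟩
  · exact congrArg Subtype.val (Subgroup.mem_center_iff.1 hz ⟨y, hy⟩).symm
  · exact hmap ⟨w, hw⟩ (Subgroup.mem_center_iff.2 fun y => Subtype.ext (hwc y y.2).symm)
  · refine hmap ⟨_, mul_mem (mul_mem (mul_mem hx hy) (inv_mem hx)) (inv_mem hy)⟩ ?_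
    rw [← hcomm]
    exact Subgroup.subset_closure ⟨⟨x, hx⟩, Subgroup.mem_top _, ⟨y, hy⟩, Subgroup.mem_top _, rfl⟩
  · exact congrArg Subtype.val (Subgroup.mem_center_iff.1 hz ⟨y, hy⟩).symm

variable {P : Sylow 3 G} {z : G}

omit [Finite G] in
theorem Data.orderOf_z (h : Data P z) : orderOf z = 3 :=
  haveI : Fact (Nat.Prime 3) := ⟨Nat.prime_three⟩
  orderOf_eq_prime (h.exp z h.zmem) h.zne

omit [Finite G] in
theorem Data.exists_pow (h : Data P z) {w : G} (hw : w ∈ Subgroup.zpowers z) :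
    w = 1 ∨ w = z ∨ w = z⁻¹ := by
  obtain ⟨i, rfl⟩ := Subgroup.mem_zpowers_iff.1 hw
  rw [← zpow_mod_orderOf, h.orderOf_z]
  rcases (show i % ((3 : ℕ) : ℤ) = 0 ∨ i % ((3 : ℕ) : ℤ) = 1 ∨ i % ((3 : ℕ) : ℤ) = 2 by omega) with
    e | e | e <;> rw [e]
  · left; exact zpow_zero z
  · right; left; exact zpow_one z
  · right; right
    rw [zpow_ofNat, eq_inv_iff_mul_eq_one, ← pow_succ]
    exact h.exp z h.zmem

omit [Finite G] in
/-- Every noncentral element is shifted by a generator of the centre. -/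
theorem Data.exists_shift (h : Data P z) {u w : G} (hu : u ∈ P)
    (hu' : u ∉ Subgroup.zpowers z) (hw : w ∈ Subgroup.zpowers z) :
    ∃ a ∈ P, a * u * a⁻¹ = u * w := by
  obtain ⟨y, hy, hne⟩ : ∃ y ∈ P, u * y ≠ y * u := by
    by_contra hcon
    push Not at hcon
    exact hu' (h.center u hu hcon)
  obtain ⟨i, hi⟩ : ∃ i : ℤ, y * u * y⁻¹ = u * z ^ i ∧ z ^ i ≠ 1 := by
    obtain ⟨i, hi⟩ := Subgroup.mem_zpowers_iff.1 (h.comm y hy u hu)
    refine ⟨i, ?_, fun h1 => hne ?_⟩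
    · have hz : Commute u (z ^ i) := (Commute.symm (h.zcomm u hu)).zpow_right i
      rw [hz.eq, hi]; group
    · rw [h1] at hi
      calc u * y = (y * u * y⁻¹ * u⁻¹) * (u * y) := by rw [← hi, one_mul]
        _ = y * u := by group
  have hfix : ∀ k : ℕ, y ^ k * u * (y ^ k)⁻¹ = u * (z ^ i) ^ k := by
    intro k
    induction k with
    | zero => simp
    | succ k ih =>
      have hz : Commute y (z ^ i) := (Commute.symm (h.zcomm y hy)).zpow_right i
      calc y ^ (k + 1) * u * (y ^ (k + 1))⁻¹ = y * (y ^ k * u * (y ^ k)⁻¹) * y⁻¹ := by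
            rw [pow_succ']; group
        _ = y * u * y⁻¹ * (z ^ i) ^ k := by
            rw [ih, ← mul_assoc, mul_assoc _ _ y⁻¹, ((hz.pow_right k).inv_left).eq.symm, ← mul_assoc]
        _ = u * (z ^ i) ^ (k + 1) := by rw [hi.1, mul_assoc, pow_succ']
  haveI : Fact (Nat.Prime 3) := ⟨Nat.prime_three⟩
  have ho : orderOf (z ^ i) = 3 := by
    refine orderOf_eq_prime ?_ hi.2
    rw [← zpow_natCast, ← zpow_mul, mul_comm, zpow_mul, zpow_natCast, h.exp z h.zmem, one_zpow]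
  have hzz : Subgroup.zpowers (z ^ i) = Subgroup.zpowers z := by
    haveI : Finite (Subgroup.zpowers z) := Nat.finite_of_card_ne_zero (by
      rw [Nat.card_zpowers, h.orderOf_z]; norm_num)
    exact Subgroup.eq_of_le_of_card_ge (Subgroup.zpowers_le.2 (Subgroup.mem_zpowers_iff.2 ⟨i, rfl⟩))
      (by rw [Nat.card_zpowers, Nat.card_zpowers, ho, h.orderOf_z])
  rw [← hzz] at hw
  obtain ⟨k, rfl⟩ := (Submonoid.mem_powers_iff _ _).1
    ((IsOfFinOrder.mem_powers_iff_mem_zpowers (orderOf_pos_iff.1 (by rw [ho]; norm_num))).2 hw)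
  exact ⟨y ^ k, pow_mem hy k, hfix k⟩

/-- The conjugation by `g` fixes `u⁻¹`-negated generators: a useful normalizing lemma. -/
theorem Data.not_negated (h : Data P z) {u g : G} (hu : u ∈ P) (hgz : g * z * g⁻¹ = z⁻¹)
    (hgu : g * u * g⁻¹ = u⁻¹) : False := by
  haveI : Fact (Nat.Prime 3) := ⟨Nat.prime_three⟩
  let K : Subgroup G :=
    { carrier := {k | k * z * k⁻¹ = z ∧ k * u * k⁻¹ * u⁻¹ ∈ Subgroup.zpowers z}
      one_mem' := ⟨by simp, by simp⟩
      mul_mem' := by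
        rintro a b ⟨haz, hau⟩ ⟨hbz, hbu⟩
        obtain ⟨i, hi⟩ := Subgroup.mem_zpowers_iff.1 hbu
        refine ⟨?_, ?_⟩
        · calc a * b * z * (a * b)⁻¹ = a * (b * z * b⁻¹) * a⁻¹ := by group
            _ = z := by rw [hbz, haz]
        · have h1 : a * z ^ i * a⁻¹ = z ^ i := by rw [← conj_zpow, haz]
          rw [show a * b * u * (a * b)⁻¹ * u⁻¹ =
            (a * (b * u * b⁻¹ * u⁻¹) * a⁻¹) * (a * u * a⁻¹ * u⁻¹) by group, ← hi, h1]
          exact mul_mem (Subgroup.mem_zpowers_iff.2 ⟨i, rfl⟩) hau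
      inv_mem' := by
        rintro a ⟨haz, hau⟩
        obtain ⟨i, hi⟩ := Subgroup.mem_zpowers_iff.1 hau
        have haz' : a⁻¹ * z * a = z := by
          conv_lhs => rw [← haz]
          group
        refine ⟨by rw [inv_inv]; exact haz', ?_⟩
        have h1 : a⁻¹ * z ^ (-i) * a = z ^ (-i) := by
          have h2 : a⁻¹ * z * a⁻¹⁻¹ = z := by rw [inv_inv]; exact haz'
          have h3 := conj_zpow (i := -i) (a := a⁻¹) (b := z)
          rw [h2, inv_inv] at h3
          exact h3.symm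
        rw [show a⁻¹ * u * a⁻¹⁻¹ * u⁻¹ = a⁻¹ * (a * u * a⁻¹ * u⁻¹)⁻¹ * a by group, ← hi,
          ← zpow_neg, h1]
        exact Subgroup.mem_zpowers_iff.2 ⟨-i, rfl⟩ }
  have hPK : (P : Subgroup G) ≤ K := fun x hx =>
    ⟨by rw [← h.zcomm x hx]; group, h.comm x hx u hu⟩
  have hgK : ((g • P : Sylow 3 G) : Subgroup G) ≤ K := by
    intro x hx
    have hx' : g⁻¹ * x * g ∈ P := (mem_sylow_smul_iff g P x).1 hx
    obtain ⟨hz', hu'⟩ := hPK hx'
    obtain ⟨i, hi⟩ := Subgroup.mem_zpowers_iff.1 hu'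
    have e1 : g⁻¹ * z * g = z⁻¹ := by
      have := congrArg (fun y => g⁻¹ * y⁻¹ * g) hgz
      beta_reduce at this
      rw [inv_inv] at this
      rw [← this]; group
    refine ⟨?_, ?_⟩
    · calc x * z * x⁻¹ = g * ((g⁻¹ * x * g) * (g⁻¹ * z * g) * (g⁻¹ * x * g)⁻¹) * g⁻¹ := by group
        _ = g * ((g⁻¹ * x * g) * z * (g⁻¹ * x * g)⁻¹)⁻¹ * g⁻¹ := by rw [e1]; group
        _ = z := by
          rw [hz', ← inv_inv (g * z⁻¹ * g⁻¹), show (g * z⁻¹ * g⁻¹)⁻¹ = g * z * g⁻¹ by group, hgz,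
            inv_inv]
    · have e2 : g⁻¹ * u * g = u⁻¹ := by
        have := congrArg (fun y => g⁻¹ * y⁻¹ * g) hgu
        beta_reduce at this
        rw [inv_inv] at this
        rw [← this]; group
      have e3 : x * u * x⁻¹ * u⁻¹ =
          g * ((g⁻¹ * x * g) * (g⁻¹ * u * g) * (g⁻¹ * x * g)⁻¹ * (g⁻¹ * u * g)⁻¹) * g⁻¹ := by group
      have e4 : (g⁻¹ * x * g) * u⁻¹ * (g⁻¹ * x * g)⁻¹ * u⁻¹⁻¹ = z ^ (-i) := by
        have hc : Commute u (z ^ (-i)) := (Commute.symm (h.zcomm u hu)).zpow_right _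
        calc (g⁻¹ * x * g) * u⁻¹ * (g⁻¹ * x * g)⁻¹ * u⁻¹⁻¹ =
              u⁻¹ * ((g⁻¹ * x * g) * u * (g⁻¹ * x * g)⁻¹ * u⁻¹)⁻¹ * u := by group
          _ = z ^ (-i) := by
            rw [← hi, ← zpow_neg, mul_assoc, ← hc.eq, inv_mul_cancel_left]
      rw [e3, e2, e4, ← conj_zpow, hgz]
      exact Subgroup.zpow_mem _ (inv_mem (Subgroup.mem_zpowers z)) _
  obtain ⟨m, ⟨hmz, -⟩, hmg⟩ := exists_mul_mem_normalizer P hPK hgK
  have h1 := h.norm _ hmg
  have h2 : z⁻¹ = z := by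
    calc z⁻¹ = m * z⁻¹ * m⁻¹ := by
          conv_lhs => rw [← hmz]
          group
      _ = m * g * z * (m * g)⁻¹ := by rw [← hgz]; group
      _ = z := by rw [h1]; group
  have h3 : z * z = 1 := by nth_rw 1 [← h2]; exact inv_mul_cancel z
  have h4 := h.exp z h.zmem
  rw [pow_succ, pow_two, h3, one_mul] at h4
  exact h.zne h4

omit [Finite G] in
/-- A conjugate Sylow subgroup has the conjugate centre. -/
theorem Data.conj_props (h : Data P z) (g : G) :
    g * z * g⁻¹ ∈ g • P ∧ ∀ y ∈ g • P, g * z * g⁻¹ * y = y * (g * z * g⁻¹) := by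
  refine ⟨(mem_sylow_smul_iff g P _).2 (by
    rw [show g⁻¹ * (g * z * g⁻¹) * g = z by group]; exact h.zmem), fun y hy => ?_⟩
  have := h.zcomm _ ((mem_sylow_smul_iff g P y).1 hy)
  calc g * z * g⁻¹ * y = g * (z * (g⁻¹ * y * g)) * g⁻¹ := by group
    _ = y * (g * z * g⁻¹) := by rw [this]; group

/-- The elements of order three in the centre are not fused into the rest. -/
theorem Data.conj_mem_zpowers (h : Data P z) {g : G} (hg : g * z * g⁻¹ ∈ P) :
    g * z * g⁻¹ ∈ Subgroup.zpowers z := by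
  haveI : Fact (Nat.Prime 3) := ⟨Nat.prime_three⟩
  by_contra hu'
  obtain ⟨u, hu_def⟩ : ∃ u, u = g * z * g⁻¹ := ⟨_, rfl⟩
  rw [← hu_def] at hg hu'
  have huz : Commute u z := (h.zcomm u hg).symm
  -- move the second Sylow subgroup so that it contains `u` and `z`
  have hPC : ((g • P : Sylow 3 G) : Subgroup G) ≤ Subgroup.centralizer ({u} : Set G) := fun y hy =>
    Subgroup.mem_centralizer_singleton_iff.2 (hu_def ▸ ((h.conj_props g).2 y hy).symm)
  let R : Sylow 3 (Subgroup.centralizer ({u} : Set G)) := (g • P : Sylow 3 G).subtype hPC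
  have hV : IsPGroup 3 (Subgroup.closure {(⟨u, Subgroup.mem_centralizer_singleton_iff.2 rfl⟩ :
      Subgroup.centralizer ({u} : Set G)),
      ⟨z, Subgroup.mem_centralizer_singleton_iff.2 huz.symm.eq⟩}) := by
    refine (P.isPGroup'.to_le (Subgroup.closure_le (k := ({u, z} : Set G)) (P : Subgroup G) |>.2
      (by simp [Set.insert_subset_iff, hg, h.zmem]))).of_equiv ?_ |>.to_le le_rfl
    exact ((Subgroup.equivMapOfInjective _ _ (Subgroup.subtype_injective _)).trans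
      (MulEquiv.subgroupCongr (by rw [MonoidHom.map_closure]; simp [Set.image_insert_eq]))).symm
  obtain ⟨R', hR'⟩ := hV.exists_le_sylow
  obtain ⟨c, hc⟩ := MulAction.exists_smul_eq (Subgroup.centralizer ({u} : Set G)) R R'
  have hmem : ∀ y : Subgroup.centralizer ({u} : Set G), y ∈ R' →
      (y : G) ∈ ((c : G) * g) • P := by
    intro y hy
    rw [← hc] at hy
    have h1 : c⁻¹ * y * c ∈ R := (mem_sylow_smul_iff c R y).1 hy
    have h2 : ((c⁻¹ * y * c : Subgroup.centralizer ({u} : Set G)) : G) ∈ g • P := h1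
    refine (mem_sylow_smul_iff _ P _).2 ?_
    have h3 := (mem_sylow_smul_iff g P _).1 h2
    rw [Subgroup.coe_mul, Subgroup.coe_mul, InvMemClass.coe_inv] at h3
    rwa [show ((c : G) * g)⁻¹ * (y : G) * ((c : G) * g) = g⁻¹ * ((c : G)⁻¹ * y * c) * g by group]
  obtain ⟨g₂, hg₂⟩ : ∃ g₂, g₂ = (c : G) * g := ⟨_, rfl⟩
  rw [← hg₂] at hmem
  have hu₂ : g₂ * z * g₂⁻¹ = u := by
    have hcu := Subgroup.mem_centralizer_singleton_iff.1 c.2
    rw [hg₂, show (c : G) * g * z * ((c : G) * g)⁻¹ = (c : G) * (g * z * g⁻¹) * (c : G)⁻¹ by group,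
      ← hu_def, hcu]
    group
  have hzP : z ∈ g₂ • P := hmem _ (hR' (Subgroup.subset_closure (Set.mem_insert_of_mem _ rfl)))
  -- the two shifts
  obtain ⟨a, ha, hau⟩ := h.exists_shift hg hu' (Subgroup.mem_zpowers z)
  have hz2 : g₂⁻¹ * z * g₂ ∈ P := (mem_sylow_smul_iff g₂ P z).1 hzP
  have hz2' : g₂⁻¹ * z * g₂ ∉ Subgroup.zpowers z := by
    intro hmem'
    rcases h.exists_pow hmem' with e | e | e
    · exact h.zne (by rw [show z = g₂ * (g₂⁻¹ * z * g₂) * g₂⁻¹ by group, e]; group)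
    · apply hu'
      have : u = z := by
        rw [← hu₂]
        calc g₂ * z * g₂⁻¹ = g₂ * (g₂⁻¹ * z * g₂) * g₂⁻¹ := by rw [e]
          _ = z := by group
      rw [this]
      exact Subgroup.mem_zpowers z
    · apply hu'
      have : u⁻¹ = z := by
        rw [← hu₂, show (g₂ * z * g₂⁻¹)⁻¹ = g₂ * z⁻¹ * g₂⁻¹ by group, ← e]; group
      rw [← inv_mem_iff, this]
      exact Subgroup.mem_zpowers z
  obtain ⟨b', hb', hbz'⟩ := h.exists_shift hz2 hz2' (Subgroup.mem_zpowers z)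
  obtain ⟨b, hb⟩ : ∃ b, b = g₂ * b' * g₂⁻¹ := ⟨_, rfl⟩
  have hbz : b * z * b⁻¹ = z * u := by
    have e : b * z * b⁻¹ = g₂ * (b' * (g₂⁻¹ * z * g₂) * b'⁻¹) * g₂⁻¹ := by rw [hb]; group
    rw [e, hbz', ← hu₂]; group
  have hbu : b * u * b⁻¹ = u := by
    have e : b * u * b⁻¹ = g₂ * (b' * z * b'⁻¹) * g₂⁻¹ := by rw [hb, ← hu₂]; group
    rw [e, show b' * z * b'⁻¹ = z by rw [← h.zcomm b' hb']; group, hu₂]
  have haz : a * z * a⁻¹ = z := by rw [← h.zcomm a ha]; group
  have hbi : b⁻¹ * z * b = z * u⁻¹ := by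
    calc b⁻¹ * z * b = b⁻¹ * ((z * u) * u⁻¹) * b := by rw [mul_inv_cancel_right]
      _ = b⁻¹ * ((b * z * b⁻¹) * (b * u * b⁻¹)⁻¹) * b := by rw [hbz, hbu]
      _ = z * u⁻¹ := by group
  have hbiu : b⁻¹ * u * b = u := by
    conv_lhs => rw [← hbu]
    group
  obtain ⟨m, hm⟩ : ∃ m, m = a * b⁻¹ * a := ⟨_, rfl⟩
  have hmu : m * u * m⁻¹ = z := by
    have e : m * u * m⁻¹ = a * ((b⁻¹ * (a * u * a⁻¹) * b)) * a⁻¹ := by rw [hm]; group
    have e' : b⁻¹ * (u * z) * b = (b⁻¹ * u * b) * (b⁻¹ * z * b) := by group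
    rw [e, hau, e', hbiu, hbi, ← mul_assoc u, huz.eq, mul_inv_cancel_right, haz]
  have hmz : m * z * m⁻¹ = u⁻¹ := by
    have e : m * z * m⁻¹ = a * ((b⁻¹ * (a * z * a⁻¹) * b)) * a⁻¹ := by rw [hm]; group
    have e' : a * (z * u⁻¹) * a⁻¹ = (a * z * a⁻¹) * (a * u * a⁻¹)⁻¹ := by group
    rw [e, haz, hbi, e', haz, hau, mul_inv_rev, mul_inv_cancel_left]
  refine h.not_negated hg (g := m * m) ?_ ?_
  · calc m * m * z * (m * m)⁻¹ = m * (m * z * m⁻¹) * m⁻¹ := by group
      _ = (m * u * m⁻¹)⁻¹ := by rw [hmz]; group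
      _ = z⁻¹ := by rw [hmu]
  · calc m * m * u * (m * m)⁻¹ = m * (m * u * m⁻¹) * m⁻¹ := by group
      _ = u⁻¹ := by rw [hmu, hmz]

/-- The central elements are fixed by every conjugation keeping them in `P`. -/
theorem Data.conj_z (h : Data P z) {g : G} (hg : g * z * g⁻¹ ∈ P) : g * z * g⁻¹ = z := by
  haveI : Fact (Nat.Prime 3) := ⟨Nat.prime_three⟩
  rcases h.exists_pow (h.conj_mem_zpowers hg) with e | e | e
  · exact absurd (conj_eq_one_iff.1 e) h.zne
  · exact e
  exfalso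
  have hcen : ∀ w ∈ Subgroup.zpowers z, w ∈ Subgroup.centralizer (P : Set G) := fun w hw =>
    Subgroup.zpowers_le.2 (Subgroup.mem_centralizer_iff.2 fun y hy => (h.zcomm y hy).symm) hw
  obtain ⟨n, hn, hnz⟩ := burnside_fusion_central P (hcen z (Subgroup.mem_zpowers z))
    (hcen _ (inv_mem (Subgroup.mem_zpowers z))) e
  have h2 : z⁻¹ = z := by rw [← hnz, h.norm n hn, mul_inv_cancel_right]
  have h3 : z * z = 1 := by nth_rw 1 [← h2]; exact inv_mul_cancel z
  have h4 := h.exp z h.zmem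
  rw [pow_succ, pow_two, h3, one_mul] at h4
  exact h.zne h4

/-- A noncentral element is not conjugate to a central one. -/
theorem Data.not_conj (h : Data P z) {u : G} (hu : u ∈ P) (hu' : u ∉ Subgroup.zpowers z) {w g : G}
    (hw : w ∈ Subgroup.zpowers z) (hg : g * w * g⁻¹ = u) : False := by
  rcases h.exists_pow hw with rfl | rfl | rfl
  · exact hu' (by rw [← hg]; simp)
  · exact hu' (hg ▸ h.conj_mem_zpowers (hg.symm ▸ hu))
  · have e : g * z * g⁻¹ = u⁻¹ := by rw [← hg]; group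
    exact hu' (inv_mem_iff.1 (e ▸ h.conj_mem_zpowers (e.symm ▸ inv_mem hu)))

/-- The subgroup generated by a noncentral element and the centre. -/
def vGroup (P : Sylow 3 G) (u : G) : Subgroup G := (P : Subgroup G) ⊓ Subgroup.centralizer ({u} : Set G)

theorem Data.card_vGroup (h : Data P z) {u : G} (hu : u ∈ P) (hu' : u ∉ Subgroup.zpowers z) :
    Nat.card (vGroup P u) = 9 := by
  haveI : Fact (Nat.Prime 3) := ⟨Nat.prime_three⟩
  obtain ⟨k, hk, hkc⟩ := (Nat.dvd_prime_pow Nat.prime_three).1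
    (show Nat.card (vGroup P u) ∣ 3 ^ 3 by
      rw [show (3 : ℕ) ^ 3 = Nat.card (P : Subgroup G) by rw [h.card]; norm_num]
      exact Subgroup.card_dvd_of_le inf_le_left)
  have hne : vGroup P u ≠ (P : Subgroup G) := fun he => hu' (h.center u hu fun y hy =>
    (Subgroup.mem_centralizer_singleton_iff.1 (he.symm ▸ hy : y ∈ vGroup P u).2).symm)
  have hlt : Subgroup.zpowers z < vGroup P u := by
    refine lt_of_le_of_ne (Subgroup.zpowers_le.2 ⟨h.zmem,
      Subgroup.mem_centralizer_singleton_iff.2 (h.zcomm u hu)⟩) fun he => hu' ?_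
    rw [he]
    exact ⟨hu, Subgroup.mem_centralizer_singleton_iff.2 rfl⟩
  have h1 : 3 < Nat.card (vGroup P u) := by
    by_contra hle
    push Not at hle
    exact hlt.ne (Subgroup.eq_of_le_of_card_ge hlt.le (by rw [Nat.card_zpowers, h.orderOf_z]; exact hle))
  have h2 : Nat.card (vGroup P u) < 27 := by
    by_contra hle
    push Not at hle
    exact hne (Subgroup.eq_of_le_of_card_ge inf_le_left (by rw [h.card]; exact hle))
  rw [hkc] at h1 h2 ⊢
  have : k ≤ 3 := hk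
  interval_cases k <;> simp_all

theorem Data.vGroup_comm (h : Data P z) {u : G} (hu : u ∈ P) (hu' : u ∉ Subgroup.zpowers z) :
    ∀ x ∈ vGroup P u, ∀ y ∈ vGroup P u, x * y = y * x := by
  haveI : Fact (Nat.Prime 3) := ⟨Nat.prime_three⟩
  intro x hx y hy
  haveI : IsMulCommutative (vGroup P u) := IsPGroup.isMulCommutative_of_card_eq_prime_sq
    (p := 3) (by rw [h.card_vGroup hu hu']; norm_num)
  exact congrArg Subtype.val (IsMulCommutative.is_comm.comm (⟨x, hx⟩ : vGroup P u) ⟨y, hy⟩)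

/-- `V` is a Sylow subgroup of the centralizer. -/
theorem Data.exists_sylow_centralizer (h : Data P z) {u : G} (hu : u ∈ P)
    (hu' : u ∉ Subgroup.zpowers z) :
    ∃ R : Sylow 3 (Subgroup.centralizer ({u} : Set G)),
      (R : Subgroup (Subgroup.centralizer ({u} : Set G))).map
        (Subgroup.centralizer ({u} : Set G)).subtype = vGroup P u := by
  haveI : Fact (Nat.Prime 3) := ⟨Nat.prime_three⟩
  have hp : IsPGroup 3 ((P : Subgroup G).subgroupOf (Subgroup.centralizer ({u} : Set G))) :=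
    P.isPGroup'.comap_subtype
  obtain ⟨R, hR⟩ := hp.exists_le_sylow
  have hmap : vGroup P u ≤ (R : Subgroup (Subgroup.centralizer ({u} : Set G))).map
      (Subgroup.centralizer ({u} : Set G)).subtype := fun x hx => ⟨⟨x, hx.2⟩, hR hx.1, rfl⟩
  refine ⟨R, (Subgroup.eq_of_le_of_card_ge hmap ?_).symm⟩
  rw [h.card_vGroup hu hu', Subgroup.card_map_of_injective (Subgroup.subtype_injective _)]
  by_contra hlt
  push Not at hlt
  have hR' : IsPGroup 3 ((R : Subgroup (Subgroup.centralizer ({u} : Set G))).map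
      (Subgroup.centralizer ({u} : Set G)).subtype) := R.isPGroup'.map _
  obtain ⟨S, hS⟩ := hR'.exists_le_sylow
  obtain ⟨g, rfl⟩ := MulAction.exists_smul_eq G P S
  have hcS : Nat.card ((g • P : Sylow 3 G) : Subgroup G) = 27 := by
    rw [← h.card]
    exact Nat.card_congr (P.equiv (g • P)).symm.toEquiv
  obtain ⟨k, hk⟩ := hR'.exists_card_eq
  have hdvd : Nat.card ((R : Subgroup (Subgroup.centralizer ({u} : Set G))).map
      (Subgroup.centralizer ({u} : Set G)).subtype) ∣ 3 ^ 3 := by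
    rw [show (3 : ℕ) ^ 3 = Nat.card ((g • P : Sylow 3 G) : Subgroup G) by rw [hcS]; norm_num]
    exact Subgroup.card_dvd_of_le hS
  rw [hk, Nat.pow_dvd_pow_iff_le_right (by norm_num)] at hdvd
  have hk' := hk
  rw [Subgroup.card_map_of_injective (Subgroup.subtype_injective _)] at hk'
  rw [hk'] at hlt
  have heq : (R : Subgroup (Subgroup.centralizer ({u} : Set G))).map
      (Subgroup.centralizer ({u} : Set G)).subtype = ((g • P : Sylow 3 G) : Subgroup G) := by
    refine Subgroup.eq_of_le_of_card_ge hS ?_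
    rw [hcS, hk]
    interval_cases k <;> simp_all
  have hcomm : ∀ y ∈ g • P, u * y = y * u := by
    intro y hy
    obtain ⟨y', -, rfl⟩ := heq.symm ▸ (show y ∈ ((g • P : Sylow 3 G) : Subgroup G) from hy)
    exact (Subgroup.mem_centralizer_singleton_iff.1 y'.2).symm
  have humem : u ∈ g • P := by
    show u ∈ ((g • P : Sylow 3 G) : Subgroup G)
    rw [← heq]
    exact ⟨⟨u, Subgroup.mem_centralizer_singleton_iff.2 rfl⟩, hR hu, rfl⟩
  refine h.not_conj hu hu' (w := g⁻¹ * u * g) (g := g) (h.center _ ((mem_sylow_smul_iff g P u).1 humem)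
    fun y hy => ?_) (by group)
  have h1 := hcomm (g * y * g⁻¹) ((mem_sylow_smul_iff g P _).2 (by
    rw [show g⁻¹ * (g * y * g⁻¹) * g = y by group]; exact hy))
  calc g⁻¹ * u * g * y = g⁻¹ * (u * (g * y * g⁻¹)) * g := by group
    _ = y * (g⁻¹ * u * g) := by rw [h1]; group

/-- The centralizer of a noncentral element has a normal `3`-complement. -/
theorem Data.compl (h : Data P z) {u : G} (hu : u ∈ P) (hu' : u ∉ Subgroup.zpowers z) :
    Compl 3 u 2 := by
  haveI : Fact (Nat.Prime 3) := ⟨Nat.prime_three⟩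
  obtain ⟨R, hR⟩ := h.exists_sylow_centralizer hu hu'
  have hmem : ∀ x ∈ (R : Subgroup (Subgroup.centralizer ({u} : Set G))),
      (x : G) ∈ vGroup P u := fun x hx => hR ▸ ⟨x, hx, rfl⟩
  have hmem' : ∀ w ∈ vGroup P u, ∃ x ∈ (R : Subgroup (Subgroup.centralizer ({u} : Set G))),
      (x : G) = w := fun w hw => by rw [← hR] at hw; exact hw
  have hN : Subgroup.normalizer ((R : Subgroup (Subgroup.centralizer ({u} : Set G))) :
        Set (Subgroup.centralizer ({u} : Set G))) ≤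
      Subgroup.centralizer ((R : Subgroup (Subgroup.centralizer ({u} : Set G))) :
        Set (Subgroup.centralizer ({u} : Set G))) := by
    intro n hn
    obtain ⟨xz, hxz, hxz'⟩ := hmem' z ⟨h.zmem,
      Subgroup.mem_centralizer_singleton_iff.2 (h.zcomm u hu)⟩
    have hnz : (n : G) * z * (n : G)⁻¹ = z := h.conj_z (by
      have := hmem _ ((Subgroup.mem_normalizer_iff.1 hn xz).1 hxz)
      rw [Subgroup.coe_mul, Subgroup.coe_mul, InvMemClass.coe_inv, hxz'] at this
      exact this.1)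
    refine Subgroup.mem_centralizer_iff.2 fun x hx => Subtype.ext ?_
    have hxV := hmem x hx
    have hgen : vGroup P u ≤ Subgroup.centralizer ({(n : G)} : Set G) := by
      have hu_mem : u ∈ vGroup P u := ⟨hu, Subgroup.mem_centralizer_singleton_iff.2 rfl⟩
      intro w hw
      by_contra hw'
      have hlt : vGroup P u ⊓ Subgroup.centralizer ({(n : G)} : Set G) < vGroup P u :=
        lt_of_le_of_ne inf_le_left fun e => hw' (e.symm ▸ hw :
          w ∈ vGroup P u ⊓ Subgroup.centralizer ({(n : G)} : Set G)).2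
      have hd := Subgroup.card_dvd_of_le hlt.le
      rw [h.card_vGroup hu hu', show (9 : ℕ) = 3 ^ 2 by norm_num] at hd
      obtain ⟨k, hk, hkc⟩ := (Nat.dvd_prime_pow Nat.prime_three).1 hd
      have hk2 : k ≠ 2 := fun e => hlt.ne (Subgroup.eq_of_le_of_card_ge hlt.le
        (by rw [h.card_vGroup hu hu', hkc, e]; norm_num))
      have hzmem : z ∈ vGroup P u ⊓ Subgroup.centralizer ({(n : G)} : Set G) :=
        ⟨⟨h.zmem, Subgroup.mem_centralizer_singleton_iff.2 (h.zcomm u hu)⟩,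
          Subgroup.mem_centralizer_singleton_iff.2 (mul_inv_eq_iff_eq_mul.1 hnz).symm⟩
      have humem : u ∈ vGroup P u ⊓ Subgroup.centralizer ({(n : G)} : Set G) :=
        ⟨hu_mem, Subgroup.mem_centralizer_singleton_iff.2
          (Subgroup.mem_centralizer_singleton_iff.1 n.2).symm⟩
      have hle : Nat.card (vGroup P u ⊓ Subgroup.centralizer ({(n : G)} : Set G) : Subgroup G) ≤
          Nat.card (Subgroup.zpowers z) := by
        rw [hkc, Nat.card_zpowers, h.orderOf_z]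
        interval_cases k <;> simp_all
      exact hu' (Subgroup.eq_of_le_of_card_ge (Subgroup.zpowers_le.2 hzmem) hle ▸ humem)
    exact Subgroup.mem_centralizer_singleton_iff.1 (hgen hxV)
  refine ⟨(MonoidHom.transferSylow R hN).ker, inferInstance, ?_, ?_⟩
  · exact MonoidHom.not_dvd_card_ker_transferSylow R hN
  · rw [(MonoidHom.ker_transferSylow_isComplement' R hN).symm.index_eq_card,
      show (3 : ℕ) ^ 2 = 9 by norm_num, ← h.card_vGroup hu hu', ← hR,
      Subgroup.card_map_of_injective (Subgroup.subtype_injective _)]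

/-- Fusion of the noncentral elements is controlled by the normalizer. -/
theorem Data.fusion (h : Data P z) {u u' g : G} (hu : u ∈ P) (hu' : u ∉ Subgroup.zpowers z)
    (hg : g * u * g⁻¹ = u') (hP : u' ∈ P) :
    ∃ n ∈ Subgroup.normalizer ((P : Subgroup G) : Set G), n * u * n⁻¹ = u' := by
  haveI : Fact (Nat.Prime 3) := ⟨Nat.prime_three⟩
  have hu2 : u' ∉ Subgroup.zpowers z := fun hw => h.not_conj hu hu' (g := g⁻¹) hw (by
    rw [← hg]; group)
  obtain ⟨R, hR⟩ := h.exists_sylow_centralizer hP hu2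
  -- the conjugate of `z` may be moved into `P`
  have hzc : g * z * g⁻¹ ∈ Subgroup.centralizer ({u'} : Set G) := by
    refine Subgroup.mem_centralizer_singleton_iff.2 ?_
    rw [← hg, show g * z * g⁻¹ * (g * u * g⁻¹) = g * (z * u) * g⁻¹ by group, h.zcomm u hu]
    group
  have hp : IsPGroup 3 (Subgroup.zpowers (⟨g * z * g⁻¹, hzc⟩ :
      Subgroup.centralizer ({u'} : Set G))) := IsPGroup.of_card (n := 1) (by
    rw [Nat.card_zpowers, pow_one, ← Subgroup.orderOf_coe]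
    exact (MulEquiv.orderOf_eq (MulAut.conj g) z).trans h.orderOf_z)
  obtain ⟨R', hR'⟩ := hp.exists_le_sylow
  obtain ⟨c, hc⟩ := MulAction.exists_smul_eq (Subgroup.centralizer ({u'} : Set G)) R' R
  have h1 : c * ⟨g * z * g⁻¹, hzc⟩ * c⁻¹ ∈ R := by
    rw [← hc]
    refine (mem_sylow_smul_iff c R' _).2 ?_
    rw [show c⁻¹ * (c * ⟨g * z * g⁻¹, hzc⟩ * c⁻¹) * c =
      (⟨g * z * g⁻¹, hzc⟩ : Subgroup.centralizer ({u'} : Set G)) by group]
    exact hR' (Subgroup.mem_zpowers _)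
  have h2 : (c : G) * g * z * ((c : G) * g)⁻¹ ∈ P := by
    have h3 : ((c * ⟨g * z * g⁻¹, hzc⟩ * c⁻¹ : Subgroup.centralizer ({u'} : Set G)) : G) ∈
        vGroup P u' := hR ▸ ⟨_, h1, rfl⟩
    rw [Subgroup.coe_mul, Subgroup.coe_mul, InvMemClass.coe_inv] at h3
    rw [show (c : G) * g * z * ((c : G) * g)⁻¹ = (c : G) * (g * z * g⁻¹) * (c : G)⁻¹ by group]
    exact h3.1
  have hcz := h.conj_z h2
  have hcu : (c : G) * g * u * ((c : G) * g)⁻¹ = u' := by
    rw [show (c : G) * g * u * ((c : G) * g)⁻¹ = (c : G) * (g * u * g⁻¹) * (c : G)⁻¹ by group, hg,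
      Subgroup.mem_centralizer_singleton_iff.1 c.2, mul_inv_cancel_right]
  -- Burnside on the cosets
  let X : G → Set G := fun v => {w | ∃ i : ℤ, w = v * z ^ i}
  have hX : ∀ v ∈ P, (P : Subgroup G) ≤ Subgroup.normalizer (X v) := by
    intro v hv y hy
    refine Subgroup.mem_set_normalizer_iff.2 fun w => ?_
    obtain ⟨k, hk⟩ := Subgroup.mem_zpowers_iff.1 (h.comm y hy v hv)
    have hzy : ∀ i : ℤ, y * z ^ i * y⁻¹ = z ^ i := fun i => by
      rw [← conj_zpow, ← h.zcomm y hy, mul_inv_cancel_right]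
    have hyv : y * v * y⁻¹ = v * z ^ k := by
      rw [((Commute.symm (h.zcomm v hv)).zpow_right k).eq, hk, inv_mul_cancel_right]
    constructor
    · rintro ⟨i, rfl⟩
      refine ⟨k + i, ?_⟩
      rw [show y * (v * z ^ i) * y⁻¹ = (y * v * y⁻¹) * (y * z ^ i * y⁻¹) by group, hyv, hzy,
        mul_assoc, ← zpow_add]
    · rintro ⟨i, hi⟩
      refine ⟨i - k, ?_⟩
      rw [show w = y⁻¹ * (y * w * y⁻¹) * y by group, hi,
        show v * z ^ (i - k) = y⁻¹ * ((y * v * y⁻¹) * (y * z ^ (i - k) * y⁻¹)) * y by group,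
        hyv, hzy, mul_assoc v, ← zpow_add, add_sub_cancel]
  have hmap : ∀ i : ℤ, (c : G) * g * (u * z ^ i) * ((c : G) * g)⁻¹ = u' * z ^ i := fun i => by
    rw [show (c : G) * g * (u * z ^ i) * ((c : G) * g)⁻¹ =
      ((c : G) * g * u * ((c : G) * g)⁻¹) * ((c : G) * g * z ^ i * ((c : G) * g)⁻¹) by group,
      hcu, ← conj_zpow, hcz]
  have himg : (fun y => (c : G) * g * y * ((c : G) * g)⁻¹) '' X u = X u' := by
    ext w
    constructor
    · rintro ⟨_, ⟨i, rfl⟩, rfl⟩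
      exact ⟨i, hmap i⟩
    · rintro ⟨i, rfl⟩
      exact ⟨_, ⟨i, rfl⟩, hmap i⟩
  obtain ⟨n, hn, himg'⟩ := burnside_fusion_sets P (hX u hu) (hX u' hP) himg
  obtain ⟨i, hi⟩ : n * u * n⁻¹ ∈ X u' := himg' ▸ ⟨u, ⟨0, by simp⟩, rfl⟩
  obtain ⟨y, hy, hyu⟩ := h.exists_shift hP hu2 (Subgroup.mem_zpowers_iff.2 ⟨-i, rfl⟩)
  refine ⟨y * n, mul_mem (Subgroup.le_normalizer hy) hn, ?_⟩
  have hzy : y * z ^ i * y⁻¹ = z ^ i := by
    rw [← conj_zpow, ← h.zcomm y hy, mul_inv_cancel_right]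
  rw [show y * n * u * (y * n)⁻¹ = y * (n * u * n⁻¹) * y⁻¹ by group, hi,
    show y * (u' * z ^ i) * y⁻¹ = (y * u' * y⁻¹) * (y * z ^ i * y⁻¹) by group, hyu, hzy,
    mul_assoc, ← zpow_add, neg_add_cancel, zpow_zero, mul_one]

/-- An element of the normalizer fixing a noncentral coset acts on `P` as an element of `P`,
when the order of the inertial quotient is prime to three. -/
theorem Data.mem_inner (h : Data P z) {u n : G} (hu : u ∈ P) (hu' : u ∉ Subgroup.zpowers z)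
    (hn : n ∈ Subgroup.normalizer ((P : Subgroup G) : Set G))
    (hnu : n * u * n⁻¹ * u⁻¹ ∈ Subgroup.zpowers z) {e : ℕ}
    (he : ((P : Subgroup G) ⊔ Subgroup.centralizer ((P : Subgroup G) : Set G)).relIndex
      (Subgroup.normalizer ((P : Subgroup G) : Set G)) = e) (he3 : ¬ 3 ∣ e) :
    n ∈ (P : Subgroup G) ⊔ Subgroup.centralizer ((P : Subgroup G) : Set G) := by
  haveI : Fact (Nat.Prime 3) := ⟨Nat.prime_three⟩
  set N := Subgroup.normalizer ((P : Subgroup G) : Set G)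
  set M := (P : Subgroup G) ⊔ Subgroup.centralizer ((P : Subgroup G) : Set G)
  have hMN : M ≤ N := sup_le Subgroup.le_normalizer (Subgroup.centralizer_le_normalizer _)
  -- correct by an element of `P` so that `u` is fixed
  obtain ⟨i, hi⟩ := Subgroup.mem_zpowers_iff.1 hnu
  obtain ⟨y, hy, hyu⟩ := h.exists_shift hu hu' (Subgroup.mem_zpowers_iff.2 ⟨-i, rfl⟩)
  obtain ⟨m, hm⟩ : ∃ m, m = y * n := ⟨_, rfl⟩
  have hmN : m ∈ N := hm ▸ mul_mem (Subgroup.le_normalizer hy) hn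
  have hnu' : n * u * n⁻¹ = u * z ^ i := by
    rw [((Commute.symm (h.zcomm u hu)).zpow_right i).eq, hi, inv_mul_cancel_right]
  have hmu : m * u * m⁻¹ = u := by
    have hzy : y * z ^ i * y⁻¹ = z ^ i := by
      rw [← conj_zpow, ← h.zcomm y hy, mul_inv_cancel_right]
    rw [hm, show y * n * u * (y * n)⁻¹ = y * (n * u * n⁻¹) * y⁻¹ by group, hnu',
      show y * (u * z ^ i) * y⁻¹ = (y * u * y⁻¹) * (y * z ^ i * y⁻¹) by group, hyu, hzy,
      mul_assoc, ← zpow_add, neg_add_cancel, zpow_zero, mul_one]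
  suffices hmM : m ∈ M by
    have h1 := mul_mem (inv_mem (show y ∈ M from
      (le_sup_left : (P : Subgroup G) ≤ M) hy)) hmM
    rwa [hm, inv_mul_cancel_left] at h1
  -- a second generator
  obtain ⟨a, ha, hau⟩ := h.exists_shift hu hu' (Subgroup.mem_zpowers z)
  have haV : a ∉ vGroup P u := fun h' => by
    have h1 := Subgroup.mem_centralizer_singleton_iff.1 h'.2
    rw [h1, mul_inv_cancel_right, left_eq_mul] at hau
    exact h.zne hau
  have hmz : m * z * m⁻¹ = z := by rw [h.norm m hmN, mul_inv_cancel_right]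
  -- `m` shifts `a` inside `⟨u, z⟩`
  obtain ⟨v, hv, hmv⟩ : ∃ v ∈ vGroup P u, m * a * m⁻¹ = a * v := by
    refine ⟨a⁻¹ * (m * a * m⁻¹), ⟨(P : Subgroup G).mul_mem ((P : Subgroup G).inv_mem ha)
      ((Subgroup.mem_normalizer_iff.1 hmN a).1 ha), ?_⟩, (mul_inv_cancel_left _ _).symm⟩
    refine Subgroup.mem_centralizer_singleton_iff.2 ?_
    have e2 : m * a * m⁻¹ * u * (m * a * m⁻¹)⁻¹ = u * z := by
      rw [show m * a * m⁻¹ * u * (m * a * m⁻¹)⁻¹ =
        m * (a * (m⁻¹ * u * m) * a⁻¹) * m⁻¹ by group,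
        show m⁻¹ * u * m = u by nth_rw 1 [← hmu]; group, hau,
        show m * (u * z) * m⁻¹ = (m * u * m⁻¹) * (m * z * m⁻¹) by group, hmu, hmz]
    calc a⁻¹ * (m * a * m⁻¹) * u
        = a⁻¹ * (m * a * m⁻¹ * u * (m * a * m⁻¹)⁻¹) * (m * a * m⁻¹) := by group
      _ = a⁻¹ * (a * u * a⁻¹) * (m * a * m⁻¹) := by rw [e2, hau]
      _ = u * (a⁻¹ * (m * a * m⁻¹)) := by group
  have hmV : ∀ w ∈ vGroup P u, m * w * m⁻¹ = w := by
    intro w hw
    have hgen : vGroup P u ≤ Subgroup.centralizer ({m} : Set G) := by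
      refine le_of_eq_of_le (Subgroup.eq_of_le_of_card_ge
        (H := Subgroup.closure ({u, z} : Set G)) ?_ ?_).symm ((Subgroup.closure_le _).2 ?_)
      · rw [Subgroup.closure_le, Set.insert_subset_iff, Set.singleton_subset_iff]
        exact ⟨⟨hu, Subgroup.mem_centralizer_singleton_iff.2 rfl⟩,
          h.zmem, Subgroup.mem_centralizer_singleton_iff.2 (h.zcomm u hu)⟩
      · rw [h.card_vGroup hu hu']
        have hd : Nat.card (Subgroup.closure ({u, z} : Set G)) ∣ 3 ^ 3 := by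
          rw [show (3 : ℕ) ^ 3 = Nat.card (P : Subgroup G) by rw [h.card]; norm_num]
          exact Subgroup.card_dvd_of_le ((Subgroup.closure_le _).2
            (by rw [Set.insert_subset_iff, Set.singleton_subset_iff]; exact ⟨hu, h.zmem⟩))
        obtain ⟨j, hj, hjc⟩ := (Nat.dvd_prime_pow Nat.prime_three).1 hd
        by_contra hlt
        push Not at hlt
        rw [hjc] at hlt
        refine hu' (Subgroup.eq_of_le_of_card_ge (Subgroup.zpowers_le.2
          (Subgroup.subset_closure (show z ∈ ({u, z} : Set G) from Or.inr rfl))) ?_ ▸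
          Subgroup.subset_closure (show u ∈ ({u, z} : Set G) from Or.inl rfl))
        rw [hjc, Nat.card_zpowers, h.orderOf_z]
        interval_cases j <;> first | omega | norm_num at hlt | norm_num
      · rw [Set.insert_subset_iff, Set.singleton_subset_iff]
        exact ⟨Subgroup.mem_centralizer_singleton_iff.2 (mul_inv_eq_iff_eq_mul.1 hmu).symm,
          Subgroup.mem_centralizer_singleton_iff.2 (mul_inv_eq_iff_eq_mul.1 hmz).symm⟩
    have := Subgroup.mem_centralizer_singleton_iff.1 (hgen hw)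
    rw [← this, mul_inv_cancel_right]
  have hpow : ∀ j : ℕ, m ^ j * a * (m ^ j)⁻¹ = a * v ^ j := by
    intro j
    induction j with
    | zero => simp
    | succ j ih =>
      rw [show m ^ (j + 1) * a * (m ^ (j + 1))⁻¹ = m * (m ^ j * a * (m ^ j)⁻¹) * m⁻¹ by
        rw [pow_succ']; group, ih,
        show m * (a * v ^ j) * m⁻¹ = (m * a * m⁻¹) * (m * v ^ j * m⁻¹) by group, hmv,
        hmV _ (pow_mem hv j), mul_assoc, ← pow_succ']
  -- a power prime to three lies in `M`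
  have hMact : ∀ k ∈ M, k * a * k⁻¹ * a⁻¹ ∈ Subgroup.zpowers z := by
    intro k hk
    have hk' : k ∈ Subgroup.closure (((P : Subgroup G) : Set G) ∪
        Subgroup.centralizer ((P : Subgroup G) : Set G)) := by
      rwa [Subgroup.closure_union, Subgroup.closure_eq, Subgroup.closure_eq]
    refine (Subgroup.closure_induction (p := fun k _ => k * z * k⁻¹ = z ∧
      k * a * k⁻¹ * a⁻¹ ∈ Subgroup.zpowers z) ?_ ⟨by simp, by simp⟩ ?_ ?_ hk').2
    · rintro k (hk | hk)
      · exact ⟨by rw [← h.zcomm k hk]; group, h.comm k hk a ha⟩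
      · exact ⟨by rw [← Subgroup.mem_centralizer_iff.1 hk z h.zmem]; group,
          by rw [← Subgroup.mem_centralizer_iff.1 hk a ha]; simp⟩
    · rintro p₀ c₀ - - ⟨h1, h2⟩ ⟨h3, h4⟩
      obtain ⟨t, ht⟩ := Subgroup.mem_zpowers_iff.1 h4
      refine ⟨by rw [show p₀ * c₀ * z * (p₀ * c₀)⁻¹ = p₀ * (c₀ * z * c₀⁻¹) * p₀⁻¹ by group, h3, h1],
        ?_⟩
      rw [show p₀ * c₀ * a * (p₀ * c₀)⁻¹ * a⁻¹ =
        (p₀ * (c₀ * a * c₀⁻¹ * a⁻¹) * p₀⁻¹) * (p₀ * a * p₀⁻¹ * a⁻¹) by group, ← ht, ← conj_zpow, h1]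
      exact mul_mem (Subgroup.mem_zpowers_iff.2 ⟨t, rfl⟩) h2
    · rintro p₀ - ⟨h1, h2⟩
      obtain ⟨t, ht⟩ := Subgroup.mem_zpowers_iff.1 h2
      have h1' : p₀⁻¹ * z * p₀⁻¹⁻¹ = z := by
        conv_lhs => rw [← h1]
        group
      refine ⟨h1', ?_⟩
      rw [show p₀⁻¹ * a * p₀⁻¹⁻¹ * a⁻¹ = p₀⁻¹ * (p₀ * a * p₀⁻¹ * a⁻¹)⁻¹ * p₀⁻¹⁻¹ by group, ← ht,
        ← zpow_neg, ← conj_zpow, h1']
      exact Subgroup.mem_zpowers_iff.2 ⟨-t, rfl⟩
  haveI : (M.subgroupOf N).Normal := by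
    refine Subgroup.normal_subgroupOf_of_le_normalizer ?_
    refine le_trans ?_ (Subgroup.normalizer_inf_normalizer_le_normalizer_sup _ _)
    exact le_inf le_rfl (normalizer_le_normalizer_centralizer' (P : Subgroup G))
  have hpowM : m ^ e ∈ M := by
    have h1 := Subgroup.pow_index_mem (M.subgroupOf N) (⟨m, hmN⟩ : N)
    rw [show (M.subgroupOf N).index = e from he, Subgroup.mem_subgroupOf,
      SubgroupClass.coe_pow] at h1
    exact h1
  have hve : v ^ e ∈ Subgroup.zpowers z := by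
    have h1 := hMact _ hpowM
    rw [hpow] at h1
    obtain ⟨j, hj⟩ := Subgroup.mem_zpowers_iff.1 h1
    refine Subgroup.mem_zpowers_iff.2 ⟨j, ?_⟩
    have : v ^ e = a⁻¹ * z ^ j * a := by rw [hj]; group
    rw [this, mul_assoc, (Commute.symm (h.zcomm a ha)).symm.zpow_left j |>.eq, inv_mul_cancel_left]
  have hv3 : v ∈ Subgroup.zpowers z := by
    rcases (show e % 3 = 1 ∨ e % 3 = 2 by omega) with h1 | h1
    · have : v ^ e = v := by
        rw [← Nat.div_add_mod e 3, h1, pow_succ, pow_mul, h.exp v hv.1, one_pow, one_mul]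
      rwa [this] at hve
    · have : v ^ e = v⁻¹ := by
        rw [← Nat.div_add_mod e 3, h1, pow_add, pow_mul, h.exp v hv.1, one_pow, one_mul,
          eq_inv_iff_mul_eq_one, ← pow_succ, h.exp v hv.1]
      rw [this] at hve
      exact inv_mem_iff.1 hve
  -- a power of `u` gives the same action on `a`
  obtain ⟨j, hj⟩ := Subgroup.mem_zpowers_iff.1 hv3
  obtain ⟨w, hw, hwa⟩ : ∃ w ∈ vGroup P u, w * a * w⁻¹ = a * z ^ j := by
    refine ⟨u ^ (-j), zpow_mem (⟨hu, Subgroup.mem_centralizer_singleton_iff.2 rfl⟩ :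
      u ∈ vGroup P u) (-j), ?_⟩
    obtain ⟨i, hi⟩ : ∃ i, i = -j := ⟨_, rfl⟩
    rw [← hi]
    have hua : a * u ^ i * a⁻¹ = u ^ i * z ^ i := by
      rw [← conj_zpow, hau, Commute.mul_zpow (Commute.symm (h.zcomm u hu))]
    have hz' : Commute (a : G) (z ^ i) := (Commute.symm (h.zcomm a ha)).zpow_right i
    calc u ^ i * a * (u ^ i)⁻¹ = u ^ i * (a * u ^ i * a⁻¹)⁻¹ * a := by group
      _ = u ^ i * (u ^ i * z ^ i)⁻¹ * a := by rw [hua]
      _ = u ^ i * (z ^ i)⁻¹ * (u ^ i)⁻¹ * a := by group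
      _ = (z ^ i)⁻¹ * a := by
          rw [(((Commute.symm (h.zcomm u hu)).zpow_right i).zpow_left i).inv_right.eq,
            mul_inv_cancel_right]
      _ = a * (z ^ i)⁻¹ := hz'.inv_right.eq.symm
      _ = a * z ^ j := by rw [hi, zpow_neg, inv_inv]
  obtain ⟨w', hw', hw'a⟩ : ∃ w' ∈ vGroup P u, w' * a * w'⁻¹ = a * z ^ j := ⟨w, hw, hwa⟩
  have hcent : w'⁻¹ * m ∈ Subgroup.centralizer ((P : Subgroup G) : Set G) := by
    have hfix : ∀ x ∈ vGroup P u, (w'⁻¹ * m) * x * (w'⁻¹ * m)⁻¹ = x := fun x hx => by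
      rw [show (w'⁻¹ * m) * x * (w'⁻¹ * m)⁻¹ = w'⁻¹ * (m * x * m⁻¹) * w' by group, hmV x hx,
        mul_assoc, h.vGroup_comm hu hu' x hx w' hw', inv_mul_cancel_left]
    have hfa : (w'⁻¹ * m) * a * (w'⁻¹ * m)⁻¹ = a := by
      rw [show (w'⁻¹ * m) * a * (w'⁻¹ * m)⁻¹ = w'⁻¹ * (m * a * m⁻¹) * w' by group, hmv, ← hj, ← hw'a]
      group
    have hle : (P : Subgroup G) ≤ Subgroup.centralizer ({w'⁻¹ * m} : Set G) := by
      have hlt : vGroup P u < (P : Subgroup G) ⊓ Subgroup.centralizer ({w'⁻¹ * m} : Set G) := by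
        refine lt_of_le_of_ne (fun x hx => ⟨hx.1, Subgroup.mem_centralizer_singleton_iff.2
          (mul_inv_eq_iff_eq_mul.1 (hfix x hx)).symm⟩) fun e => haV ?_
        rw [e]
        exact ⟨ha, Subgroup.mem_centralizer_singleton_iff.2 (mul_inv_eq_iff_eq_mul.1 hfa).symm⟩
      have h9 : 9 < Nat.card ((P : Subgroup G) ⊓ Subgroup.centralizer ({w'⁻¹ * m} : Set G) :
          Subgroup G) := by
        rw [← h.card_vGroup hu hu']
        by_contra hle
        push Not at hle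
        exact hlt.ne (Subgroup.eq_of_le_of_card_ge hlt.le hle)
      obtain ⟨j', hj', hjc⟩ := (Nat.dvd_prime_pow Nat.prime_three).1
        (show Nat.card ((P : Subgroup G) ⊓ Subgroup.centralizer ({w'⁻¹ * m} : Set G) :
          Subgroup G) ∣ 3 ^ 3 by
          rw [show (3 : ℕ) ^ 3 = Nat.card (P : Subgroup G) by rw [h.card]; norm_num]
          exact Subgroup.card_dvd_of_le inf_le_left)
      rw [hjc] at h9
      intro x hx
      have heq := Subgroup.eq_of_le_of_card_ge (inf_le_left (b :=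
        Subgroup.centralizer ({w'⁻¹ * m} : Set G))) (by
          rw [h.card, hjc]; interval_cases j' <;> first | omega | norm_num at h9 | norm_num)
      exact (heq.symm ▸ hx : x ∈ (P : Subgroup G) ⊓ Subgroup.centralizer ({w'⁻¹ * m} : Set G)).2
    exact Subgroup.mem_centralizer_iff.2 fun x hx =>
      Subgroup.mem_centralizer_singleton_iff.1 (hle hx)
  have : m = w' * (w'⁻¹ * m) := (mul_inv_cancel_left w' m).symm
  rw [this]
  exact Subgroup.mul_mem_sup hw'.1 hcent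
where
  normalizer_le_normalizer_centralizer' (H : Subgroup G) :
      Subgroup.normalizer (H : Set G) ≤
        Subgroup.normalizer (Subgroup.centralizer (H : Set G) : Set G) :=
    CfsgLib.Blocks.Pairs.normalizer_le_normalizer_centralizer H

end CfsgLib.Blk83.Ex27
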