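import Cfsg.Agent.Lib.BlockRank.CentralQuot
import Cfsg.Agent.Lib.Blk83.PrincipalKernel

/-!
The principal block along isomorphisms and quotients by central `p`-subgroups.
-/

set_option autoImplicit false
set_option maxHeartbeats 800000

open Cfsg CfsgLib.Blocks
open scoped Classical ComplexConjugate

namespace CfsgLib.Blk83.Ex27

universe u

variable {G : Type u} [Group G] [Finite G] {p : ℕ} [Fact p.Prime] {M : Ideal Cfsg.AlgInt}

/-- The rank of the principal block is invariant under isomorphisms. -/
theorem principal_blockRank_equiv (hM : IsPModular p M) {H : Type u} [Group H] [Finite H]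
    (f : H ≃* G) :
    Cfsg.blockRank p (principalBlock M H) = Cfsg.blockRank p (principalBlock M G) := by
  haveI := Fintype.ofFinite G
  haveI := Fintype.ofFinite H
  let F : IrrCharacter G → IrrCharacter H := fun χ => ⟨(χ : G → ℂ) ∘ f.toMonoidHom,
    CfsgLib.CharTwist.isIrrCharacter_comp χ.2 f.toMonoidHom f.surjective⟩
  let F' : IrrCharacter H → IrrCharacter G := fun χ => ⟨(χ : H → ℂ) ∘ f.symm.toMonoidHom,
    CfsgLib.CharTwist.isIrrCharacter_comp χ.2 f.symm.toMonoidHom f.symm.surjective⟩
  have hreg : ∀ s : H, IsPRegular p (f s) ↔ IsPRegular p s := fun s => by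
    simp [Cfsg.IsPRegular, MulEquiv.orderOf_eq]
  have hpart : ∀ (χ : G → ℂ) (s : H),
      Cfsg.pRegularPart p (χ ∘ f.toMonoidHom) s = Cfsg.pRegularPart p χ (f s) := fun χ s => by
    simp [Cfsg.pRegularPart, hreg]
  have hmult : ∀ χ : IrrCharacter G, regMult p (F χ : H → ℂ) = regMult p (χ : G → ℂ) := fun χ => by
    rw [regMult, regMult, Nat.card_congr f.toEquiv]
    congr 1
    exact Fintype.sum_equiv f.toEquiv _ _ fun s => hpart _ s
  have hiff : ∀ χ : IrrCharacter G, F χ ∈ principalBlock M H ↔ χ ∈ principalBlock M G := fun χ => by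
    rw [mem_principalBlock_iff p hM, mem_principalBlock_iff p hM, hmult]
  have hsurj : ∀ ψ : IrrCharacter H, F (F' ψ) = ψ := fun ψ => Subtype.ext (funext fun s => by
    simp [F, F'])
  let L : (G → ℂ) ≃ₗ[ℂ] (H → ℂ) := LinearEquiv.funCongrLeft ℂ ℂ f.toEquiv
  rw [Cfsg.blockRank, Cfsg.blockRank]
  rw [show (fun χ : IrrCharacter H => Cfsg.pRegularPart p (χ : H → ℂ)) '' principalBlock M H =
    (L : (G → ℂ) →ₗ[ℂ] (H → ℂ)) ''
      ((fun χ : IrrCharacter G => Cfsg.pRegularPart p (χ : G → ℂ)) '' principalBlock M G) from ?_,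
    ← Submodule.map_span]
  · exact LinearEquiv.finrank_map_eq L _
  ext v
  simp only [Set.mem_image, Set.image_image]
  constructor
  · rintro ⟨ψ, hψ, rfl⟩
    refine ⟨F' ψ, (hiff _).1 (by rwa [hsurj]), ?_⟩
    conv_rhs => rw [← hsurj ψ]
    funext s
    exact (hpart (F' ψ : G → ℂ) s).symm
  · rintro ⟨χ, hχ, rfl⟩
    exact ⟨F χ, (hiff χ).2 hχ, funext fun s => hpart _ s⟩

/-- The centralizer of a central element. -/
theorem principal_blockRank_central (hM : IsPModular p M) {y : G} (hy : ∀ g : G, g * y = y * g) :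
    Cfsg.blockRank p (principalBlock M ↥(Subgroup.centralizer ({y} : Set G))) =
      Cfsg.blockRank p (principalBlock M G) := by
  have h : Subgroup.centralizer ({y} : Set G) = ⊤ :=
    eq_top_iff.2 fun g _ => Subgroup.mem_centralizer_singleton_iff.2 (hy g)
  exact principal_blockRank_equiv hM ((MulEquiv.subgroupCongr h).trans Subgroup.topEquiv)

variable (N : Subgroup G) [N.Normal]

/-- The principal block of the quotient. -/
theorem principal_infl_iff (hM : IsPModular p M) (hc : N ≤ Subgroup.center G)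
    (hP : IsPGroup p N) (η : IrrCharacter (G ⧸ N)) :
    η ∈ principalBlock M (G ⧸ N) ↔ infl N η ∈ principalBlock M G := by
  haveI := hM.2.1
  obtain ⟨Bbar, hBbar, hiff, -⟩ :=
    CfsgLib.CentralQuot.exists_quotient_block N hM hc hP (principalBlock_isPBlock (M := M) (G := G))
  have h1 : infl N (CfsgLib.Char.principalIrr : IrrCharacter (G ⧸ N)) =
      (CfsgLib.Char.principalIrr : IrrCharacter G) := Subtype.ext (funext fun g => by simp)
  have hmem : (CfsgLib.Char.principalIrr : IrrCharacter (G ⧸ N)) ∈ Bbar :=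
    (hiff _).2 (h1.symm ▸ principal_mem hM)
  rw [show principalBlock M (G ⧸ N) = Bbar from
    ((IsPBlock.eq_blockOf hBbar hmem).trans
      (IsPBlock.eq_blockOf principalBlock_isPBlock (principal_mem hM)).symm).symm]
  exact hiff η

/-- The rank of the principal block is that of the quotient. -/
theorem principal_blockRank_quotient (hM : IsPModular p M) (hc : N ≤ Subgroup.center G)
    (hP : IsPGroup p N) :
    Cfsg.blockRank p (principalBlock M G) = Cfsg.blockRank p (principalBlock M (G ⧸ N)) := by
  haveI := hM.2.1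
  refine le_antisymm (CfsgLib.CentralQuot.blockRank_le N hM hc hP principalBlock_isPBlock
    principalBlock_isPBlock (principal_infl_iff N hM hc hP)) ?_
  let L : (G ⧸ N → ℂ) →ₗ[ℂ] (G → ℂ) :=
    { toFun := fun f g => if IsPRegular p g then f g else 0
      map_add' := fun a b => by funext g; by_cases h : IsPRegular p g <;> simp [h]
      map_smul' := fun c a => by funext g; by_cases h : IsPRegular p g <;> simp [h] }
  have hker : ∀ f ∈ Submodule.span ℂ ((fun η : IrrCharacter (G ⧸ N) =>
      Cfsg.pRegularPart p (η : G ⧸ N → ℂ)) '' principalBlock M (G ⧸ N)), L f = 0 → f = 0 := by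
    intro f hf hLf
    funext x
    by_cases hx : IsPRegular p x
    · obtain ⟨g, hg, rfl⟩ := CfsgLib.Blocks.exists_regular_lift N (Fact.out : p.Prime) hx
      have := congrFun hLf g
      simpa [L, show IsPRegular p g from hg] using this
    · refine Submodule.span_induction (p := fun f _ => f x = 0) ?_ rfl ?_ ?_ hf
      · rintro _ ⟨η, -, rfl⟩
        exact if_neg hx
      · intro a b _ _ ha hb; simp [ha, hb]
      · intro c a _ ha; simp [ha]
  rw [Cfsg.blockRank, Cfsg.blockRank]
  set S := Submodule.span ℂ ((fun η : IrrCharacter (G ⧸ N) =>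
      Cfsg.pRegularPart p (η : G ⧸ N → ℂ)) '' principalBlock M (G ⧸ N))
  have hinj : Function.Injective (L.domRestrict S) := fun a b hab => by
    refine Subtype.ext (sub_eq_zero.1 (hker _ (S.sub_mem a.2 b.2) ?_))
    rw [map_sub]
    exact sub_eq_zero.2 hab
  rw [← LinearMap.finrank_range_of_inj hinj]
  refine Submodule.finrank_mono ?_
  rw [LinearMap.range_domRestrict, Submodule.map_span, Submodule.span_le]
  rintro _ ⟨_, ⟨η, hη, rfl⟩, rfl⟩
  refine Submodule.subset_span ⟨infl N η, (principal_infl_iff N hM hc hP η).1 hη, funext fun g => ?_⟩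
  by_cases hg : IsPRegular p g
  · have hq : IsPRegular p (g : G ⧸ N) := CfsgLib.Blocks.regular_mk N hg
    simp [L, Cfsg.pRegularPart, hg, hq]
  · simp [L, Cfsg.pRegularPart, hg]

end CfsgLib.Blk83.Ex27
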