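import Cfsg.Agent.Lib.Blk83.Ex27.Sections
import Cfsg.Agent.Lib.Blk83.Ex27.Columns
import Cfsg.Agent.Lib.Blk83.Ex27.Quot
import Cfsg.Agent.Lib.Char.Exceptional

/-!
The kernel of the principal block on the singular elements of a subgroup controlling the sections,
and the transfer of the vectors vanishing at regular elements.
-/

set_option autoImplicit false
set_option maxHeartbeats 1000000

open Cfsg CfsgLib.Blocks
open scoped Classical ComplexConjugate

namespace CfsgLib.Blk83.Ex27

universe u

variable {G : Type u} [Group G] [Fintype G] {p : ℕ} [Fact p.Prime] {M : Ideal Cfsg.AlgInt}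

/-- Sums over the principal block along an isomorphism. -/
theorem principal_sum_equiv (hM : IsPModular p M) {H : Type u} [Group H] [Fintype H] (f : H ≃* G)
    (s t : H) :
    ∑ φ ∈ (principalBlock M H).toFinset, (φ : H → ℂ) s * conj ((φ : H → ℂ) t) =
      ∑ a ∈ (principalBlock M G).toFinset, (a : G → ℂ) (f s) * conj ((a : G → ℂ) (f t)) := by
  let F : IrrCharacter G → IrrCharacter H := fun χ => ⟨(χ : G → ℂ) ∘ f.toMonoidHom,
    CfsgLib.CharTwist.isIrrCharacter_comp χ.2 f.toMonoidHom f.surjective⟩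
  let F' : IrrCharacter H → IrrCharacter G := fun χ => ⟨(χ : H → ℂ) ∘ f.symm.toMonoidHom,
    CfsgLib.CharTwist.isIrrCharacter_comp χ.2 f.symm.toMonoidHom f.symm.surjective⟩
  have hmult : ∀ χ : IrrCharacter G, regMult p (F χ : H → ℂ) = regMult p (χ : G → ℂ) := fun χ => by
    rw [regMult, regMult, Nat.card_congr f.toEquiv]
    congr 1
    refine Fintype.sum_equiv f.toEquiv _ _ fun w => ?_
    by_cases hw : p ∣ orderOf w <;>
      simp [F, Cfsg.pRegularPart, Cfsg.IsPRegular, MulEquiv.orderOf_eq, hw]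
  have hiff : ∀ χ : IrrCharacter G, F χ ∈ principalBlock M H ↔ χ ∈ principalBlock M G := fun χ => by
    rw [mem_principalBlock_iff p hM, mem_principalBlock_iff p hM, hmult]
  refine (Finset.sum_nbij' F F' ?_ ?_ ?_ ?_ ?_).symm
  · intro a ha
    exact Finset.mem_coe.2 (Set.mem_toFinset.2 ((hiff a).2 (Set.mem_toFinset.1 ha)))
  · intro φ hφ
    refine Finset.mem_coe.2 (Set.mem_toFinset.2 ((hiff _).1 ?_))
    convert Set.mem_toFinset.1 hφ using 1
    exact Subtype.ext (funext fun w => by simp [F, F'])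
  · intro a _; exact Subtype.ext (funext fun w => by simp [F, F'])
  · intro φ _; exact Subtype.ext (funext fun w => by simp [F, F'])
  · intro a _; rfl

/-- Conjugating the argument. -/
theorem sum_conj_left (B : Set (IrrCharacter G)) (g c : G) (F : IrrCharacter G → ℂ) :
    ∑ χ ∈ B.toFinset, (χ : G → ℂ) (c * g * c⁻¹) * F χ = ∑ χ ∈ B.toFinset, (χ : G → ℂ) g * F χ :=
  Finset.sum_congr rfl fun χ _ => by
    rw [CfsgLib.Char.IsIrrCharacter.isClassFunction χ.2 g c]

/-- **The kernel on the sections.** -/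
theorem sections_kernel (hM : IsPModular p M) (C : Subgroup G) (Y : Finset C)
    (hord : ∀ y ∈ Y, ∃ k : ℕ, orderOf y = p ^ k) (hY1 : ∀ y ∈ Y, y ≠ 1)
    (hcls : ∀ g : C, ¬ IsPRegular p g → ∃ y ∈ Y, ∃ c : C, IsPPart p (c * g * c⁻¹) y)
    (hne : ∀ y ∈ Y, ∀ y' ∈ Y, IsConj (y : G) (y' : G) → y = y')
    (hsame : ∀ y ∈ Y, (Subgroup.centralizer ({(y : G)} : Set G) = C ∧ ∀ c : C, c * y = y * c) ∨
      ∃ a, Compl p (y : G) a ∧ Compl p y a) :
    (∀ g h : C, ¬ IsPRegular p g → ¬ IsPRegular p h →
      ∑ χ ∈ (principalBlock M G).toFinset, (χ : G → ℂ) g * conj ((χ : G → ℂ) h) =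
        ∑ a ∈ (principalBlock M C).toFinset, (a : C → ℂ) g * conj ((a : C → ℂ) h)) ∧
      (∀ g : C, ¬ IsPRegular p g →
        ∑ χ ∈ (principalBlock M G).toFinset, (χ : G → ℂ) g * conj ((χ : G → ℂ) 1) = 0) ∧
      ∀ g t : C, ¬ IsPRegular p g → IsPRegular p t →
        ∑ a ∈ (principalBlock M C).toFinset, (a : C → ℂ) g * conj ((a : C → ℂ) t) = 0 := by
  haveI := hM.2.1
  have hordG : ∀ y ∈ Y, ∃ k : ℕ, orderOf (y : G) = p ^ k := fun y hy => by
    simpa only [Subgroup.orderOf_coe] using hord y hy
  have hsplit : ∀ g : C, ¬ IsPRegular p g → ∃ y ∈ Y, ∃ (c : C) (s : C), c * g * c⁻¹ = y * s ∧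
      Commute y s ∧ IsPRegular p s := by
    intro g hg
    obtain ⟨y, hy, c, s, hse, hcomm, -, hs⟩ := hcls g hg
    exact ⟨y, hy, c, s, hse.symm, hcomm, hs⟩
  refine ⟨fun g h hg hh => ?_, fun g hg => ?_, fun g t hg ht => ?_⟩
  · obtain ⟨y, hy, c, s, hgs, hys, hs⟩ := hsplit g hg
    obtain ⟨y', hy', c', t, hht, hyt, ht⟩ := hsplit h hh
    have hsC : s ∈ Subgroup.centralizer ({y} : Set C) :=
      Subgroup.mem_centralizer_singleton_iff.2 hys.eq.symm
    have htC : t ∈ Subgroup.centralizer ({y'} : Set C) :=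
      Subgroup.mem_centralizer_singleton_iff.2 hyt.eq.symm
    have hsG : (s : G) ∈ Subgroup.centralizer ({(y : G)} : Set G) :=
      Subgroup.mem_centralizer_singleton_iff.2 (congrArg Subtype.val hys.eq.symm)
    have htG : (t : G) ∈ Subgroup.centralizer ({(y' : G)} : Set G) :=
      Subgroup.mem_centralizer_singleton_iff.2 (congrArg Subtype.val hyt.eq.symm)
    have hs' : IsPRegular p (⟨(s : G), hsG⟩ : Subgroup.centralizer ({(y : G)} : Set G)) := by
      rw [IsPRegular, Subgroup.orderOf_mk, Subgroup.orderOf_coe]; exact hs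
    have ht' : IsPRegular p (⟨(t : G), htG⟩ : Subgroup.centralizer ({(y' : G)} : Set G)) := by
      rw [IsPRegular, Subgroup.orderOf_mk, Subgroup.orderOf_coe]; exact ht
    have hs'' : IsPRegular p (⟨s, hsC⟩ : Subgroup.centralizer ({y} : Set C)) := by
      rw [IsPRegular, Subgroup.orderOf_mk]; exact hs
    have ht'' : IsPRegular p (⟨t, htC⟩ : Subgroup.centralizer ({y'} : Set C)) := by
      rw [IsPRegular, Subgroup.orderOf_mk]; exact ht
    have hL : ∑ χ ∈ (principalBlock M G).toFinset, (χ : G → ℂ) g * conj ((χ : G → ℂ) h) =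
        ∑ χ ∈ (principalBlock M G).toFinset,
          (χ : G → ℂ) ((y : G) * (s : G)) * conj ((χ : G → ℂ) ((y' : G) * (t : G))) := by
      refine Finset.sum_congr rfl fun χ _ => ?_
      rw [← Subgroup.coe_mul, ← Subgroup.coe_mul, ← hgs, ← hht, Subgroup.coe_mul, Subgroup.coe_mul,
        Subgroup.coe_mul, Subgroup.coe_mul, InvMemClass.coe_inv, InvMemClass.coe_inv,
        CfsgLib.Char.IsIrrCharacter.isClassFunction χ.2,
        CfsgLib.Char.IsIrrCharacter.isClassFunction χ.2]
    have hR : ∑ a ∈ (principalBlock M C).toFinset, (a : C → ℂ) g * conj ((a : C → ℂ) h) =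
        ∑ a ∈ (principalBlock M C).toFinset, (a : C → ℂ) (y * s) * conj ((a : C → ℂ) (y' * t)) := by
      refine Finset.sum_congr rfl fun a _ => ?_
      rw [← hgs, ← hht, CfsgLib.Char.IsIrrCharacter.isClassFunction a.2,
        CfsgLib.Char.IsIrrCharacter.isClassFunction a.2]
    rw [hL, hR]
    by_cases hyy : y = y'
    · subst hyy
      rcases hsame y hy with ⟨hcC, hcen⟩ | ⟨a, hcG, hcC⟩
      · rw [show ((y : G) * (s : G)) =
          (y : G) * ((⟨(s : G), hsG⟩ : Subgroup.centralizer ({(y : G)} : Set G)) : G) from rfl,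
          show ((y : G) * (t : G)) =
          (y : G) * ((⟨(t : G), htG⟩ : Subgroup.centralizer ({(y : G)} : Set G)) : G) from rfl,
          sum_translate_same hM (hordG y hy) hs' ht',
          show y * s = y * ((⟨s, hsC⟩ : Subgroup.centralizer ({y} : Set C)) : C) from rfl,
          show y * t = y * ((⟨t, htC⟩ : Subgroup.centralizer ({y} : Set C)) : C) from rfl,
          sum_translate_same hM (hord y hy) hs'' ht'']
        have htop : Subgroup.centralizer ({y} : Set C) = ⊤ :=
          eq_top_iff.2 fun d _ => Subgroup.mem_centralizer_singleton_iff.2 (hcen d)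
        rw [principal_sum_equiv hM ((MulEquiv.subgroupCongr htop).trans Subgroup.topEquiv),
          principal_sum_equiv hM (MulEquiv.subgroupCongr hcC)]
        rfl
      · refine (Finset.sum_congr rfl fun χ hχ => ?_).trans
          ((principal_norm hM (hordG y hy) hcG).trans ((principal_norm hM (hord y hy) hcC).symm.trans
            (Finset.sum_congr rfl fun φ hφ => ?_)))
        · rw [← principal_translate_const hM (hordG y hy) hcG (Set.mem_toFinset.1 hχ) hs']
          congr 2
          rw [principal_translate_const hM (hordG y hy) hcG (Set.mem_toFinset.1 hχ) hs',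
            ← principal_translate_const hM (hordG y hy) hcG (Set.mem_toFinset.1 hχ) ht']
        · rw [← principal_translate_const hM (hord y hy) hcC (Set.mem_toFinset.1 hφ) hs'']
          congr 2
          rw [principal_translate_const hM (hord y hy) hcC (Set.mem_toFinset.1 hφ) hs'',
            ← principal_translate_const hM (hord y hy) hcC (Set.mem_toFinset.1 hφ) ht'']
    · have hnG : ¬ IsConj (y : G) (y' : G) := fun hc => hyy (hne y hy y' hy' hc)
      have hnC : ¬ IsConj y y' := fun hc => hnG (C.subtype.map_isConj hc)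
      rw [show ((y : G) * (s : G)) =
          (y : G) * ((⟨(s : G), hsG⟩ : Subgroup.centralizer ({(y : G)} : Set G)) : G) from rfl,
        show ((y' : G) * (t : G)) =
          (y' : G) * ((⟨(t : G), htG⟩ : Subgroup.centralizer ({(y' : G)} : Set G)) : G) from rfl,
        sum_translate_ne hM (hordG y hy) (hordG y' hy') hnG hs' ht',
        show y * s = y * ((⟨s, hsC⟩ : Subgroup.centralizer ({y} : Set C)) : C) from rfl,
        show y' * t = y' * ((⟨t, htC⟩ : Subgroup.centralizer ({y'} : Set C)) : C) from rfl,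
        sum_translate_ne hM (hord y hy) (hord y' hy') hnC hs'' ht'']
  · obtain ⟨y, hy, c, s, hgs, hys, hs⟩ := hsplit g hg
    have hsG : (s : G) ∈ Subgroup.centralizer ({(y : G)} : Set G) :=
      Subgroup.mem_centralizer_singleton_iff.2 (congrArg Subtype.val hys.eq.symm)
    rw [← sum_conj_left _ (g : G) (c : G), show (c : G) * g * (c : G)⁻¹ = (y : G) * (s : G) from
      congrArg Subtype.val hgs]
    have h1 := sum_translate_ne hM (hordG y hy) (y' := (1 : G)) ⟨0, by simp⟩
      (fun hc => hY1 y hy (Subtype.ext (isConj_one_left.1 hc)))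
      (s := ⟨(s : G), hsG⟩) (t := 1)
      (by rw [IsPRegular, Subgroup.orderOf_mk, Subgroup.orderOf_coe]; exact hs)
      CfsgLib.PerfIso.isPRegular_one
    simpa using h1
  · obtain ⟨y, hy, c, s, hgs, hys, hs⟩ := hsplit g hg
    have hsC : s ∈ Subgroup.centralizer ({y} : Set C) :=
      Subgroup.mem_centralizer_singleton_iff.2 hys.eq.symm
    have htC : t ∈ Subgroup.centralizer ({(1 : C)} : Set C) :=
      Subgroup.mem_centralizer_singleton_iff.2 (by simp)
    rw [← sum_conj_left _ g c, hgs]
    have h1 := sum_translate_ne hM (hord y hy) (y' := (1 : C)) ⟨0, by simp⟩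
      (fun hc => hY1 y hy (isConj_one_left.1 hc)) (s := ⟨s, hsC⟩) (t := ⟨t, htC⟩)
      (by rw [IsPRegular, Subgroup.orderOf_mk]; exact hs)
      (by rw [IsPRegular, Subgroup.orderOf_mk]; exact ht)
    simpa using h1

/-- The products of a character with the combination of the characters of the principal block of a
subgroup. -/
noncomputable def wt (M : Ideal Cfsg.AlgInt) (C : Subgroup G)
    (c : ↥(principalBlock M C) → ℂ) (χ : G → ℂ) : ℂ :=
  (Nat.card C : ℂ)⁻¹ * ∑ g : C, χ g *
    ∑ a : ↥(principalBlock M C), c a * conj (((a : IrrCharacter C) : C → ℂ) g)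

theorem wt_eq (C : Subgroup G) (c : ↥(principalBlock M C) → ℂ) (χ : G → ℂ) :
    wt M C c χ = ∑ a : ↥(principalBlock M C),
      c a * Cfsg.classInner (fun g : C => χ g) ((a : IrrCharacter C) : C → ℂ) := by
  simp only [wt, Cfsg.classInner, Finset.mul_sum]
  rw [Finset.sum_comm]
  exact Finset.sum_congr rfl fun a _ => Finset.sum_congr rfl fun g _ => by ring

/-- An integral combination has integral products. -/
theorem exists_int_wt (C : Subgroup G) (v : ↥(principalBlock M C) → ℤ) (χ : IrrCharacter G) :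
    ∃ V : ℤ, wt M C (fun a => (v a : ℂ)) (χ : G → ℂ) = (V : ℂ) := by
  choose m hm using fun a : ↥(principalBlock M C) => CfsgLib.CharExc.exists_int_classInner
    (θ := fun g : C => (χ : G → ℂ) g) (χ := ((a : IrrCharacter C) : C → ℂ))
    (CfsgLib.Char.IsGeneralizedCharacter.restrict
      (CfsgLib.Char.IsIrrCharacter.isGeneralizedCharacter χ.2) C) a.1.2
  refine ⟨∑ a, v a * m a, ?_⟩
  rw [wt_eq]
  push_cast
  exact Finset.sum_congr rfl fun a _ => by rw [hm]

/-- Vanishing at regular elements is stable under conjugation of the argument. -/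
theorem vanish_conj (C : Subgroup G) {c : ↥(principalBlock M C) → ℂ}
    (hc : ∀ g : C, IsPRegular p g →
      ∑ a : ↥(principalBlock M C), c a * ((a : IrrCharacter C) : C → ℂ) g = 0)
    {g : C} (hg : IsPRegular p g) :
    ∑ a : ↥(principalBlock M C), c a * conj (((a : IrrCharacter C) : C → ℂ) g) = 0 := by
  rw [← hc g⁻¹ (by rw [IsPRegular, orderOf_inv]; exact hg)]
  exact Finset.sum_congr rfl fun a _ => by rw [CfsgLib.BlockReg.char_inv (a : IrrCharacter C)]

/-- **The transfer.** -/
theorem transfer_facts (hM : IsPModular p M) (C : Subgroup G) (Y : Finset C)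
    (hord : ∀ y ∈ Y, ∃ k : ℕ, orderOf y = p ^ k) (hY1 : ∀ y ∈ Y, y ≠ 1)
    (hcls : ∀ g : C, ¬ IsPRegular p g → ∃ y ∈ Y, ∃ c : C, IsPPart p (c * g * c⁻¹) y)
    (hne : ∀ y ∈ Y, ∀ y' ∈ Y, IsConj (y : G) (y' : G) → y = y')
    (hsame : ∀ y ∈ Y, (Subgroup.centralizer ({(y : G)} : Set G) = C ∧ ∀ c : C, c * y = y * c) ∨
      ∃ a, Compl p (y : G) a ∧ Compl p y a) :
    ∀ c : ↥(principalBlock M C) → ℂ, (∀ g : C, IsPRegular p g →
        ∑ a : ↥(principalBlock M C), c a * ((a : IrrCharacter C) : C → ℂ) g = 0) →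
      (∀ h : C, ¬ IsPRegular p h → ∑ χ : ↥(principalBlock M G),
        wt M C c ((χ : IrrCharacter G) : G → ℂ) * conj (((χ : IrrCharacter G) : G → ℂ) h) =
          ∑ a : ↥(principalBlock M C), c a * conj (((a : IrrCharacter C) : C → ℂ) h)) ∧
      (∑ χ : ↥(principalBlock M G),
        wt M C c ((χ : IrrCharacter G) : G → ℂ) * conj (((χ : IrrCharacter G) : G → ℂ) 1) = 0) ∧
      (∀ d : ↥(principalBlock M C) → ℂ, (∀ g : C, IsPRegular p g →
          ∑ a : ↥(principalBlock M C), d a * ((a : IrrCharacter C) : C → ℂ) g = 0) →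
        ∑ χ : ↥(principalBlock M G), wt M C c ((χ : IrrCharacter G) : G → ℂ) *
          conj (wt M C d ((χ : IrrCharacter G) : G → ℂ)) =
            ∑ a : ↥(principalBlock M C), c a * conj (d a)) ∧
      ∀ (χ : ↥(principalBlock M G)) (g : C), ¬ IsPRegular p g →
        ((χ : IrrCharacter G) : G → ℂ) g =
          wt M C (fun a => ((a : IrrCharacter C) : C → ℂ) g) ((χ : IrrCharacter G) : G → ℂ) := by
  obtain ⟨hK, hK1, hKreg⟩ := sections_kernel hM C Y hord hY1 hcls hne hsame
  have horth : ∀ a a' : ↥(principalBlock M C), Cfsg.classInner ((a : IrrCharacter C) : C → ℂ)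
      ((a' : IrrCharacter C) : C → ℂ) = if a = a' then 1 else 0 := fun a a' => by
    rw [CfsgLib.Char.classInner_irr a.1.2 a'.1.2]
    exact if_congr ⟨fun h => Subtype.ext (Subtype.ext h), fun h => by rw [h]⟩ rfl rfl
  have hA : ∀ c : ↥(principalBlock M C) → ℂ, (∀ g : C, IsPRegular p g →
      ∑ a : ↥(principalBlock M C), c a * ((a : IrrCharacter C) : C → ℂ) g = 0) →
      ∀ h : C, ¬ IsPRegular p h → ∑ χ : ↥(principalBlock M G),
        wt M C c ((χ : IrrCharacter G) : G → ℂ) * conj (((χ : IrrCharacter G) : G → ℂ) h) =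
          ∑ a : ↥(principalBlock M C), c a * conj (((a : IrrCharacter C) : C → ℂ) h) := by
    intro c hc h hh
    obtain ⟨f, hf⟩ : ∃ f : C → ℂ, ∀ g, f g =
        ∑ a : ↥(principalBlock M C), c a * conj (((a : IrrCharacter C) : C → ℂ) g) :=
      ⟨_, fun _ => rfl⟩
    calc ∑ χ : ↥(principalBlock M G),
          wt M C c ((χ : IrrCharacter G) : G → ℂ) * conj (((χ : IrrCharacter G) : G → ℂ) h)
        = (Nat.card C : ℂ)⁻¹ * ∑ g : C, f g * ∑ χ : ↥(principalBlock M G),
            ((χ : IrrCharacter G) : G → ℂ) g * conj (((χ : IrrCharacter G) : G → ℂ) h) := by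
          simp only [wt, ← hf, Finset.mul_sum, Finset.sum_mul]
          rw [Finset.sum_comm]
          exact Finset.sum_congr rfl fun g _ => Finset.sum_congr rfl fun χ _ => by ring
      _ = (Nat.card C : ℂ)⁻¹ * ∑ g : C, f g * ∑ a : ↥(principalBlock M C),
            ((a : IrrCharacter C) : C → ℂ) g * conj (((a : IrrCharacter C) : C → ℂ) h) := by
          congr 1
          refine Finset.sum_congr rfl fun g _ => ?_
          by_cases hg : IsPRegular p g
          · rw [hf, vanish_conj C hc hg, zero_mul, zero_mul]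
          · congr 1
            have h0 := hK g h hg hh
            rw [sum_block, sum_block] at h0
            exact h0
      _ = ∑ a : ↥(principalBlock M C), (∑ a' : ↥(principalBlock M C),
            c a' * Cfsg.classInner ((a : IrrCharacter C) : C → ℂ) ((a' : IrrCharacter C) : C → ℂ)) *
            conj (((a : IrrCharacter C) : C → ℂ) h) := by
          simp only [hf, Cfsg.classInner, Finset.mul_sum, Finset.sum_mul]
          rw [Finset.sum_comm]
          refine Finset.sum_congr rfl fun a _ => ?_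
          rw [Finset.sum_comm]
          exact Finset.sum_congr rfl fun a' _ => Finset.sum_congr rfl fun g _ => by ring
      _ = ∑ a : ↥(principalBlock M C), c a * conj (((a : IrrCharacter C) : C → ℂ) h) := by
          refine Finset.sum_congr rfl fun a _ => ?_
          simp only [horth, mul_ite, mul_one, mul_zero, Finset.sum_ite_eq, Finset.mem_univ, if_true]
  have hB : ∀ c d : ↥(principalBlock M C) → ℂ, (∀ g : C, IsPRegular p g →
      ∑ a : ↥(principalBlock M C), c a * ((a : IrrCharacter C) : C → ℂ) g = 0) →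
      (∀ g : C, IsPRegular p g →
      ∑ a : ↥(principalBlock M C), d a * ((a : IrrCharacter C) : C → ℂ) g = 0) →
      ∑ χ : ↥(principalBlock M G), wt M C c ((χ : IrrCharacter G) : G → ℂ) *
        conj (wt M C d ((χ : IrrCharacter G) : G → ℂ)) =
          ∑ a : ↥(principalBlock M C), c a * conj (d a) := by
    intro c d hc hd
    obtain ⟨f, hf⟩ : ∃ f : C → ℂ, ∀ g, f g =
        ∑ a : ↥(principalBlock M C), d a * conj (((a : IrrCharacter C) : C → ℂ) g) :=
      ⟨_, fun _ => rfl⟩
    calc ∑ χ : ↥(principalBlock M G), wt M C c ((χ : IrrCharacter G) : G → ℂ) *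
          conj (wt M C d ((χ : IrrCharacter G) : G → ℂ))
        = (Nat.card C : ℂ)⁻¹ * ∑ g : C, conj (f g) * ∑ χ : ↥(principalBlock M G),
            wt M C c ((χ : IrrCharacter G) : G → ℂ) * conj (((χ : IrrCharacter G) : G → ℂ) g) := by
          have hd' : ∀ χ : G → ℂ, conj (wt M C d χ) =
              (Nat.card C : ℂ)⁻¹ * ∑ g : C, conj (χ g) * conj (f g) := fun χ => by
            simp only [wt, ← hf, map_mul, map_inv₀, map_natCast, map_sum]
          simp only [hd', Finset.mul_sum]
          rw [Finset.sum_comm]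
          exact Finset.sum_congr rfl fun g _ => Finset.sum_congr rfl fun χ _ => by ring
      _ = (Nat.card C : ℂ)⁻¹ * ∑ g : C, conj (f g) * ∑ a : ↥(principalBlock M C),
            c a * conj (((a : IrrCharacter C) : C → ℂ) g) := by
          congr 1
          refine Finset.sum_congr rfl fun g _ => ?_
          by_cases hg : IsPRegular p g
          · rw [hf, vanish_conj C hd hg, map_zero, zero_mul, zero_mul]
          · rw [hA c hc g hg]
      _ = ∑ a : ↥(principalBlock M C), c a * ∑ a' : ↥(principalBlock M C),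
            conj (d a') * Cfsg.classInner ((a' : IrrCharacter C) : C → ℂ)
              ((a : IrrCharacter C) : C → ℂ) := by
          simp only [hf, Cfsg.classInner, Finset.mul_sum, Finset.sum_mul, map_sum, map_mul,
            Complex.conj_conj]
          rw [Finset.sum_comm]
          refine Finset.sum_congr rfl fun a _ => ?_
          rw [Finset.sum_comm]
          exact Finset.sum_congr rfl fun a' _ => Finset.sum_congr rfl fun g _ => by ring
      _ = ∑ a : ↥(principalBlock M C), c a * conj (d a) := by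
          refine Finset.sum_congr rfl fun a _ => ?_
          simp only [horth, mul_ite, mul_one, mul_zero, Finset.sum_ite_eq', Finset.mem_univ, if_true]
  intro c hc
  refine ⟨hA c hc, ?_, fun d hd => hB c d hc hd, fun χ g hg => ?_⟩
  · obtain ⟨f, hf⟩ : ∃ f : C → ℂ, ∀ g, f g =
        ∑ a : ↥(principalBlock M C), c a * conj (((a : IrrCharacter C) : C → ℂ) g) :=
      ⟨_, fun _ => rfl⟩
    calc ∑ χ : ↥(principalBlock M G),
          wt M C c ((χ : IrrCharacter G) : G → ℂ) * conj (((χ : IrrCharacter G) : G → ℂ) 1)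
        = (Nat.card C : ℂ)⁻¹ * ∑ g : C, f g * ∑ χ : ↥(principalBlock M G),
            ((χ : IrrCharacter G) : G → ℂ) g * conj (((χ : IrrCharacter G) : G → ℂ) 1) := by
          simp only [wt, ← hf, Finset.mul_sum, Finset.sum_mul]
          rw [Finset.sum_comm]
          exact Finset.sum_congr rfl fun g _ => Finset.sum_congr rfl fun χ _ => by ring
      _ = 0 := by
          rw [Finset.sum_eq_zero, mul_zero]
          intro g _
          by_cases hg : IsPRegular p g
          · rw [hf, vanish_conj C hc hg, zero_mul]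
          · have h0 := hK1 g hg
            rw [sum_block] at h0
            rw [h0, mul_zero]
  -- the values are recovered
  obtain ⟨cg, hcg⟩ : ∃ cg : ↥(principalBlock M C) → ℂ,
      cg = fun a : ↥(principalBlock M C) => ((a : IrrCharacter C) : C → ℂ) g := ⟨_, rfl⟩
  rw [← hcg]
  have hvan : ∀ t : C, IsPRegular p t →
      ∑ a : ↥(principalBlock M C), cg a * ((a : IrrCharacter C) : C → ℂ) t = 0 := by
    intro t ht
    have h0 := hKreg g t⁻¹ hg (by rw [IsPRegular, orderOf_inv]; exact ht)
    rw [sum_block] at h0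
    rw [← h0, hcg]
    exact Finset.sum_congr rfl fun a _ => by
      rw [CfsgLib.BlockReg.char_inv (a : IrrCharacter C), Complex.conj_conj]
  obtain ⟨W, hW⟩ : ∃ W : ↥(principalBlock M G) → ℂ,
      ∀ ψ : ↥(principalBlock M G), W ψ = wt M C cg ((ψ : IrrCharacter G) : G → ℂ) :=
    ⟨_, fun _ => rfl⟩
  obtain ⟨v, hv⟩ : ∃ v : ↥(principalBlock M G) → ℂ,
      ∀ ψ : ↥(principalBlock M G), v ψ = ((ψ : IrrCharacter G) : G → ℂ) g := ⟨_, fun _ => rfl⟩
  obtain ⟨S, hS⟩ : ∃ S, S = ∑ a : ↥(principalBlock M C),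
      ((a : IrrCharacter C) : C → ℂ) g * conj (((a : IrrCharacter C) : C → ℂ) g) := ⟨_, rfl⟩
  have hWW : ∑ ψ, W ψ * conj (W ψ) = S := by
    simp only [hW]; rw [hB cg cg hvan hvan, hS, hcg]
  have hWv : ∑ ψ, W ψ * conj (v ψ) = S := by
    simp only [hW, hv]; rw [hA cg hvan g hg, hS, hcg]
  have hvv : ∑ ψ, v ψ * conj (v ψ) = S := by
    simp only [hv, hS]
    have h0 := hK g g hg hg
    rw [sum_block, sum_block] at h0
    exact h0
  have hvW : ∑ ψ, v ψ * conj (W ψ) = S := by
    have h1 := congrArg conj hWv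
    rw [map_sum] at h1
    rw [← show conj S = S from by
      rw [hS, map_sum]
      exact Finset.sum_congr rfl fun a _ => by rw [map_mul, Complex.conj_conj, mul_comm], ← h1]
    exact Finset.sum_congr rfl fun ψ _ => by rw [map_mul, Complex.conj_conj, mul_comm]
  have hzero : ∑ ψ, (v ψ - W ψ) * conj (v ψ - W ψ) = 0 := by
    simp only [map_sub, sub_mul, mul_sub, Finset.sum_sub_distrib, hWW, hWv, hvv, hvW]
    ring
  have hn : ∑ ψ, Complex.normSq (v ψ - W ψ) = 0 := by
    have : ((∑ ψ, Complex.normSq (v ψ - W ψ) : ℝ) : ℂ) = 0 := by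
      push_cast
      rw [← hzero]
      exact Finset.sum_congr rfl fun ψ _ => (Complex.mul_conj _).symm
    exact_mod_cast this
  have h1 := (Finset.sum_eq_zero_iff_of_nonneg fun ψ _ => Complex.normSq_nonneg _).1 hn χ
    (Finset.mem_univ _)
  rw [Complex.normSq_eq_zero, sub_eq_zero, hv, hW] at h1
  exact h1

end CfsgLib.Blk83.Ex27
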