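import Cfsg.Agent.Lib.Blk83.Ex27.Orbits
import Cfsg.Agent.Lib.Blk83.Ex27.Columns
import Cfsg.Agent.Lib.Blk83.Ex27.Central
import Cfsg.Agent.Lib.Blk83.Ex27.Dual

/-!
The principal block of the centralizer of the central element: the integral vectors vanishing at
regular elements.
-/

set_option autoImplicit false
set_option maxHeartbeats 1600000

open Cfsg CfsgLib.Blocks
open scoped Classical ComplexConjugate

namespace CfsgLib.Blk83.Ex27

universe u

variable {G : Type u} [Group G] [Fintype G] {M : Ideal Cfsg.AlgInt}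

/-- The vector of a family on a subset. -/
noncomputable def ofFam {K B : Type*} [Fintype K] (ι : K → B) (w : K → ℤ) (a : B) : ℤ :=
  ∑ k, if ι k = a then w k else 0

theorem ofFam_apply {K B : Type*} [Fintype K] {ι : K → B} (hι : Function.Injective ι) (w : K → ℤ)
    (k : K) : ofFam ι w (ι k) = w k := by
  rw [ofFam, Finset.sum_eq_single k]
  · rw [if_pos rfl]
  · intro j _ hj; rw [if_neg fun h => hj (hι h)]
  · exact fun h => absurd (Finset.mem_univ _) h

theorem ofFam_eq_zero {K B : Type*} [Fintype K] {ι : K → B} (w : K → ℤ) {a : B}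
    (ha : ∀ k, ι k ≠ a) : ofFam ι w a = 0 :=
  Finset.sum_eq_zero fun k _ => if_neg (ha k)

theorem sum_ofFam {K B : Type*} [Fintype K] [Fintype B] {ι : K → B} (w : K → ℤ) (F : B → ℂ) :
    ∑ a, (ofFam ι w a : ℂ) * F a = ∑ k, (w k : ℂ) * F (ι k) := by
  simp only [ofFam, Int.cast_sum, Finset.sum_mul, apply_ite (Int.cast : ℤ → ℂ), Int.cast_zero,
    ite_mul, zero_mul]
  rw [Finset.sum_comm]
  exact Finset.sum_congr rfl fun k _ => by simp

theorem sum_ofFam' {K B : Type*} [Fintype K] [Fintype B] {ι : K → B} (w : K → ℤ) (F : B → ℤ) :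
    ∑ a, ofFam ι w a * F a = ∑ k, w k * F (ι k) := by
  simp only [ofFam, Finset.sum_mul, ite_mul, zero_mul]
  rw [Finset.sum_comm]
  exact Finset.sum_congr rfl fun k _ => by simp

/-- **The vectors of the centralizer.** -/
theorem exists_local [Fact (Nat.Prime 3)] (hM : IsPModular 3 M) {P : Sylow 3 G} {z : G}
    (h : Data P z) (hc : ∀ g : G, g * z = z * g) {e r : ℕ}
    (he : ((P : Subgroup G) ⊔ Subgroup.centralizer ((P : Subgroup G) : Set G)).relIndex
      (Subgroup.normalizer ((P : Subgroup G) : Set G)) = e) (he2 : e = 2 ∨ e = 4 ∨ e = 8)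
    (hre : r * e = 8) {u : Fin r → G} (hu : ∀ q, u q ∈ P)
    (hu' : ∀ q, u q ∉ Subgroup.zpowers z) (hinj : ∀ q q', IsConj (u q) (u q') → q = q')
    (hcov : ∀ x ∈ P, x ∉ Subgroup.zpowers z → ∃ q, IsConj x (u q)) (q₀ : Fin r) :
    ∃ (l : ℕ) (n φ : Fin l → ↥(principalBlock M G) → ℤ)
      (X : Fin r → ↥(principalBlock M G) → ℤ),
      l + r = 6 ∧ Cfsg.blockRank 3 (principalBlock M G) = l ∧
      (∀ j (g : G), IsPRegular 3 g → ∑ a : ↥(principalBlock M G),
        (n j a : ℂ) * ((a : IrrCharacter G) : G → ℂ) g = 0) ∧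
      (∀ j (g : G), IsPRegular 3 g → ∑ a : ↥(principalBlock M G),
        (φ j a : ℂ) * ((a : IrrCharacter G) : G → ℂ) g = 0) ∧
      (∀ i j, ∑ a, n i a * n j a = if i = j then 2 else 0) ∧
      (∀ i j, i ≠ j → ∑ a, φ i a * n j a = 0) ∧
      (∀ j, ∑ a, φ j a * n j a = 1 ∨ ∑ a, φ j a * n j a = -1) ∧
      (∀ i j, ∑ a, φ i a * φ j a = if i = j then 3 else 1) ∧
      (∀ j q, ∑ a : ↥(principalBlock M G),
        (n j a : ℂ) * ((a : IrrCharacter G) : G → ℂ) (u q) = 0) ∧
      (∀ j q, ∑ a : ↥(principalBlock M G),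
        (φ j a : ℂ) * ((a : IrrCharacter G) : G → ℂ) (u q) = if q = q₀ then -3 else 0) ∧
      (∀ q (g : G), (∀ q' (c : G), ¬ IsPPart 3 g (c * u q' * c⁻¹)) →
        ∑ a : ↥(principalBlock M G), (X q a : ℂ) * ((a : IrrCharacter G) : G → ℂ) g = 0) ∧
      ∀ c : ↥(principalBlock M G) → ℂ, (∀ g : G, IsPRegular 3 g → ∑ a : ↥(principalBlock M G),
          c a * ((a : IrrCharacter G) : G → ℂ) g = 0) →
        ∃ α β : Fin l → ℂ, ∃ γ : Fin r → ℂ, ∀ a,
          c a = ∑ j, α j * (n j a : ℂ) + ∑ j, β j * (φ j a : ℂ) + ∑ q, γ q * (X q a : ℂ) := by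
  haveI := hM.2.1
  have he3 : ¬ 3 ∣ e := by rcases he2 with rfl | rfl | rfl <;> norm_num
  have he2' : 2 ∣ e := by rcases he2 with rfl | rfl | rfl <;> norm_num
  have hr : r = 1 ∨ r = 2 ∨ r = 4 := by rcases he2 with rfl | rfl | rfl <;> omega
  have hZc : Subgroup.zpowers z ≤ Subgroup.center G :=
    Subgroup.zpowers_le.2 (Subgroup.mem_center_iff.2 hc)
  haveI : (Subgroup.zpowers z).Normal := ⟨fun w hw g => by
    rw [Subgroup.mem_center_iff.1 (hZc hw) g, mul_inv_cancel_right]; exact hw⟩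
  haveI := Fintype.ofFinite (G ⧸ Subgroup.zpowers z)
  have hZ3 : Nat.card (Subgroup.zpowers z) = 3 := by rw [Nat.card_zpowers, h.orderOf_z]
  have hZp : IsPGroup 3 (Subgroup.zpowers z) := IsPGroup.of_card (n := 1) (by rw [hZ3, pow_one])
  haveI : Nonempty (Fin r) := ⟨q₀⟩
  obtain ⟨hpowbar, hinjbar, hnebar, hcovbar⟩ := h.classes_quotient hu hu' hinj hcov
  obtain ⟨ybar, hybar⟩ : ∃ ybar : Fin r → G ⧸ Subgroup.zpowers z,
      ybar = fun q => QuotientGroup.mk (u q) := ⟨_, rfl⟩
  have hy1 : ∀ q, ybar q ≠ 1 := fun q he' => hu' q ((QuotientGroup.eq_one_iff _).1 (by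
    rw [← he', hybar]))
  have hord : ∀ q, orderOf (ybar q) = 3 := fun q => by
    refine orderOf_eq_prime ?_ (hy1 q)
    rw [hybar]
    show (QuotientGroup.mk (u q) : G ⧸ Subgroup.zpowers z) ^ 3 = 1
    rw [← QuotientGroup.mk_pow, h.exp _ (hu q), QuotientGroup.mk_one]
  have hcbar : ∀ q, Compl 3 (ybar q) 2 := fun q => by
    rw [hybar]; exact h.compl_quotient hc (hu q) (hu' q)
  have hinvbar : ∀ q, IsConj (ybar q) (ybar q)⁻¹ := fun q => by
    rw [hybar]
    exact (QuotientGroup.mk' (Subgroup.zpowers z)).map_isConj (h.isConj_inv he he3 he2' (hu q) (hu' q))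
  have hcovbar' : ∀ g : G ⧸ Subgroup.zpowers z, (∃ k : ℕ, orderOf g = 3 ^ k) →
      g = 1 ∨ ∃ q, IsConj g (ybar q) := by rw [hybar]; exact hcovbar
  obtain ⟨x, hx, hgram, -, -, hshape⟩ := exists_columns hM ybar hord hinvbar hcbar
    (by rw [hybar]; exact hinjbar)
  have h3Q : 3 ∣ Nat.card (G ⧸ Subgroup.zpowers z) := hord q₀ ▸ orderOf_dvd_natCard (ybar q₀)
  have hcover := shape_cover hM h3Q ybar hord hcbar hcovbar' hx
  have hpowy : ∀ q, ∃ k : ℕ, orderOf (ybar q) = 3 ^ k := fun q => ⟨1, by rw [hord, pow_one]⟩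
  -- orthogonality of the columns to the regular values
  have hreg0 : ∀ q (t : G ⧸ Subgroup.zpowers z), IsPRegular 3 t →
      ∑ k : ↥(principalBlock M (G ⧸ Subgroup.zpowers z)),
        (x q k : ℂ) * ((k : IrrCharacter (G ⧸ Subgroup.zpowers z)) : G ⧸ Subgroup.zpowers z → ℂ) t = 0 := by
    intro q t ht
    have h1 : IsPRegular 3 (1 : Subgroup.centralizer ({ybar q} : Set (G ⧸ Subgroup.zpowers z))) :=
      CfsgLib.PerfIso.isPRegular_one
    have hmem : t ∈ Subgroup.centralizer ({(1 : G ⧸ Subgroup.zpowers z)} : Set _) :=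
      Subgroup.mem_centralizer_singleton_iff.2 (by simp)
    have h0 := sum_translate_ne hM (hpowy q) (y' := 1) ⟨0, by simp⟩
      (fun hconj => hy1 q (isConj_one_left.1 hconj)) h1
      (t := ⟨t, hmem⟩) (by rw [IsPRegular, Subgroup.orderOf_mk]; exact ht)
    rw [sum_block] at h0
    simp only [OneMemClass.coe_one, mul_one, one_mul, hx] at h0
    have h2 := congrArg conj h0
    rw [map_sum, map_zero] at h2
    rw [← h2]
    exact Finset.sum_congr rfl fun k _ => by rw [map_mul, Complex.conj_conj, map_intCast]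
  have hsing : ∀ t : G ⧸ Subgroup.zpowers z, ¬ IsPRegular 3 t →
      ∃ q, ∀ k : ↥(principalBlock M (G ⧸ Subgroup.zpowers z)),
        ((k : IrrCharacter (G ⧸ Subgroup.zpowers z)) : G ⧸ Subgroup.zpowers z → ℂ) t = (x q k : ℂ) := by
    intro t ht
    obtain ⟨y₁, hy₁⟩ := CfsgLib.Blocks.exists_isPPart (p := 3) Fact.out t
    rcases hcovbar' y₁ (by obtain ⟨_, -, -, h', -⟩ := hy₁; exact h') with h1 | ⟨q, hq⟩
    · obtain ⟨s₁, hs₁, -, -, hreg⟩ := hy₁
      refine absurd ?_ ht
      rw [← hs₁, h1, one_mul]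
      exact hreg
    obtain ⟨c, hc'⟩ := isConj_iff.1 hq
    have hy₂ := CfsgLib.Blocks.IsPPart.conj hy₁ c
    rw [hc'] at hy₂
    obtain ⟨s, hse, hcomm, -, hs⟩ := hy₂
    refine ⟨q, fun k => ?_⟩
    have hmem : s ∈ Subgroup.centralizer ({ybar q} : Set (G ⧸ Subgroup.zpowers z)) :=
      Subgroup.mem_centralizer_singleton_iff.2 hcomm.eq.symm
    rw [← (CfsgLib.Char.IsIrrCharacter.isClassFunction k.1.2 t c), ← hse,
      show s = ((⟨s, hmem⟩ : Subgroup.centralizer ({ybar q} : Set _)) : G ⧸ Subgroup.zpowers z)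
        from rfl,
      principal_translate_const hM (hpowy q) (hcbar q) k.2 (by
        rw [Cfsg.IsPRegular, Subgroup.orderOf_mk]; exact hs), hx]
  -- the inflations
  have hiff := principal_infl_iff (M := M) (Subgroup.zpowers z) hM hZc hZp
  obtain ⟨ι, hι⟩ : ∃ ι : ↥(principalBlock M (G ⧸ Subgroup.zpowers z)) → ↥(principalBlock M G),
      ∀ k, (ι k : IrrCharacter G) = infl (Subgroup.zpowers z) k.1 :=
    ⟨fun k => ⟨_, (hiff k.1).1 k.2⟩, fun _ => rfl⟩
  have hιinj : Function.Injective ι := fun k k' e' =>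
    Subtype.ext (infl_injective _ (by rw [← hι, ← hι, e']))
  have hιval : ∀ k (g : G), ((ι k : IrrCharacter G) : G → ℂ) g =
      ((k : IrrCharacter (G ⧸ Subgroup.zpowers z)) : G ⧸ Subgroup.zpowers z → ℂ) (QuotientGroup.mk g) := fun k g => by
    rw [hι]; rfl
  have hιom : ∀ k, om z (ι k : IrrCharacter G) = 1 := fun k => by rw [hι]; exact om_infl z _
  obtain ⟨σ₀, hσinj, hσom, hσreg, hσmem⟩ := exists_sigma hM hc h.orderOf_z
  obtain ⟨σ, hσ⟩ : ∃ σ : ↥(principalBlock M G) → ↥(principalBlock M G),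
      ∀ a, (σ a : IrrCharacter G) = σ₀ a := ⟨fun a => ⟨_, hσmem a a.2⟩, fun _ => rfl⟩
  have hσi : Function.Injective σ := fun a a' e' => Subtype.ext (hσinj (by rw [← hσ, ← hσ, e']))
  obtain ⟨ζ, hζ⟩ : ∃ ζ : ℂ, IsPrimitiveRoot ζ 3 := ⟨_, Complex.isPrimitiveRoot_exp 3 (by norm_num)⟩
  have hζ1 : ζ ≠ 1 := hζ.ne_one (by norm_num)
  have hζ3 : ζ ^ 3 = 1 := hζ.pow_eq_one
  have hζ2 : ζ ^ 2 ≠ 1 := hζ.pow_ne_one_of_pos_of_lt (by norm_num) (by norm_num)
  have hζ12 : ζ ≠ ζ ^ 2 := fun e' => hζ2 (by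
    have : ζ * ζ = ζ * 1 := by rw [mul_one, ← sq]; exact e'.symm
    rw [sq, this, mul_one]
    exact absurd (mul_left_cancel₀ (hζ.ne_zero (by norm_num)) this) hζ1)
  set bp : Finset ↥(principalBlock M G) := Finset.filter
    (fun a : ↥(principalBlock M G) => om z (a : IrrCharacter G) = ζ) Finset.univ with hbp
  set bm : Finset ↥(principalBlock M G) := Finset.filter
    (fun a : ↥(principalBlock M G) => om z (a : IrrCharacter G) = ζ ^ 2) Finset.univ with hbm
  have hpm : ∀ a ∈ bp, σ a ∈ bm := fun a ha => by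
    rw [hbm, Finset.mem_filter]
    refine ⟨Finset.mem_univ _, ?_⟩
    rw [hσ, hσom, (Finset.mem_filter.1 ha).2]
  have hmp : ∀ a ∈ bm, σ a ∈ bp := fun a ha => by
    rw [hbp, Finset.mem_filter]
    refine ⟨Finset.mem_univ _, ?_⟩
    rw [hσ, hσom, (Finset.mem_filter.1 ha).2]
    linear_combination ζ * hζ3
  have hcardpm : bm.card = bp.card := le_antisymm
    (Finset.card_le_card_of_injOn σ (fun a ha => hmp a ha) hσi.injOn)
    (Finset.card_le_card_of_injOn σ (fun a ha => hpm a ha) hσi.injOn)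
  obtain ⟨aj, haj, hajinj, hajsurj⟩ : ∃ aj : Fin bp.card → ↥(principalBlock M G),
      (∀ j, aj j ∈ bp) ∧ Function.Injective aj ∧ ∀ a ∈ bp, ∃ j, aj j = a :=
    ⟨fun j => (bp.equivFin.symm j).1, fun j => (bp.equivFin.symm j).2,
      fun i j e' => bp.equivFin.symm.injective (Subtype.ext e'),
      fun a ha => ⟨bp.equivFin ⟨a, ha⟩, by simp⟩⟩
  have hbmeq : bm = bp.image σ := (Finset.eq_of_subset_of_card_le
    (fun a ha => by obtain ⟨b, hb, rfl⟩ := Finset.mem_image.1 ha; exact hpm b hb)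
    (by rw [Finset.card_image_of_injective _ hσi, hcardpm])).symm
  let Ψ : ↥(principalBlock M (G ⧸ Subgroup.zpowers z)) ⊕ (Fin bp.card ⊕ Fin bp.card) →
      ↥(principalBlock M G) := Sum.elim ι (Sum.elim aj fun j => σ (aj j))
  have homp : ∀ j, om z (aj j : IrrCharacter G) = ζ := fun j => (Finset.mem_filter.1 (haj j)).2
  have homm : ∀ j, om z (σ (aj j) : IrrCharacter G) = ζ ^ 2 := fun j =>
    (Finset.mem_filter.1 (hpm _ (haj j))).2
  have hne1 : ∀ k j, ι k ≠ aj j := fun k j e' => hζ1 (by rw [← homp j, ← e', hιom])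
  have hne2 : ∀ k j, ι k ≠ σ (aj j) := fun k j e' => hζ2 (by rw [← homm j, ← e', hιom])
  have hne3 : ∀ i j, aj i ≠ σ (aj j) := fun i j e' => hζ12 (by rw [← homm j, ← e', homp i])
  have hΨ : Function.Bijective Ψ := by
    constructor
    · rintro (k | i | i) (k' | j | j) e' <;> simp only [Ψ, Sum.elim_inl, Sum.elim_inr] at e'
      · rw [hιinj e']
      · exact absurd e' (hne1 k j)
      · exact absurd e' (hne2 k j)
      · exact absurd e'.symm (hne1 k' i)
      · rw [hajinj e']
      · exact absurd e' (hne3 i j)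
      · exact absurd e'.symm (hne2 k' i)
      · exact absurd e'.symm (hne3 j i)
      · rw [hajinj (hσi e')]
    · intro a
      rcases om_cases hζ hc (h.exp z h.zmem) (a : IrrCharacter G) with h1 | h1 | h1
      · obtain ⟨η, hη⟩ := exists_infl_of_om hc _ h1
        have hmem : η ∈ principalBlock M (G ⧸ Subgroup.zpowers z) := (hiff η).2 (hη ▸ a.2)
        exact ⟨Sum.inl ⟨η, hmem⟩, Subtype.ext ((hι _).trans hη)⟩
      · obtain ⟨j, hj⟩ := hajsurj a (Finset.mem_filter.2 ⟨Finset.mem_univ _, h1⟩)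
        exact ⟨Sum.inr (Sum.inl j), hj⟩
      · obtain ⟨b, hb, hba⟩ := Finset.mem_image.1
          (hbmeq ▸ Finset.mem_filter.2 ⟨Finset.mem_univ _, h1⟩ : a ∈ bp.image σ)
        obtain ⟨j, hj⟩ := hajsurj b hb
        exact ⟨Sum.inr (Sum.inr j), (congrArg σ hj).trans hba⟩
  have hsplit : ∀ F : ↥(principalBlock M G) → ℤ,
      ∑ a, F a = ∑ k, F (ι k) + (∑ j, F (aj j) + ∑ j, F (σ (aj j))) := fun F => by
    rw [← Fintype.sum_bijective Ψ hΨ (fun t => F (Ψ t)) F (fun _ => rfl), Fintype.sum_sum_type,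
      Fintype.sum_sum_type]
    rfl
  -- the counts
  have hcardb : Fintype.card ↥(principalBlock M G) =
      Fintype.card ↥(principalBlock M (G ⧸ Subgroup.zpowers z)) + (bp.card + bp.card) := by
    rw [← Fintype.card_of_bijective hΨ, Fintype.card_sum, Fintype.card_sum, Fintype.card_fin]
  set lb := Cfsg.blockRank 3 (principalBlock M G) with hlb
  have hkbar : Fintype.card ↥(principalBlock M (G ⧸ Subgroup.zpowers z)) = lb + r := by
    have hyinj : Function.Injective ybar := fun q q' e' => hinjbar q q' (by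
      rw [show (QuotientGroup.mk (u q) : G ⧸ Subgroup.zpowers z) = ybar q by rw [hybar],
        show (QuotientGroup.mk (u q') : G ⧸ Subgroup.zpowers z) = ybar q' by rw [hybar], e'])
    have hnot : (1 : G ⧸ Subgroup.zpowers z) ∉ Finset.univ.image ybar := fun hmem => by
      obtain ⟨q, -, e'⟩ := Finset.mem_image.1 hmem
      exact hy1 q e'
    rw [← Nat.card_eq_fintype_card, principal_card hM (insert 1 (Finset.univ.image ybar)) (by
      intro t ht
      rcases Finset.mem_insert.1 ht with rfl | ht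
      · exact ⟨0, by simp⟩
      · obtain ⟨q, -, rfl⟩ := Finset.mem_image.1 ht; exact hpowy q) ?_,
      Finset.sum_insert hnot, principal_blockRank_central hM (fun g => by simp),
      Finset.sum_image fun q _ q' _ e' => hyinj e',
      Finset.sum_congr rfl fun q _ => principal_blockRank hM (hcbar q), Finset.sum_const,
      Finset.card_univ, Fintype.card_fin, smul_eq_mul, mul_one, hlb,
      principal_blockRank_quotient (M := M) (Subgroup.zpowers z) hM hZc hZp]
    intro g hg
    rcases hcovbar' g hg with rfl | ⟨q, hq⟩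
    · refine ⟨1, ⟨Finset.mem_insert_self _ _, IsConj.refl _⟩, ?_⟩
      rintro t ⟨-, ht'⟩
      exact isConj_one_right.1 ht'
    · refine ⟨ybar q, ⟨Finset.mem_insert_of_mem (Finset.mem_image_of_mem _ (Finset.mem_univ q)), hq⟩,
        ?_⟩
      rintro t ⟨ht, ht'⟩
      rcases Finset.mem_insert.1 ht with rfl | ht
      · exact absurd (isConj_one_left.1 (hq.symm.trans ht')) (hy1 q)
      · obtain ⟨q', -, rfl⟩ := Finset.mem_image.1 ht
        rw [hinjbar q' q (by rw [hybar] at hq ht'; exact ht'.symm.trans hq)]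
  have hkb : Fintype.card ↥(principalBlock M G) = lb + lb + lb + r := by
    obtain ⟨hXpow, hXrep⟩ := h.classes hu hu' hinj hcov
    have hdis : Disjoint ({1, z, z⁻¹} : Finset G) (Finset.univ.image u) := by
      rw [Finset.disjoint_left]
      intro a ha ha'
      obtain ⟨q, -, rfl⟩ := Finset.mem_image.1 ha'
      simp only [Finset.mem_insert, Finset.mem_singleton] at ha
      exact hu' q (by
        rcases ha with e' | e' | e' <;> rw [e']
        exacts [one_mem _, Subgroup.mem_zpowers _, inv_mem (Subgroup.mem_zpowers _)])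
    rw [← Nat.card_eq_fintype_card, principal_card hM _ hXpow hXrep, Finset.sum_union hdis,
      Finset.sum_insert (by simp [h.zne.symm, (inv_ne_one.2 h.zne).symm]),
      Finset.sum_pair h.z_ne_inv.symm, principal_blockRank_central hM (fun g => by simp),
      principal_blockRank_central hM hc,
      principal_blockRank_central hM (fun g => ((Commute.inv_right (show Commute g z from hc g))).eq),
      Finset.sum_image (g := u) (fun q _ q' _ (e' : u q = u q') => hinj q q' (e' ▸ IsConj.refl _)),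
      Finset.sum_congr rfl fun q _ => principal_blockRank hM (h.compl (hu q) (hu' q)),
      Finset.sum_const, Finset.card_univ, Fintype.card_fin, smul_eq_mul, mul_one, hlb]
    ring
  have hlp : bp.card = lb := by omega
  -- products with the vanishing functions
  have hdecgram : ∀ {O : Type u} (Pv : O → ↥(principalBlock M (G ⧸ Subgroup.zpowers z)) → ℤ),
      (∀ o q, ∑ k, Pv o k * x q k = 0) →
      ∃ w : ↥(principalBlock M G) → ↥(principalBlock M (G ⧸ Subgroup.zpowers z)) → ℤ,
        (∀ a : ↥(principalBlock M G), ∀ g : G, IsPRegular 3 g →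
          ((a : IrrCharacter G) : G → ℂ) g = ∑ k : ↥(principalBlock M (G ⧸ Subgroup.zpowers z)),
            (w a k : ℂ) * ((k : IrrCharacter (G ⧸ Subgroup.zpowers z)) : G ⧸ Subgroup.zpowers z → ℂ) (QuotientGroup.mk g)) ∧
        ∀ o o', ∑ j, (∑ k, w (aj j) k * Pv o k) * (∑ k, w (aj j) k * Pv o' k) =
          ∑ k, Pv o k * Pv o' k := by
    intro O Pv hPv
    have hvan : ∀ o (t : G ⧸ Subgroup.zpowers z), ¬ IsPRegular 3 t →
        ∑ k : ↥(principalBlock M (G ⧸ Subgroup.zpowers z)),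
          (Pv o k : ℂ) * ((k : IrrCharacter (G ⧸ Subgroup.zpowers z)) : G ⧸ Subgroup.zpowers z → ℂ) t = 0 := by
      intro o t ht
      obtain ⟨q, hq⟩ := hsing t ht
      have key : ((∑ k, Pv o k * x q k : ℤ) : ℂ) = 0 := by rw [hPv, Int.cast_zero]
      rw [← key]
      push_cast
      exact Finset.sum_congr rfl fun k _ => by rw [hq k]
    obtain ⟨w, hw, hsame, hinfl, hsum⟩ := exists_dec hM (Subgroup.zpowers z) hZc hZ3 Pv hvan
    refine ⟨w, hw, fun o o' => ?_⟩
    have h1 := hsum o o'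
    rw [hsplit, Finset.sum_congr rfl (g := fun k => Pv o k * Pv o' k) (fun k _ => by
      rw [hinfl (ι k) k (hι k), hinfl (ι k) k (hι k)])] at h1
    rw [Finset.sum_congr rfl (s₁ := (Finset.univ : Finset (Fin bp.card)))
      (f := fun j => (∑ η, w (σ (aj j)) η * Pv o η) * ∑ η, w (σ (aj j)) η * Pv o' η)
      (g := fun j => (∑ η, w (aj j) η * Pv o η) * ∑ η, w (aj j) η * Pv o' η) (fun j _ => by
        have hs : ∀ g : G, IsPRegular 3 g → ((σ (aj j) : IrrCharacter G) : G → ℂ) g =
            ((aj j : IrrCharacter G) : G → ℂ) g := fun g hg => by rw [hσ]; exact hσreg _ g hg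
        rw [hsame _ _ hs o, hsame _ _ hs o'])] at h1
    linarith
  rcases hshape with ⟨zK, O, hS⟩ | ⟨hr1, hnine⟩
  swap
  · -- no column with nine units
    exfalso
    rw [Fintype.card_fin] at hr1
    have hall : ∀ k, x q₀ k ≠ 0 := fun k => by
      obtain ⟨q, hq⟩ := hcover k
      rwa [show q₀ = q from Fin.ext (by omega)]
    have hK9 : Fintype.card ↥(principalBlock M (G ⧸ Subgroup.zpowers z)) = 9 := by
      rw [← (hnine q₀).2, Finset.filter_true_of_mem fun k _ => hall k, Finset.card_univ]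
    obtain ⟨k₀⟩ : Nonempty ↥(principalBlock M (G ⧸ Subgroup.zpowers z)) :=
      Fintype.card_pos_iff.1 (by omega)
    have hsq : ∀ k, x q₀ k * x q₀ k = 1 := fun k => by
      rcases (hnine q₀).1 k with e' | e' | e'
      · exact absurd e' (hall k)
      all_goals simp [e']
    obtain ⟨w, -, hwg⟩ := hdecgram
      (fun (i : {k // k ≠ k₀}) k => (if k = i.1 then x q₀ k else 0) - (if k = k₀ then x q₀ k else 0))
      (fun i q => by
        rw [show q = q₀ from Fin.ext (by omega)]
        simp [sub_mul, Finset.sum_sub_distrib, ite_mul, hsq])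
    refine false_of_star (fun (j : Fin bp.card) (i : {k // k ≠ k₀}) => ∑ k, w (aj j) k *
      ((if k = i.1 then x q₀ k else 0) - (if k = k₀ then x q₀ k else 0))) (fun i i' => ?_) ?_ ?_
    · rw [hwg]
      by_cases hii : i = i'
      · subst hii
        simp [sub_mul, Finset.sum_sub_distrib, ite_mul, hsq, i.2, i.2.symm]
      · have hne' : i.1 ≠ i'.1 := fun e' => hii (Subtype.ext e')
        simp [sub_mul, Finset.sum_sub_distrib, ite_mul, hsq, hii, i.2, i.2.symm, i'.2, i'.2.symm,
          hne', hne'.symm]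
    · rw [Fintype.card_subtype_compl, Fintype.card_subtype_eq]; omega
    · rw [Fintype.card_subtype_compl, Fintype.card_subtype_eq, Fintype.card_fin]; omega
  -- the shape
  have hO : O.card + r = 6 := by have := hS.card; rwa [Fintype.card_fin] at this
  have hsupp : ∀ k, k ∈ O ∨ ∃ q, zK q = k := fun k => by
    by_contra hcon
    push Not at hcon
    obtain ⟨q, hq⟩ := hcover k
    exact hq (hS.zero k hcon.1 hcon.2 q)
  have hK6 : Fintype.card ↥(principalBlock M (G ⧸ Subgroup.zpowers z)) = 6 := by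
    have : (Finset.univ : Finset ↥(principalBlock M (G ⧸ Subgroup.zpowers z))) =
        O ∪ Finset.univ.image zK := (Finset.eq_univ_of_forall fun k => by
      rcases hsupp k with hk | ⟨q, rfl⟩
      · exact Finset.mem_union_left _ hk
      · exact Finset.mem_union_right _ (Finset.mem_image_of_mem _ (Finset.mem_univ q))).symm
    rw [← Finset.card_univ, this, Finset.card_union_of_disjoint, Finset.card_image_of_injective _
      hS.zinj, Finset.card_univ, Fintype.card_fin, hO]
    rw [Finset.disjoint_left]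
    intro k hk hk'
    obtain ⟨q, -, rfl⟩ := Finset.mem_image.1 hk'
    exact hS.notMem q hk
  have hlO : bp.card = O.card := by omega
  obtain ⟨Pv, hPx, hcomplete, hdual⟩ := exists_dual hS q₀ (by rw [Fintype.card_fin]; exact hr)
  obtain ⟨w, hw, hwg⟩ := hdecgram Pv hPx
  obtain ⟨f, η, hf, hη, hfD⟩ := hdual (fun (j : Fin bp.card) o => ∑ k, w (aj j) k * Pv o k)
    (by rw [Fintype.card_fin, hlO]) hwg
  have hfb : Function.Bijective f := (Fintype.bijective_iff_injective_and_card f).2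
    ⟨hf, by rw [Fintype.card_coe, Fintype.card_fin, hlO]⟩
  obtain ⟨oj, hoj⟩ : ∃ oj : Fin bp.card → O, ∀ j, f (oj j) = j :=
    ⟨fun j => (hfb.2 j).choose, fun j => (hfb.2 j).choose_spec⟩
  have hojinj : Function.Injective oj := fun i j e' => by rw [← hoj i, ← hoj j, e']
  obtain ⟨t, ht_def⟩ : ∃ t : Fin bp.card → ↥(principalBlock M (G ⧸ Subgroup.zpowers z)) → ℤ,
      t = fun j => tvec x zK q₀ (oj j : _) := ⟨_, rfl⟩
  obtain ⟨ε, hε_def⟩ : ∃ ε : Fin bp.card → ℤ, ε = fun j => η (oj j) := ⟨_, rfl⟩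
  have hε : ∀ j, ε j = 1 ∨ ε j = -1 := fun j => by rw [hε_def]; exact hη _
  have hεε : ∀ j, ε j * ε j = 1 := fun j => by rcases hε j with e' | e' <;> rw [e'] <;> ring
  have hD : ∀ j o', ∑ k, w (aj j) k * Pv o' k = ε j * ∑ k, Pv o' k * t j k := fun j o' => by
    have h1 := hfD (oj j) o'
    rw [hoj] at h1
    rw [h1, hε_def, ht_def]
  -- the vectors
  let nv : Fin bp.card → ↥(principalBlock M G) → ℤ := fun j a =>
    (if a = aj j then 1 else 0) - (if a = σ (aj j) then 1 else 0)
  let φv : Fin bp.card → ↥(principalBlock M G) → ℤ := fun j a =>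
    (if a = aj j then ε j else 0) - ofFam ι (t j) a
  let Xv : Fin r → ↥(principalBlock M G) → ℤ := fun q => ofFam ι (x q)
  have hnι : ∀ j k, nv j (ι k) = 0 := fun j k => by simp [nv, hne1 k j, hne2 k j]
  have hnp : ∀ i j, nv i (aj j) = if i = j then 1 else 0 := fun i j => by
    by_cases e' : i = j
    · subst e'; simp [nv, hne3 i i]
    · simp [nv, e', hne3 j i, hajinj.ne (Ne.symm e')]
  have hnm : ∀ i j, nv i (σ (aj j)) = if i = j then -1 else 0 := fun i j => by
    by_cases e' : i = j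
    · subst e'; simp [nv, (hne3 i i).symm]
    · simp [nv, e', (hne3 i j).symm, hσi.ne (hajinj.ne (Ne.symm e'))]
  have hφι : ∀ j k, φv j (ι k) = -(t j k) := fun j k => by
    simp [φv, hne1 k j, ofFam_apply hιinj]
  have hφp : ∀ i j, φv i (aj j) = if i = j then ε i else 0 := fun i j => by
    have h0 := ofFam_eq_zero (ι := ι) (t i) (a := aj j) fun k => hne1 k j
    by_cases e' : i = j
    · subst e'; simp [φv, h0]
    · simp [φv, h0, e', hajinj.ne (Ne.symm e')]
  have hφm : ∀ i j, φv i (σ (aj j)) = 0 := fun i j => by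
    have h0 := ofFam_eq_zero (ι := ι) (t i) (a := σ (aj j)) fun k => hne2 k j
    simp [φv, h0, (hne3 i j).symm]
  have hXι : ∀ q k, Xv q (ι k) = x q k := fun q k => ofFam_apply hιinj _ k
  have hXp : ∀ q j, Xv q (aj j) = 0 := fun q j => ofFam_eq_zero _ fun k => hne1 k j
  have hXm : ∀ q j, Xv q (σ (aj j)) = 0 := fun q j => ofFam_eq_zero _ fun k => hne2 k j
  have hnsum : ∀ j (F : ↥(principalBlock M G) → ℂ),
      ∑ a, (nv j a : ℂ) * F a = F (aj j) - F (σ (aj j)) := fun j F => by
    simp [nv, sub_mul, Finset.sum_sub_distrib]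
  have hφsum : ∀ j (F : ↥(principalBlock M G) → ℂ),
      ∑ a, (φv j a : ℂ) * F a = (ε j : ℂ) * F (aj j) - ∑ k, (t j k : ℂ) * F (ι k) := fun j F => by
    rw [← sum_ofFam (ι := ι) (t j) F]
    simp [φv, sub_mul, Finset.sum_sub_distrib, apply_ite (Int.cast : ℤ → ℂ), ite_mul]
  have htvec : ∀ j (v : ↥(principalBlock M (G ⧸ Subgroup.zpowers z)) → ℤ),
      ∑ k, v k * t j k =
        v (oj j : _) * x q₀ (oj j : _) + v (zK q₀) * (x q₀ (zK q₀) / 2) := fun j v => by
    rw [ht_def]; exact sum_mul_tvec x zK q₀ _ v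
  have hunit : ∀ (o : O) q, x q (o : _) * x q₀ (o : _) = 1 := fun o q => by
    rcases hS.ord o o.2 with e' | e' <;> simp [e' q, e' q₀]
  have hzne : ∀ (o : O) q, zK q ≠ (o : _) := fun o q e' => hS.notMem q (e' ▸ o.2)
  have huval : ∀ (q : Fin r) (a : ↥(principalBlock M G)), om z (a : IrrCharacter G) ≠ 1 →
      ((a : IrrCharacter G) : G → ℂ) (u q) = 0 := by
    intro q a ha
    obtain ⟨c, hc'⟩ := isConj_iff.1 (h.isConj_mul (hu q) (hu' q) (Subgroup.mem_zpowers z))
    have h1 := CfsgLib.Char.IsIrrCharacter.isClassFunction (a : IrrCharacter G).2 (u q) c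
    rw [hc', om_mul_apply hc] at h1
    have h2 : (om z (a : IrrCharacter G) - 1) * ((a : IrrCharacter G) : G → ℂ) (u q) = 0 := by
      linear_combination h1
    exact (mul_eq_zero.1 h2).resolve_left (sub_ne_zero.2 ha)
  refine ⟨bp.card, nv, φv, Xv, by omega, hlp.symm, fun j g hg => ?_, fun j g hg => ?_, fun i j => ?_,
    fun i j hij => ?_, fun j => ?_, fun i j => ?_, fun j q => ?_, fun j q => ?_, fun q g hg => ?_,
    fun c hc0 => ?_⟩
  · rw [hnsum j fun a => ((a : IrrCharacter G) : G → ℂ) g, hσ, hσreg _ g hg, sub_self]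
  · -- the lifts vanish at regular elements
    rw [hφsum j fun a => ((a : IrrCharacter G) : G → ℂ) g, hw (aj j) g hg]
    simp only [hιval]
    obtain ⟨α, hα⟩ := hcomplete
      (fun k => ((ε j * w (aj j) k - t j k : ℤ) : ℂ)) fun o => by
        have key : ((∑ k, Pv o k * (ε j * w (aj j) k - t j k) : ℤ) : ℂ) = 0 := by
          have h1 : ∑ k, Pv o k * (ε j * w (aj j) k - t j k) =
              ε j * ∑ k, w (aj j) k * Pv o k - ∑ k, Pv o k * t j k := by
            rw [Finset.mul_sum, ← Finset.sum_sub_distrib]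
            exact Finset.sum_congr rfl fun k _ => by ring
          rw [h1, hD, ← mul_assoc, hεε, one_mul, sub_self, Int.cast_zero]
        rw [← key]
        push_cast
        rfl
    rw [Finset.mul_sum, ← Finset.sum_sub_distrib]
    set tb : G ⧸ Subgroup.zpowers z := QuotientGroup.mk g
    rw [Finset.sum_congr rfl fun k _ => show (ε j : ℂ) * ((w (aj j) k : ℂ) *
        ((k : IrrCharacter (G ⧸ Subgroup.zpowers z)) : G ⧸ Subgroup.zpowers z → ℂ) tb) - (t j k : ℂ) * ((k : IrrCharacter (G ⧸ Subgroup.zpowers z)) : G ⧸ Subgroup.zpowers z → ℂ) tb =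
      ∑ q, α q * ((x q k : ℂ) * ((k : IrrCharacter (G ⧸ Subgroup.zpowers z)) : G ⧸ Subgroup.zpowers z → ℂ) tb) by
        have h1 := hα k (hcover k)
        push_cast at h1
        rw [← mul_assoc, ← sub_mul, h1, Finset.sum_mul]
        exact Finset.sum_congr rfl fun q _ => by ring, Finset.sum_comm]
    refine Finset.sum_eq_zero fun q _ => ?_
    rw [← Finset.mul_sum, hreg0 q tb (CfsgLib.Blocks.regular_mk _ hg), mul_zero]
  · rw [hsplit]
    simp only [hnι, hnp, hnm]
    by_cases e' : i = j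
    · subst e'; simp
    · simp [e']
  · rw [hsplit]
    simp only [hφι, hφp, hφm, hnι, hnp, hnm]
    simp [hij]
  · have h1 : ∑ a, φv j a * nv j a = ε j := by
      rw [hsplit]
      simp only [hφι, hφp, hφm, hnι, hnp, hnm]
      simp
    rw [h1]; exact hε j
  · rw [hsplit]
    simp only [hφι, hφp, hφm]
    simp only [neg_mul_neg, mul_zero, Finset.sum_const_zero, add_zero]
    have htt : ∑ k, t i k * t j k = if i = j then 2 else 1 := by
      rw [htvec]
      have h1 : t i (oj j : _) = if i = j then x q₀ (oj j : _) else 0 := by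
        rw [ht_def]
        by_cases e' : i = j
        · subst e'; simp [tvec, (hzne (oj i) q₀).symm]
        · have : ((oj j : _) : ↥(principalBlock M (G ⧸ Subgroup.zpowers z))) ≠ (oj i : _) :=
            fun e'' => e' (hojinj (Subtype.ext e'')).symm
          simp [tvec, this, e', (hzne (oj j) q₀).symm]
      have h2 : t i (zK q₀) = x q₀ (zK q₀) / 2 := by
        rw [ht_def]; simp [tvec, hzne (oj i) q₀]
      rw [h1, h2]
      have h3 : x q₀ (zK q₀) / 2 * (x q₀ (zK q₀) / 2) = 1 := by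
        rcases hS.two q₀ with e' | e' <;> rw [e'] <;> norm_num
      rw [h3]
      split_ifs
      · rw [hunit]; norm_num
      · norm_num
    rw [htt]
    by_cases e' : i = j
    · subst e'; simp [hεε]
    · simp [e', Ne.symm e']
  · rw [hnsum j fun a => ((a : IrrCharacter G) : G → ℂ) (u q),
      huval q _ (by rw [homp]; exact hζ1), huval q _ (by rw [homm]; exact hζ2), sub_zero]
  · rw [hφsum j fun a => ((a : IrrCharacter G) : G → ℂ) (u q), huval q _ (by rw [homp]; exact hζ1),
      mul_zero, zero_sub]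
    have h1 : ∑ k : ↥(principalBlock M (G ⧸ Subgroup.zpowers z)),
        (t j k : ℂ) * ((ι k : IrrCharacter G) : G → ℂ) (u q) =
        ((if q = q₀ then 3 else 0 : ℤ) : ℂ) := by
      have h2 : ∑ k, x q k * t j k = if q = q₀ then 3 else 0 := by
        rw [htvec, hunit]
        by_cases e' : q = q₀
        · subst e'
          rw [if_pos rfl]
          rcases hS.two q with e'' | e'' <;> rw [e''] <;> norm_num
        · rw [if_neg e']
          have h3 := hS.other q q₀ e'
          rcases hS.two q₀ with e'' | e'' <;> rw [e''] at h3 ⊢ <;> norm_num <;> omega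
      rw [← h2]
      push_cast
      refine Finset.sum_congr rfl fun k _ => ?_
      rw [hιval, show (QuotientGroup.mk (u q) : G ⧸ Subgroup.zpowers z) = ybar q by rw [hybar], hx,
        mul_comm]
    rw [h1]
    by_cases e' : q = q₀ <;> simp [e']
  · rw [sum_ofFam (ι := ι) (x q) fun a => ((a : IrrCharacter G) : G → ℂ) g]
    simp only [hιval]
    refine hreg0 q _ ?_
    obtain ⟨y₁, hy₁⟩ := CfsgLib.Blocks.exists_isPPart (p := 3) Fact.out g
    obtain ⟨xP, hxP, hyx⟩ := exists_conj_mem P (by obtain ⟨_, -, -, h', -⟩ := hy₁; exact h')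
    by_cases hxz : xP ∈ Subgroup.zpowers z
    · obtain ⟨s₁, hs₁, -, -, hreg⟩ := id hy₁
      have h1 : (QuotientGroup.mk y₁ : G ⧸ Subgroup.zpowers z) = 1 := by
        have h2 := (QuotientGroup.mk' (Subgroup.zpowers z)).map_isConj hyx
        rw [QuotientGroup.mk'_apply, QuotientGroup.mk'_apply,
          (QuotientGroup.eq_one_iff xP).2 hxz] at h2
        exact isConj_one_left.1 h2
      rw [← hs₁, QuotientGroup.mk_mul, h1, one_mul]
      exact CfsgLib.Blocks.regular_mk _ hreg
    · obtain ⟨q', hq'⟩ := hcov xP hxP hxz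
      obtain ⟨c, hc'⟩ := isConj_iff.1 (hyx.trans hq').symm
      exact absurd (hc' ▸ hy₁) (hg q' c)
  -- completeness
  obtain ⟨α, hα⟩ : ∃ α : Fin bp.card → ℂ, ∀ j, α j = -c (σ (aj j)) := ⟨_, fun _ => rfl⟩
  obtain ⟨β, hβ⟩ : ∃ β : Fin bp.card → ℂ, ∀ j, β j = (ε j : ℂ) * (c (aj j) + c (σ (aj j))) :=
    ⟨_, fun _ => rfl⟩
  obtain ⟨c', hc'⟩ : ∃ c' : ↥(principalBlock M G) → ℂ, ∀ a,
      c' a = c a - ∑ j, α j * (nv j a : ℂ) - ∑ j, β j * (φv j a : ℂ) := ⟨_, fun _ => rfl⟩
  have hεC : ∀ j, (ε j : ℂ) * (ε j : ℂ) = 1 := fun j => by exact_mod_cast hεε j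
  have hcp : ∀ j, c' (aj j) = 0 := fun j => by
    rw [hc']
    simp only [hnp, hφp, apply_ite (Int.cast : ℤ → ℂ), Int.cast_zero, Int.cast_one, mul_ite,
      mul_zero, mul_one, Finset.sum_ite_eq', Finset.mem_univ, if_true]
    rw [hα, hβ]
    linear_combination -(c (aj j) + c (σ (aj j))) * hεC j
  have hcm : ∀ j, c' (σ (aj j)) = 0 := fun j => by
    rw [hc']
    simp only [hnm, hφm, apply_ite (Int.cast : ℤ → ℂ), Int.cast_zero, Int.cast_neg, Int.cast_one,
      mul_ite, mul_zero, mul_neg, mul_one, Finset.sum_ite_eq', Finset.mem_univ, if_true,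
      Finset.sum_const_zero, sub_zero]
    rw [hα]; ring
  have hsplitC : ∀ F : ↥(principalBlock M G) → ℂ,
      ∑ a, F a = ∑ k, F (ι k) + (∑ j, F (aj j) + ∑ j, F (σ (aj j))) := fun F => by
    rw [← Fintype.sum_bijective Ψ hΨ (fun t => F (Ψ t)) F (fun _ => rfl), Fintype.sum_sum_type,
      Fintype.sum_sum_type]
    rfl
  have hvan : ∀ t : G ⧸ Subgroup.zpowers z, IsPRegular 3 t →
      ∑ k : ↥(principalBlock M (G ⧸ Subgroup.zpowers z)),
        c' (ι k) * ((k : IrrCharacter (G ⧸ Subgroup.zpowers z)) : G ⧸ Subgroup.zpowers z → ℂ) t = 0 := by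
    intro tb htb
    obtain ⟨g, hg, rfl⟩ := CfsgLib.Blocks.exists_regular_lift (Subgroup.zpowers z)
      (Fact.out : Nat.Prime 3) htb
    have h1 : ∑ a : ↥(principalBlock M G), c' a * ((a : IrrCharacter G) : G → ℂ) g = 0 := by
      simp only [hc', sub_mul, Finset.sum_sub_distrib, hc0 g hg, Finset.sum_mul]
      rw [Finset.sum_comm, Finset.sum_eq_zero (fun j _ => ?_), Finset.sum_comm,
        Finset.sum_eq_zero (fun j _ => ?_), sub_zero, sub_zero]
      · simp only [mul_assoc, ← Finset.mul_sum]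
        rw [hφsum j fun a => ((a : IrrCharacter G) : G → ℂ) g]
        have h2 : (ε j : ℂ) * ((aj j : IrrCharacter G) : G → ℂ) g =
            ∑ k, (t j k : ℂ) * ((ι k : IrrCharacter G) : G → ℂ) g := by
          rw [hw (aj j) g hg]
          simp only [hιval]
          obtain ⟨α', hα'⟩ := hcomplete
            (fun k => ((ε j * w (aj j) k - t j k : ℤ) : ℂ)) fun o => by
              have key : ((∑ k, Pv o k * (ε j * w (aj j) k - t j k) : ℤ) : ℂ) = 0 := by
                have h1 : ∑ k, Pv o k * (ε j * w (aj j) k - t j k) =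
                    ε j * ∑ k, w (aj j) k * Pv o k - ∑ k, Pv o k * t j k := by
                  rw [Finset.mul_sum, ← Finset.sum_sub_distrib]
                  exact Finset.sum_congr rfl fun k _ => by ring
                rw [h1, hD, ← mul_assoc, hεε, one_mul, sub_self, Int.cast_zero]
              rw [← key]
              push_cast
              rfl
          rw [← sub_eq_zero, Finset.mul_sum, ← Finset.sum_sub_distrib]
          set tb : G ⧸ Subgroup.zpowers z := QuotientGroup.mk g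
          rw [Finset.sum_congr rfl fun k _ => show (ε j : ℂ) * ((w (aj j) k : ℂ) *
              ((k : IrrCharacter (G ⧸ Subgroup.zpowers z)) : G ⧸ Subgroup.zpowers z → ℂ) tb) - (t j k : ℂ) *
                ((k : IrrCharacter (G ⧸ Subgroup.zpowers z)) : G ⧸ Subgroup.zpowers z → ℂ) tb =
            ∑ q, α' q * ((x q k : ℂ) * ((k : IrrCharacter (G ⧸ Subgroup.zpowers z)) : G ⧸ Subgroup.zpowers z → ℂ) tb) by
              have h1 := hα' k (hcover k)
              push_cast at h1
              rw [← mul_assoc, ← sub_mul, h1, Finset.sum_mul]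
              exact Finset.sum_congr rfl fun q _ => by ring, Finset.sum_comm]
          refine Finset.sum_eq_zero fun q _ => ?_
          rw [← Finset.mul_sum, hreg0 q tb (CfsgLib.Blocks.regular_mk _ hg), mul_zero]
        rw [h2, sub_self, mul_zero]
      · simp only [mul_assoc, ← Finset.mul_sum]
        rw [hnsum j fun a => ((a : IrrCharacter G) : G → ℂ) g, hσ, hσreg _ g hg, sub_self, mul_zero]
    rw [hsplitC] at h1
    simp only [hcp, hcm, zero_mul, Finset.sum_const_zero, add_zero, hιval] at h1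
    exact h1
  have hP0 : ∀ o, ∑ k, (Pv o k : ℂ) * c' (ι k) = 0 := by
    intro o
    have horth : ∀ k k' : ↥(principalBlock M (G ⧸ Subgroup.zpowers z)),
        Cfsg.classInner ((k : IrrCharacter (G ⧸ Subgroup.zpowers z)) : G ⧸ Subgroup.zpowers z → ℂ) ((k' : IrrCharacter (G ⧸ Subgroup.zpowers z)) : G ⧸ Subgroup.zpowers z → ℂ) =
          if k = k' then 1 else 0 := fun k k' => by
      rw [CfsgLib.Char.classInner_irr k.1.2 k'.1.2]
      exact if_congr ⟨fun e' => Subtype.ext (Subtype.ext e'), fun e' => by rw [e']⟩ rfl rfl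
    have h1 : ∑ tb : G ⧸ Subgroup.zpowers z,
        (∑ k : ↥(principalBlock M (G ⧸ Subgroup.zpowers z)),
          c' (ι k) * ((k : IrrCharacter (G ⧸ Subgroup.zpowers z)) : G ⧸ Subgroup.zpowers z → ℂ) tb) *
        conj (∑ k : ↥(principalBlock M (G ⧸ Subgroup.zpowers z)),
          (Pv o k : ℂ) * ((k : IrrCharacter (G ⧸ Subgroup.zpowers z)) : G ⧸ Subgroup.zpowers z → ℂ) tb) = 0 := by
      refine Finset.sum_eq_zero fun tb _ => ?_
      by_cases htb : IsPRegular 3 tb
      · rw [hvan tb htb, zero_mul]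
      · obtain ⟨q, hq⟩ := hsing tb htb
        have key : ((∑ k, Pv o k * x q k : ℤ) : ℂ) = 0 := by rw [hPx, Int.cast_zero]
        push_cast at key
        simp only [hq]
        rw [key, map_zero, mul_zero]
    have h2 : (Nat.card (G ⧸ Subgroup.zpowers z) : ℂ)⁻¹ *
        (∑ tb : G ⧸ Subgroup.zpowers z, (∑ k : ↥(principalBlock M (G ⧸ Subgroup.zpowers z)),
          c' (ι k) * ((k : IrrCharacter (G ⧸ Subgroup.zpowers z)) : G ⧸ Subgroup.zpowers z → ℂ) tb) *
        conj (∑ k : ↥(principalBlock M (G ⧸ Subgroup.zpowers z)),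
          (Pv o k : ℂ) * ((k : IrrCharacter (G ⧸ Subgroup.zpowers z)) : G ⧸ Subgroup.zpowers z → ℂ) tb)) =
        ∑ k, ∑ k', (c' (ι k) * (Pv o k' : ℂ)) * Cfsg.classInner
          ((k : IrrCharacter (G ⧸ Subgroup.zpowers z)) : G ⧸ Subgroup.zpowers z → ℂ) ((k' : IrrCharacter (G ⧸ Subgroup.zpowers z)) : G ⧸ Subgroup.zpowers z → ℂ) := by
      simp only [Cfsg.classInner, map_sum, map_mul, map_intCast, Finset.mul_sum, Finset.sum_mul]
      conv_rhs => rw [Finset.sum_comm]
      rw [Finset.sum_comm]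
      refine Finset.sum_congr rfl fun k _ => ?_
      rw [Finset.sum_comm]
      exact Finset.sum_congr rfl fun k' _ => Finset.sum_congr rfl fun tb _ => by ring
    rw [h1, mul_zero] at h2
    simp only [horth, mul_ite, mul_one, mul_zero, Finset.sum_ite_eq, Finset.mem_univ, if_true] at h2
    rw [h2]
    exact Finset.sum_congr rfl fun k _ => mul_comm _ _
  obtain ⟨γ, hγ⟩ := hcomplete (fun k => c' (ι k)) hP0
  refine ⟨α, β, γ, fun a => ?_⟩
  have key : c' a = ∑ q, γ q * (Xv q a : ℂ) := by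
    obtain ⟨s, rfl⟩ := hΨ.2 a
    rcases s with k | j | j
    · show c' (ι k) = ∑ q, γ q * (Xv q (ι k) : ℂ)
      simp only [hXι]
      exact hγ k (hcover k)
    · show c' (aj j) = ∑ q, γ q * (Xv q (aj j) : ℂ)
      simp [hXp, hcp]
    · show c' (σ (aj j)) = ∑ q, γ q * (Xv q (σ (aj j)) : ℂ)
      simp [hXm, hcm]
  rw [hc'] at key
  linear_combination key

end CfsgLib.Blk83.Ex27
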