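import Cfsg.Agent.Lib.Blk83.Ex27.Local
import Cfsg.Agent.Lib.Blk83.Ex27.Kernel
import Cfsg.Agent.Lib.BlockRank.Congr

/-!
The invariants of the principal `3`-block when the inertial quotient has order 2, 4 or 8.
-/

set_option autoImplicit false
set_option maxHeartbeats 1600000

open Cfsg CfsgLib.Blocks
open scoped Classical ComplexConjugate

namespace CfsgLib.Blk83.Ex27

universe u

variable {G : Type u} [Group G] [Fintype G] {M : Ideal Cfsg.AlgInt}

theorem blockRank_congr_subgroup {H K : Subgroup G} (hHK : H = K) :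
    Cfsg.blockRank 3 (principalBlock M H) = Cfsg.blockRank 3 (principalBlock M K) := by subst hHK; rfl

/-- **The invariants.** -/
theorem invariants_of_even [Fact (Nat.Prime 3)] (hM : IsPModular 3 M) {P : Sylow 3 G} {z : G}
    (h : Data P z) {e : ℕ}
    (he : ((P : Subgroup G) ⊔ Subgroup.centralizer ((P : Subgroup G) : Set G)).relIndex
      (Subgroup.normalizer ((P : Subgroup G) : Set G)) = e) (he2 : e = 2 ∨ e = 4 ∨ e = 8) :
    ∃ r : ℕ, r * e = 8 ∧ Nat.card (principalBlock M G) + 2 * r = 18 ∧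
      Nat.card {χ : IrrCharacter G // χ ∈ principalBlock M G ∧
        blockHeight 3 (principalBlock M G) (χ : G → ℂ) = 0} = 6 ∧
      Cfsg.blockRank 3 (principalBlock M G) + r = 6 := by
  haveI := hM.2.1
  have he3 : ¬ 3 ∣ e := by rcases he2 with rfl | rfl | rfl <;> norm_num
  have he2' : 2 ∣ e := by rcases he2 with rfl | rfl | rfl <;> norm_num
  obtain ⟨r, u, hre, hu, hu', hinj, hcov⟩ := h.exists_reps he he3
  have hr : r = 1 ∨ r = 2 ∨ r = 4 := by rcases he2 with rfl | rfl | rfl <;> omega
  obtain ⟨q₀⟩ : Nonempty (Fin r) := ⟨⟨0, by omega⟩⟩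
  haveI : Nonempty (Fin r) := ⟨q₀⟩
  -- the centralizer of the centre
  obtain ⟨P', z', hz', hP', hD, herel⟩ := h.to_centralizer
  have huC : ∀ q, u q ∈ Subgroup.centralizer ({z} : Set G) := fun q =>
    Subgroup.mem_centralizer_singleton_iff.2 (h.zcomm _ (hu q)).symm
  obtain ⟨u', hu'def⟩ : ∃ u' : Fin r → Subgroup.centralizer ({z} : Set G), ∀ q, (u' q : G) = u q :=
    ⟨fun q => ⟨u q, huC q⟩, fun _ => rfl⟩
  have hmemP : ∀ x : Subgroup.centralizer ({z} : Set G), x ∈ P' ↔ (x : G) ∈ P := fun x => by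
    show x ∈ (P' : Subgroup (Subgroup.centralizer ({z} : Set G))) ↔ _
    rw [hP']; exact Subgroup.mem_subgroupOf
  have hzp : ∀ x : Subgroup.centralizer ({z} : Set G), x ∈ Subgroup.zpowers z' →
      (x : G) ∈ Subgroup.zpowers z := fun x hx => by
    obtain ⟨i, rfl⟩ := Subgroup.mem_zpowers_iff.1 hx
    exact Subgroup.mem_zpowers_iff.2 ⟨i, by rw [Subgroup.coe_zpow, hz']⟩
  have hcC : ∀ g : Subgroup.centralizer ({z} : Set G), g * z' = z' * g := fun g => Subtype.ext (by
    rw [Subgroup.coe_mul, Subgroup.coe_mul, hz']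
    exact Subgroup.mem_centralizer_singleton_iff.1 g.2)
  have hu1 : ∀ q, u' q ∈ P' := fun q => (hmemP _).2 (by rw [hu'def]; exact hu q)
  have hu2 : ∀ q, u' q ∉ Subgroup.zpowers z' := fun q hq =>
    hu' q (by rw [← hu'def]; exact hzp _ hq)
  have hinjC : ∀ q q', IsConj (u' q) (u' q') → q = q' := fun q q' hc =>
    hinj q q' (by
      rw [← hu'def q, ← hu'def q']
      exact (Subgroup.centralizer ({z} : Set G)).subtype.map_isConj hc)
  have hcovC : ∀ x ∈ P', x ∉ Subgroup.zpowers z' → ∃ q, IsConj x (u' q) := by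
    intro x hx hx'
    have hxz : (x : G) ∉ Subgroup.zpowers z := fun hmem => hx' (by
      obtain ⟨i, hi⟩ := Subgroup.mem_zpowers_iff.1 hmem
      exact Subgroup.mem_zpowers_iff.2 ⟨i, Subtype.ext (by rw [Subgroup.coe_zpow, hz', hi])⟩)
    obtain ⟨q, hq⟩ := hcov x ((hmemP x).1 hx) hxz
    obtain ⟨g, hg⟩ := isConj_iff.1 hq
    obtain ⟨n, hn, hnx⟩ := h.fusion ((hmemP x).1 hx) hxz hg (hu q)
    refine ⟨q, isConj_iff.2 ⟨⟨n, Subgroup.mem_centralizer_singleton_iff.2 (h.norm n hn)⟩,
      Subtype.ext ?_⟩⟩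
    rw [Subgroup.coe_mul, Subgroup.coe_mul, InvMemClass.coe_inv, hu'def]
    exact hnx
  obtain ⟨l, n, φ, X, hlr, hrank, hn0, hφ0, hnn, hφn, hφn1, hφφ, hnu, hφu, hX0, hcomp⟩ :=
    exists_local hM hD hcC (herel.trans he) he2 hre hu1 hu2 hinjC hcovC q₀
  -- the sections
  obtain ⟨hXpow, hXrep⟩ := h.classes hu hu' hinj hcov
  obtain ⟨hXpowC, hXrepC⟩ := hD.classes hu1 hu2 hinjC hcovC
  obtain ⟨Y, hYdef⟩ : ∃ Y : Finset (Subgroup.centralizer ({z} : Set G)),
      ∀ y, y ∈ Y ↔ (y = z' ∨ y = z'⁻¹) ∨ ∃ q, u' q = y :=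
    ⟨({z', z'⁻¹} : Finset _) ∪ Finset.univ.image u', fun y => by simp [or_assoc]⟩
  have hYpow : ∀ y ∈ Y, ∃ k : ℕ, orderOf y = 3 ^ k := by
    intro y hy
    refine hD.exists_orderOf_eq_pow ?_
    rcases (hYdef y).1 hy with (rfl | rfl) | ⟨q, rfl⟩
    · exact hD.zmem
    · exact Subgroup.inv_mem (P' : Subgroup (Subgroup.centralizer ({z} : Set G))) hD.zmem
    · exact hu1 q
  have hY1 : ∀ y ∈ Y, y ≠ 1 := by
    intro y hy
    rcases (hYdef y).1 hy with (rfl | rfl) | ⟨q, rfl⟩
    · exact hD.zne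
    · exact inv_ne_one.2 hD.zne
    · exact fun e' => hu2 q (e' ▸ one_mem _)
  have hYG : ∀ y ∈ Y, (y : G) ∈ ({1, z, z⁻¹} : Finset G) ∪ Finset.univ.image u := by
    intro y hy
    have hy' := (hYdef y).1 hy
    simp only [Finset.mem_union, Finset.mem_insert, Finset.mem_singleton, Finset.mem_image,
      Finset.mem_univ, true_and]
    rcases hy' with (rfl | rfl) | ⟨q, rfl⟩
    · exact Or.inl (Or.inr (Or.inl hz'))
    · exact Or.inl (Or.inr (Or.inr (by rw [InvMemClass.coe_inv, hz'])))
    · exact Or.inr ⟨q, (hu'def q).symm⟩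
  have hne : ∀ y ∈ Y, ∀ y' ∈ Y, IsConj (y : G) (y' : G) → y = y' := by
    intro y hy y' hy' hc
    obtain ⟨x, -, huniq⟩ := hXrep (y : G) (hXpow _ (hYG y hy))
    exact Subtype.ext ((huniq _ ⟨hYG y hy, IsConj.refl _⟩).trans (huniq _ ⟨hYG y' hy', hc⟩).symm)
  have hcls : ∀ g : Subgroup.centralizer ({z} : Set G), ¬ IsPRegular 3 g →
      ∃ y ∈ Y, ∃ c : Subgroup.centralizer ({z} : Set G), IsPPart 3 (c * g * c⁻¹) y := by
    intro g hg
    obtain ⟨y₁, hy₁⟩ := CfsgLib.Blocks.exists_isPPart (p := 3) Fact.out g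
    obtain ⟨x, ⟨hx, hyx⟩, -⟩ := hXrepC y₁ (by obtain ⟨_, -, -, h', -⟩ := hy₁; exact h')
    obtain ⟨c, hc⟩ := isConj_iff.1 hyx
    refine ⟨x, ?_, c, hc ▸ CfsgLib.Blocks.IsPPart.conj hy₁ c⟩
    rw [hYdef]
    simp only [Finset.mem_union, Finset.mem_insert, Finset.mem_singleton, Finset.mem_image,
      Finset.mem_univ, true_and] at hx
    rcases hx with (rfl | hx | hx) | hx
    · exfalso
      have h1 := isConj_one_left.1 hyx
      obtain ⟨s, hs, -, -, hreg⟩ := hy₁
      rw [h1, one_mul] at hs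
      exact hg (hs ▸ hreg)
    · exact Or.inl (Or.inl hx)
    · exact Or.inl (Or.inr hx)
    · exact Or.inr hx
  have hsame : ∀ y ∈ Y, (Subgroup.centralizer ({(y : G)} : Set G) = Subgroup.centralizer {z} ∧
      ∀ c : Subgroup.centralizer ({z} : Set G), c * y = y * c) ∨
      ∃ a, Compl 3 (y : G) a ∧ Compl 3 y a := by
    intro y hy
    rcases (hYdef y).1 hy with (rfl | rfl) | ⟨q, rfl⟩
    · exact Or.inl ⟨by rw [hz'], hcC⟩
    · refine Or.inl ⟨?_, fun c => (Commute.inv_right (show Commute c z' from hcC c)).eq⟩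
      rw [InvMemClass.coe_inv, hz']
      ext g
      rw [Subgroup.mem_centralizer_singleton_iff, Subgroup.mem_centralizer_singleton_iff]
      exact Commute.inv_right_iff (a := g) (b := z)
    · exact Or.inr ⟨2, by rw [hu'def]; exact h.compl (hu q) (hu' q), hD.compl (hu1 q) (hu2 q)⟩
  have hT := transfer_facts hM (Subgroup.centralizer ({z} : Set G)) Y
    hYpow hY1 hcls hne hsame
  -- the columns
  have hord : ∀ q, orderOf (u q) = 3 := fun q =>
    orderOf_eq_prime (h.exp _ (hu q)) fun e' => hu' q (e' ▸ one_mem _)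
  have hordC : ∀ q, ¬ IsPRegular 3 (u' q) := fun q hreg => hreg (by
    rw [← Subgroup.orderOf_coe, hu'def, hord])
  obtain ⟨x, hx, hgram, hxdeg, hcg, hshape⟩ := exists_columns hM u hord
    (fun q => h.isConj_inv he he3 he2' (hu q) (hu' q)) (fun q => h.compl (hu q) (hu' q)) hinj
  -- the integral vectors
  choose N hN using fun j (χ : ↥(principalBlock M G)) =>
    exists_int_wt (M := M) (Subgroup.centralizer ({z} : Set G)) (n j) (χ : IrrCharacter G)
  choose F hF using fun j (χ : ↥(principalBlock M G)) =>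
    exists_int_wt (M := M) (Subgroup.centralizer ({z} : Set G)) (φ j) (χ : IrrCharacter G)
  have hgramV : ∀ (v w : ↥(principalBlock M (Subgroup.centralizer ({z} : Set G))) → ℤ)
      (V W : ↥(principalBlock M G) → ℤ),
      (∀ g : Subgroup.centralizer ({z} : Set G), IsPRegular 3 g →
        ∑ a : ↥(principalBlock M (Subgroup.centralizer ({z} : Set G))), (v a : ℂ) *
          ((a : IrrCharacter (Subgroup.centralizer ({z} : Set G))) :
            Subgroup.centralizer ({z} : Set G) → ℂ) g = 0) →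
      (∀ g : Subgroup.centralizer ({z} : Set G), IsPRegular 3 g →
        ∑ a : ↥(principalBlock M (Subgroup.centralizer ({z} : Set G))), (w a : ℂ) *
          ((a : IrrCharacter (Subgroup.centralizer ({z} : Set G))) :
            Subgroup.centralizer ({z} : Set G) → ℂ) g = 0) →
      (∀ χ : ↥(principalBlock M G), wt M _ (fun a => (v a : ℂ)) ((χ : IrrCharacter G) : G → ℂ) = V χ) →
      (∀ χ : ↥(principalBlock M G), wt M _ (fun a => (w a : ℂ)) ((χ : IrrCharacter G) : G → ℂ) = W χ) →
      ∑ χ, V χ * W χ = ∑ a, v a * w a := by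
    intro v w V W hv hw hV hW
    have key : ((∑ χ, V χ * W χ : ℤ) : ℂ) = ((∑ a, v a * w a : ℤ) : ℂ) := by
      push_cast
      calc ∑ χ, (V χ : ℂ) * (W χ : ℂ) = ∑ χ : ↥(principalBlock M G),
            wt M _ (fun a => (v a : ℂ)) ((χ : IrrCharacter G) : G → ℂ) *
              conj (wt M _ (fun a => (w a : ℂ)) ((χ : IrrCharacter G) : G → ℂ)) :=
            Finset.sum_congr rfl fun χ _ => by rw [hV, hW, map_intCast]
        _ = _ := (hT _ hv).2.2.1 _ hw
        _ = _ := Finset.sum_congr rfl fun a _ => by rw [map_intCast]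
    exact_mod_cast key
  have hxV : ∀ (v : ↥(principalBlock M (Subgroup.centralizer ({z} : Set G))) → ℤ)
      (V : ↥(principalBlock M G) → ℤ) (q : Fin r) (m : ℤ),
      (∀ g : Subgroup.centralizer ({z} : Set G), IsPRegular 3 g →
        ∑ a : ↥(principalBlock M (Subgroup.centralizer ({z} : Set G))), (v a : ℂ) *
          ((a : IrrCharacter (Subgroup.centralizer ({z} : Set G))) :
            Subgroup.centralizer ({z} : Set G) → ℂ) g = 0) →
      (∀ χ : ↥(principalBlock M G), wt M _ (fun a => (v a : ℂ)) ((χ : IrrCharacter G) : G → ℂ) = V χ) →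
      (∑ a : ↥(principalBlock M (Subgroup.centralizer ({z} : Set G))), (v a : ℂ) *
          ((a : IrrCharacter (Subgroup.centralizer ({z} : Set G))) :
            Subgroup.centralizer ({z} : Set G) → ℂ) (u' q)) = (m : ℂ) →
      ∑ χ, x q χ * V χ = m := by
    intro v V q m hv hV hm
    have key : ((∑ χ, x q χ * V χ : ℤ) : ℂ) = (m : ℂ) := by
      push_cast
      calc ∑ χ, (x q χ : ℂ) * (V χ : ℂ) = ∑ χ : ↥(principalBlock M G),
            wt M _ (fun a => (v a : ℂ)) ((χ : IrrCharacter G) : G → ℂ) *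
              conj (((χ : IrrCharacter G) : G → ℂ) (u' q : G)) :=
            Finset.sum_congr rfl fun χ _ => by rw [hV, hu'def, hx, map_intCast, mul_comm]
        _ = _ := (hT _ hv).1 (u' q) (hordC q)
        _ = conj (m : ℂ) := by
            rw [← hm, map_sum]
            exact Finset.sum_congr rfl fun a _ => by rw [map_mul, map_intCast]
        _ = (m : ℂ) := map_intCast _ _
    exact_mod_cast key
  have hdegV : ∀ (v : ↥(principalBlock M (Subgroup.centralizer ({z} : Set G))) → ℤ)
      (V : ↥(principalBlock M G) → ℤ),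
      (∀ g : Subgroup.centralizer ({z} : Set G), IsPRegular 3 g →
        ∑ a : ↥(principalBlock M (Subgroup.centralizer ({z} : Set G))), (v a : ℂ) *
          ((a : IrrCharacter (Subgroup.centralizer ({z} : Set G))) :
            Subgroup.centralizer ({z} : Set G) → ℂ) g = 0) →
      (∀ χ : ↥(principalBlock M G), wt M _ (fun a => (v a : ℂ)) ((χ : IrrCharacter G) : G → ℂ) = V χ) →
      ∑ χ : ↥(principalBlock M G),
        V χ * (charDegree ((χ : IrrCharacter G) : G → ℂ) : ℤ) = 0 := by
    intro v V hv hV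
    have key : ((∑ χ : ↥(principalBlock M G),
        V χ * (charDegree ((χ : IrrCharacter G) : G → ℂ) : ℤ) : ℤ) : ℂ) = 0 := by
      push_cast
      rw [← (hT _ hv).2.1]
      exact Finset.sum_congr rfl fun χ _ => by
        rw [hV, ← CfsgLib.BlockReg.deg_cast (χ : IrrCharacter G), map_natCast]
    exact_mod_cast key
  have hdeg : ∀ χ : ↥(principalBlock M G), 0 < (charDegree ((χ : IrrCharacter G) : G → ℂ) : ℤ) :=
    fun χ => Int.natCast_pos.2 (CfsgLib.BlockReg.deg_pos (χ : IrrCharacter G))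
  have hcardJ : Fintype.card (Fin l) = l := Fintype.card_fin l
  obtain ⟨zK, O, T, hS, hOl, hTl, hTx, hout⟩ := supports_of_lifts (J := Fin l) x
    (fun χ => (charDegree ((χ : IrrCharacter G) : G → ℂ) : ℤ)) hdeg q₀ (by
      rcases hshape with ⟨zK, O, hS⟩ | ⟨h1, hnine⟩
      · refine Or.inl ⟨zK, O, hS, ?_⟩
        have := hS.card; rw [Fintype.card_fin] at this ⊢; omega
      · refine Or.inr ⟨(hnine q₀).1, (hnine q₀).2, ?_⟩
        rw [Fintype.card_fin] at h1 ⊢; omega)
    N F
    (fun j => by rw [hgramV _ _ _ _ (hn0 j) (hn0 j) (hN j) (hN j), hnn, if_pos rfl])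
    (fun j => hdegV _ _ (hn0 j) (hN j))
    (fun i j hij => by rw [hgramV _ _ _ _ (hn0 i) (hn0 j) (hN i) (hN j), hnn, if_neg hij])
    (fun j => by rw [hgramV _ _ _ _ (hφ0 j) (hφ0 j) (hF j) (hF j), hφφ, if_pos rfl])
    (fun i j hij => by rw [hgramV _ _ _ _ (hφ0 i) (hn0 j) (hF i) (hN j), hφn i j hij])
    (fun j => by rw [hgramV _ _ _ _ (hφ0 j) (hn0 j) (hF j) (hN j)]; exact hφn1 j)
    (fun i j hij => by rw [hgramV _ _ _ _ (hφ0 i) (hφ0 j) (hF i) (hF j), hφφ, if_neg hij])
    (fun j q => hxV _ _ q 0 (hn0 j) (hN j) (by rw [hnu, Int.cast_zero]))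
    (fun j => Or.inr (hxV _ _ q₀ (-3) (hφ0 j) (hF j) (by rw [hφu, if_pos rfl]; norm_num)))
    (fun j q hq => hxV _ _ q 0 (hφ0 j) (hF j) (by rw [hφu, if_neg hq, Int.cast_zero]))
  have hO : O.card + r = 6 := by have := hS.card; rwa [Fintype.card_fin] at this
  -- no further members
  have huniv : ∀ χ : ↥(principalBlock M G), χ ∈ O ∨ (∃ q, zK q = χ) ∨ χ ∈ T := by
    intro χ
    by_contra hcon
    push Not at hcon
    obtain ⟨hO', hz0, hT'⟩ := hcon
    have hrow := hS.zero χ hO' hz0
    obtain ⟨g, hg, hgne⟩ := exists_singular_ne_zero hM (hord q₀ ▸ orderOf_dvd_natCard (u q₀)) χ.2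
    obtain ⟨y₁, hy₁⟩ := CfsgLib.Blocks.exists_isPPart (p := 3) Fact.out g
    obtain ⟨y, ⟨hy, hyy⟩, -⟩ := hXrep y₁ (by obtain ⟨_, -, -, h', -⟩ := hy₁; exact h')
    obtain ⟨c, hc⟩ := isConj_iff.1 hyy
    have hy₂ : IsPPart 3 (c * g * c⁻¹) y := hc ▸ CfsgLib.Blocks.IsPPart.conj hy₁ c
    apply hgne
    rw [← CfsgLib.Char.IsIrrCharacter.isClassFunction (χ : IrrCharacter G).2 g c]
    have hsec : ∀ (g' : G) (q : Fin r), IsPPart 3 g' (u q) →
        ((χ : IrrCharacter G) : G → ℂ) g' = 0 := by
      rintro g' q ⟨s, rfl, hcomm, -, hs⟩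
      have hmem : s ∈ Subgroup.centralizer ({u q} : Set G) :=
        Subgroup.mem_centralizer_singleton_iff.2 hcomm.eq.symm
      rw [show s = ((⟨s, hmem⟩ : Subgroup.centralizer ({u q} : Set G)) : G) from rfl,
        principal_translate_const hM ⟨1, by rw [hord, pow_one]⟩ (h.compl (hu q) (hu' q)) χ.2 (by
          rw [Cfsg.IsPRegular, Subgroup.orderOf_mk]; exact hs), hx, hrow q, Int.cast_zero]
    rcases Finset.mem_union.1 hy with hy | hy
    swap
    · obtain ⟨q, -, rfl⟩ := Finset.mem_image.1 hy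
      exact hsec _ q hy₂
    simp only [Finset.mem_insert, Finset.mem_singleton] at hy
    obtain ⟨s, hse, hcomm, -, hs⟩ := id hy₂
    rcases hy with hy | hy
    · subst hy
      exfalso
      have h1 := isConj_one_left.1 hyy
      obtain ⟨s₁, hs₁, -, -, hreg⟩ := hy₁
      rw [h1, one_mul] at hs₁
      exact hg (hs₁ ▸ hreg)
    have hsz : Commute z s := by
      rcases hy with e' | e' <;> rw [e'] at hcomm
      · exact hcomm
      · exact Commute.inv_left_iff.1 hcomm
    have hg'C : c * g * c⁻¹ ∈ Subgroup.centralizer ({z} : Set G) := by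
      rw [← hse]
      refine Subgroup.mem_centralizer_singleton_iff.2 ?_
      rcases hy with e' | e' <;> rw [e']
      · exact ((Commute.refl z).mul_left hsz.symm).eq
      · exact (((Commute.refl z).inv_left).mul_left hsz.symm).eq
    have hsing : ¬ IsPRegular 3 (⟨c * g * c⁻¹, hg'C⟩ : Subgroup.centralizer ({z} : Set G)) := by
      rw [Cfsg.IsPRegular, Subgroup.orderOf_mk, show c * g * c⁻¹ = MulAut.conj c g from rfl,
        MulEquiv.orderOf_eq]
      exact fun h' => hg h'
    have hval := (hT (fun _ => 0) (fun _ _ => by simp)).2.2.2 χ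
      (⟨c * g * c⁻¹, hg'C⟩ : Subgroup.centralizer ({z} : Set G)) hsing
    refine hval.trans ?_
    obtain ⟨α, β, γ, hαβγ⟩ := hcomp
      (fun a => ((a : IrrCharacter (Subgroup.centralizer ({z} : Set G))) :
        Subgroup.centralizer ({z} : Set G) → ℂ) ⟨c * g * c⁻¹, hg'C⟩) (fun t ht => by
      have hKreg := (sections_kernel hM (Subgroup.centralizer ({z} : Set G)) Y
        hYpow hY1 hcls hne hsame).2.2 _ t⁻¹ hsing
        (by rw [IsPRegular, orderOf_inv]; exact ht)
      rw [sum_block] at hKreg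
      refine (Finset.sum_congr rfl fun a _ => ?_).trans hKreg
      rw [CfsgLib.BlockReg.char_inv
        (a : IrrCharacter (Subgroup.centralizer ({z} : Set G))), Complex.conj_conj])
    obtain ⟨hNF⟩ : Nonempty (∀ j, N j χ = 0 ∧ F j χ = 0) := ⟨hout χ (fun q => hrow q) hT'⟩
    have hwX : ∀ q, wt M (Subgroup.centralizer ({z} : Set G)) (fun a => (X q a : ℂ))
        ((χ : IrrCharacter G) : G → ℂ) = 0 := by
      intro q
      rw [wt, Finset.sum_eq_zero, mul_zero]
      intro t _
      by_cases hq : ∀ q' (d : Subgroup.centralizer ({z} : Set G)), ¬ IsPPart 3 t (d * u' q' * d⁻¹)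
      · have hq' : ∀ q' (d : Subgroup.centralizer ({z} : Set G)),
            ¬ IsPPart 3 t⁻¹ (d * u' q' * d⁻¹) := by
          intro q' d hp'
          obtain ⟨d', hd'⟩ := isConj_iff.1
            (hD.isConj_inv (herel.trans he) he3 he2' (hu1 q') (hu2 q'))
          refine hq q' (d * d') ?_
          have h1 := CfsgLib.Blocks.IsPPart.inv hp'
          rwa [inv_inv, show (d * u' q' * d⁻¹)⁻¹ = d * (u' q')⁻¹ * d⁻¹ by group, ← hd',
            show d * (d' * u' q' * d'⁻¹) * d⁻¹ = d * d' * u' q' * (d * d')⁻¹ by group] at h1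
        have h0 := hX0 q t⁻¹ hq'
        rw [Finset.sum_congr rfl fun a _ => by
          rw [CfsgLib.BlockReg.char_inv
            (a : IrrCharacter (Subgroup.centralizer ({z} : Set G)))]] at h0
        rw [h0, mul_zero]
      · push Not at hq
        obtain ⟨q', d, hp'⟩ := hq
        have h1 : IsPPart 3 (((d : G))⁻¹ * (t : G) * (d : G)) (u q') := by
          obtain ⟨s₂, hs₂, hc₂, -, hr₂⟩ := hp'
          have hh : IsPPart 3 (t : G) ((d : G) * u q' * (d : G)⁻¹) := by
            refine ⟨(s₂ : G), ?_, ?_, ?_, ?_⟩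
            · rw [← hu'def, ← hs₂]; simp
            · rw [← hu'def]
              have := congrArg Subtype.val hc₂.eq
              simp only [Subgroup.coe_mul, InvMemClass.coe_inv] at this
              exact this
            · refine ⟨1, ?_⟩
              rw [pow_one, show (d : G) * u q' * (d : G)⁻¹ = MulAut.conj (d : G) (u q') from rfl,
                MulEquiv.orderOf_eq, hord]
            · rw [Subgroup.orderOf_coe]; exact hr₂
          have h2 := CfsgLib.Blocks.IsPPart.conj hh (d : G)⁻¹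
          rwa [inv_inv, show (d : G)⁻¹ * ((d : G) * u q' * (d : G)⁻¹) * (d : G) = u q' by group] at h2
        have h3 := hsec _ q' h1
        have h4 := CfsgLib.Char.IsIrrCharacter.isClassFunction (χ : IrrCharacter G).2 (t : G) (d : G)⁻¹
        rw [inv_inv, h3] at h4
        rw [← h4, zero_mul]
    rw [wt_eq]
    simp only [hαβγ, add_mul, Finset.sum_mul, Finset.sum_add_distrib]
    rw [Finset.sum_comm, Finset.sum_eq_zero, Finset.sum_comm, Finset.sum_eq_zero, Finset.sum_comm,
      Finset.sum_eq_zero, add_zero, add_zero]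
    · intro q _
      simp only [mul_assoc, ← Finset.mul_sum]
      rw [← wt_eq _ (fun a => (X q a : ℂ)), hwX, mul_zero]
    · intro j _
      simp only [mul_assoc, ← Finset.mul_sum]
      rw [← wt_eq _ (fun a => (φ j a : ℂ)), hF, (hNF j).2, Int.cast_zero, mul_zero]
    · intro j _
      simp only [mul_assoc, ← Finset.mul_sum]
      rw [← wt_eq _ (fun a => (n j a : ℂ)), hN, (hNF j).1, Int.cast_zero, mul_zero]
  have hrow_ne : ∀ χ : ↥(principalBlock M G), χ ∈ O ∨ (∃ q, zK q = χ) → x q₀ χ ≠ 0 := by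
    rintro χ (hχ | ⟨q, rfl⟩) h0
    · rcases hS.ord χ hχ with e' | e' <;> rw [e' q₀] at h0 <;> norm_num at h0
    · rcases hS.two q with e' | e' <;> by_cases hq : q₀ = q
      · subst hq; omega
      · have := hS.other q₀ q hq; omega
      · subst hq; omega
      · have := hS.other q₀ q hq; omega
  have hdis : Disjoint O (Finset.univ.image zK) := by
    rw [Finset.disjoint_left]
    intro k hk hk'
    obtain ⟨q, -, rfl⟩ := Finset.mem_image.1 hk'
    exact hS.notMem q hk
  have hsix : (O ∪ Finset.univ.image zK).card = 6 := by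
    rw [Finset.card_union_of_disjoint hdis, Finset.card_image_of_injective _ hS.zinj,
      Finset.card_univ, Fintype.card_fin, hO]
  have hk : Nat.card (principalBlock M G) = 6 + 2 * l := by
    rw [Nat.card_eq_fintype_card, ← Finset.card_univ,
      show (Finset.univ : Finset ↥(principalBlock M G)) = (O ∪ Finset.univ.image zK) ∪ T from
        (Finset.eq_univ_of_forall fun χ => by
          rcases huniv χ with h1 | ⟨q, rfl⟩ | h1
          · exact Finset.mem_union_left _ (Finset.mem_union_left _ h1)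
          · exact Finset.mem_union_left _
              (Finset.mem_union_right _ (Finset.mem_image_of_mem _ (Finset.mem_univ q)))
          · exact Finset.mem_union_right _ h1).symm,
      Finset.card_union_of_disjoint, hsix, hTl, Fintype.card_fin]
    rw [Finset.disjoint_left]
    intro k hk hk'
    refine hrow_ne k ?_ (hTx k hk' q₀)
    rcases Finset.mem_union.1 hk with h1 | h1
    · exact Or.inl h1
    · obtain ⟨q, -, rfl⟩ := Finset.mem_image.1 h1; exact Or.inr ⟨q, rfl⟩
  refine ⟨r, hre, by omega, ?_, ?_⟩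
  · -- the characters of height zero
    have hmin : sInf ((fun χ : IrrCharacter G =>
        (charDegree (χ : G → ℂ)).factorization 3) '' principalBlock M G) = 0 :=
      Nat.sInf_eq_zero.2 (Or.inl ⟨CfsgLib.Char.principalIrr, principal_mem hM, by
        have : charDegree ((CfsgLib.Char.principalIrr : IrrCharacter G) : G → ℂ) = 1 := by
          have h1 := CfsgLib.BlockReg.deg_cast (CfsgLib.Char.principalIrr : IrrCharacter G)
          simp at h1
          exact_mod_cast h1
        simp only [this, Nat.factorization_one, Finsupp.coe_zero, Pi.zero_apply]⟩)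
    rw [Nat.card_congr (Equiv.subtypeSubtypeEquivSubtypeInter (fun χ => χ ∈ principalBlock M G)
      (fun χ => blockHeight 3 (principalBlock M G) (χ : G → ℂ) = 0)).symm]
    rw [Nat.card_congr (Equiv.subtypeEquivRight (q := fun χ : ↥(principalBlock M G) =>
      χ ∈ O ∪ Finset.univ.image zK) fun χ => ?_), Nat.card_eq_fintype_card, Fintype.card_coe, hsix]
    rw [blockHeight, hmin, Nat.sub_zero, Nat.factorization_eq_zero_iff]
    have hd0 : charDegree ((χ : IrrCharacter G) : G → ℂ) ≠ 0 :=
      (CfsgLib.BlockReg.deg_pos (χ : IrrCharacter G)).ne'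
    constructor
    · intro hh
      have h3 : ¬ 3 ∣ charDegree ((χ : IrrCharacter G) : G → ℂ) := by
        rcases hh with h1 | h1 | h1
        · exact absurd Nat.prime_three h1
        · exact h1
        · exact absurd h1 hd0
      by_contra hmem
      rcases huniv χ with h1 | ⟨q, rfl⟩ | h1
      · exact hmem (Finset.mem_union_left _ h1)
      · exact hmem (Finset.mem_union_right _ (Finset.mem_image_of_mem _ (Finset.mem_univ q)))
      · have h2 := hcg q₀ χ
        rw [hTx χ h1 q₀, sub_zero] at h2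
        exact h3 (by exact_mod_cast h2)
    · intro hmem
      refine Or.inr (Or.inl fun h3 => ?_)
      have hne0 : x q₀ χ ≠ 0 := hrow_ne χ (by
        rcases Finset.mem_union.1 hmem with h1 | h1
        · exact Or.inl h1
        · obtain ⟨q, -, rfl⟩ := Finset.mem_image.1 h1; exact Or.inr ⟨q, rfl⟩)
      have h2 := hcg q₀ χ
      have h3' : (3 : ℤ) ∣ (charDegree ((χ : IrrCharacter G) : G → ℂ) : ℤ) := by exact_mod_cast h3
      have h4 : (3 : ℤ) ∣ x q₀ χ := by simpa using dvd_sub h3' h2
      have hbound : -2 ≤ x q₀ χ ∧ x q₀ χ ≤ 2 := by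
        rcases Finset.mem_union.1 hmem with h1 | h1
        · rcases hS.ord χ h1 with e' | e' <;> rw [e' q₀] <;> norm_num
        · obtain ⟨q, -, rfl⟩ := Finset.mem_image.1 h1
          rcases hS.two q with e' | e' <;> by_cases hq : q₀ = q
          · subst hq; omega
          · have := hS.other q₀ q hq; omega
          · subst hq; omega
          · have := hS.other q₀ q hq; omega
      omega
  · -- the rank
    have hdisX : Disjoint ({1, z, z⁻¹} : Finset G) (Finset.univ.image u) := by
      rw [Finset.disjoint_left]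
      intro a ha ha'
      obtain ⟨q, -, rfl⟩ := Finset.mem_image.1 ha'
      simp only [Finset.mem_insert, Finset.mem_singleton] at ha
      exact hu' q (by
        rcases ha with e' | e' | e' <;> rw [e']
        exacts [one_mem _, Subgroup.mem_zpowers _, inv_mem (Subgroup.mem_zpowers _)])
    have hzi : Subgroup.centralizer ({z⁻¹} : Set G) = Subgroup.centralizer ({z} : Set G) := by
      ext g
      rw [Subgroup.mem_centralizer_singleton_iff, Subgroup.mem_centralizer_singleton_iff]
      exact Commute.inv_right_iff (a := g) (b := z)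
    have hcount : Nat.card (principalBlock M G) =
        Cfsg.blockRank 3 (principalBlock M G) + l + l + r := by
      rw [principal_card hM _ hXpow hXrep, Finset.sum_union hdisX,
        Finset.sum_insert (by simp [h.zne.symm, (inv_ne_one.2 h.zne).symm]),
        Finset.sum_pair h.z_ne_inv.symm, principal_blockRank_central hM (fun g => by simp),
        blockRank_congr_subgroup hzi, hrank,
        Finset.sum_image (g := u) (fun q _ q' _ (e' : u q = u q') => hinj q q' (e' ▸ IsConj.refl _)),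
        Finset.sum_congr rfl fun q _ => principal_blockRank hM (h.compl (hu q) (hu' q)),
        Finset.sum_const, Finset.card_univ, Fintype.card_fin, smul_eq_mul, mul_one]
      ring
    omega

end CfsgLib.Blk83.Ex27
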