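import Cfsg.Agent.Lib.Blk83.Ex27.Orbits
import Cfsg.Agent.Lib.Blk83.Ex27.Quot
import Cfsg.Agent.Lib.PNilpotent.Basic
import Cfsg.Agent.Lib.CharTools.Basic

/-!
The invariants of the principal `3`-block when the inertial quotient is trivial: the group has a
normal `3`-complement.
-/

set_option autoImplicit false
set_option maxHeartbeats 800000

open Cfsg CfsgLib.Blocks
open scoped Classical ComplexConjugate

namespace CfsgLib.Blk83.Ex27

universe u

variable {G : Type u} [Group G] [Fintype G] {M : Ideal Cfsg.AlgInt}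

/-- Elements of order prime to three centralize the `3`-subgroups they normalize. -/
theorem Data.primeToCentralizes [Fact (Nat.Prime 3)] {P : Sylow 3 G} {z : G} (h : Data P z)
    (he : ((P : Subgroup G) ⊔ Subgroup.centralizer ((P : Subgroup G) : Set G)).relIndex
      (Subgroup.normalizer ((P : Subgroup G) : Set G)) = 1) :
    CfsgLib.PNilpotent.PrimeToPCentralizes 3 G := by
  have hNM := Subgroup.relIndex_eq_one.1 he
  refine CfsgLib.PNilpotent.primeToPCentralizes_of_sylow P fun Q hQ g hg hgo => ?_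
  refine Subgroup.mem_centralizer_iff.2 fun x hx => ?_
  have hgx : g * x * g⁻¹ ∈ Q := (Subgroup.mem_normalizer_iff.1 hg x).1 hx
  have hfixz : z ∈ Q → g * z * g⁻¹ = z := fun hzQ =>
    h.conj_z (hQ ((Subgroup.mem_normalizer_iff.1 hg z).1 hzQ))
  have hzgen : ∀ w ∈ Q, w ∈ Subgroup.zpowers z → w ≠ 1 → z ∈ Q := fun w hwQ hw hw1 => by
    rcases h.exists_pow hw with rfl | rfl | rfl
    · exact absurd rfl hw1
    · exact hwQ
    · simpa using Q.inv_mem hwQ
  have h3 : g ^ 3 * x * (g ^ 3)⁻¹ = x := by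
    by_cases hxz : x ∈ Subgroup.zpowers z
    · by_cases hx1 : x = 1
      · rw [hx1]; group
      have hz := hfixz (hzgen x hx hxz hx1)
      obtain ⟨i, rfl⟩ := Subgroup.mem_zpowers_iff.1 hxz
      have h1 : g * z ^ i * g⁻¹ = z ^ i := by rw [← conj_zpow, hz]
      calc g ^ 3 * z ^ i * (g ^ 3)⁻¹ = g * (g * (g * z ^ i * g⁻¹) * g⁻¹) * g⁻¹ := by rw [pow_succ, pow_two]; group
        _ = z ^ i := by rw [h1, h1, h1]
    · obtain ⟨n, hn, hnx⟩ := h.fusion (hQ hx) hxz rfl (hQ hgx)
      obtain ⟨i, hi⟩ := Subgroup.mem_zpowers_iff.1 (h.act_mod (hNM hn) (hQ hx))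
      have h1 : g * x * g⁻¹ = x * z ^ i := by
        rw [((Commute.symm (h.zcomm x (hQ hx))).zpow_right i).eq, hi, ← hnx, inv_mul_cancel_right]
      by_cases hi1 : z ^ i = 1
      · rw [hi1, mul_one] at h1
        calc g ^ 3 * x * (g ^ 3)⁻¹ = g * (g * (g * x * g⁻¹) * g⁻¹) * g⁻¹ := by rw [pow_succ, pow_two]; group
          _ = x := by rw [h1, h1, h1]
      have hzQ : z ^ i ∈ Q := by
        have h2 := Q.mul_mem (Q.inv_mem hx) hgx
        rwa [h1, inv_mul_cancel_left] at h2
      have hz := hfixz (hzgen _ hzQ (Subgroup.mem_zpowers_iff.2 ⟨i, rfl⟩) hi1)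
      have h2 : g * z ^ i * g⁻¹ = z ^ i := by rw [← conj_zpow, hz]
      calc g ^ 3 * x * (g ^ 3)⁻¹ = g * (g * (g * x * g⁻¹) * g⁻¹) * g⁻¹ := by rw [pow_succ, pow_two]; group
        _ = g * (g * (x * z ^ i) * g⁻¹) * g⁻¹ := by rw [h1]
        _ = g * (g * x * g⁻¹ * (g * z ^ i * g⁻¹)) * g⁻¹ := by group
        _ = g * (x * z ^ i * z ^ i) * g⁻¹ := by rw [h1, h2]
        _ = g * x * g⁻¹ * (g * z ^ i * g⁻¹) * (g * z ^ i * g⁻¹) := by group
        _ = x * (z ^ i) ^ 3 := by rw [h1, h2, pow_succ, pow_two]; group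
        _ = x := by rw [h.pow_three_zpow, mul_one]
  obtain ⟨m, hm⟩ := exists_pow_eq_self_of_coprime (x := g) (n := 3) hgo.symm
  have hc : Commute (g ^ 3) x := mul_inv_eq_iff_eq_mul.1 h3
  have h4 := hc.pow_left m
  rw [hm] at h4
  exact h4.eq.symm

omit [Fintype G] in
/-- Centralizers inherit normal `3`-complements. -/
theorem compl_of_complement [Finite G] [Fact (Nat.Prime 3)] (K : Subgroup G) [K.Normal]
    (hK : ¬ 3 ∣ Nat.card K) {b : ℕ} (hb : K.index = 3 ^ b) (y : G) : ∃ a, Compl 3 y a := by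
  set C := Subgroup.centralizer ({y} : Set G)
  have hcard : Nat.card (K.subgroupOf C) ∣ Nat.card K := by
    rw [← Subgroup.card_map_of_injective (Subgroup.subtype_injective C),
      Subgroup.subgroupOf_map_subtype]
    exact Subgroup.card_dvd_of_le inf_le_left
  obtain ⟨a, -, ha⟩ := (Nat.dvd_prime_pow Nat.prime_three).1
    (show (K.subgroupOf C).index ∣ 3 ^ b from hb ▸ K.relIndex_dvd_index_of_normal C)
  exact ⟨a, K.subgroupOf C, inferInstance, fun h => hK (h.trans hcard), ha⟩

/-- **The invariants.** -/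
theorem invariants_of_one [Fact (Nat.Prime 3)] (hM : IsPModular 3 M) {P : Sylow 3 G} {z : G}
    (h : Data P z)
    (he : ((P : Subgroup G) ⊔ Subgroup.centralizer ((P : Subgroup G) : Set G)).relIndex
      (Subgroup.normalizer ((P : Subgroup G) : Set G)) = 1) :
    Nat.card (principalBlock M G) = 11 ∧
      Nat.card {χ : IrrCharacter G // χ ∈ principalBlock M G ∧
        blockHeight 3 (principalBlock M G) (χ : G → ℂ) = 0} = 9 ∧
      Cfsg.blockRank 3 (principalBlock M G) = 1 := by
  haveI := hM.2.1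
  obtain ⟨K, hKn, hKc⟩ := CfsgLib.PNilpotent.exists_normal_complement (h.primeToCentralizes he) P
  have hidx : K.index = 3 ^ 3 := by rw [hKc.symm.index_eq_card, h.card]; norm_num
  have hK : ¬ 3 ∣ Nat.card K := by
    rw [← hKc.index_eq_card]; exact P.not_dvd_index
  haveI := Fintype.ofFinite (G ⧸ K)
  obtain ⟨-, hsum, hrank⟩ := principal_of_complement hM K hK hidx
  obtain ⟨r, u, hre, hu, hu', hinj, hcov⟩ := h.exists_reps he (by norm_num)
  have hk : Nat.card (principalBlock M G) = 11 := by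
    obtain ⟨hXpow, hXrep⟩ := h.classes hu hu' hinj hcov
    have hone : ∀ y : G, Cfsg.blockRank 3
        (principalBlock M ↥(Subgroup.centralizer ({y} : Set G))) = 1 := fun y => by
      obtain ⟨a, ha⟩ := compl_of_complement K hK hidx y
      exact principal_blockRank hM ha
    have hdis : Disjoint ({1, z, z⁻¹} : Finset G) (Finset.univ.image u) := by
      rw [Finset.disjoint_left]
      intro a ha ha'
      obtain ⟨q, -, rfl⟩ := Finset.mem_image.1 ha'
      simp only [Finset.mem_insert, Finset.mem_singleton] at ha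
      exact hu' q (by
        rcases ha with e' | e' | e' <;> rw [e']
        exacts [one_mem _, Subgroup.mem_zpowers _, inv_mem (Subgroup.mem_zpowers _)])
    rw [principal_card hM _ hXpow hXrep, Finset.sum_congr rfl fun y _ => hone y, Finset.sum_const,
      smul_eq_mul, mul_one, Finset.card_union_of_disjoint hdis,
      Finset.card_image_of_injective (f := u) _
        (fun q q' (e' : u q = u q') => hinj q q' (e' ▸ IsConj.refl _)),
      Finset.card_univ, Fintype.card_fin,
      Finset.card_insert_of_notMem (by simp [h.zne.symm, (inv_ne_one.2 h.zne).symm]),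
      Finset.card_pair h.z_ne_inv.symm]
    omega
  refine ⟨hk, ?_, hrank⟩
  -- the degrees
  have hdvd : ∀ χ : ↥(principalBlock M G),
      charDegree ((χ : IrrCharacter G) : G → ℂ) ∣ 27 := by
    intro χ
    obtain ⟨-, -, hsurj⟩ := inflIrr_bijOn hM K hK
    obtain ⟨η, -, hη⟩ := hsurj χ.2
    have h1 : (charDegree ((χ : IrrCharacter G) : G → ℂ) : ℂ) =
        (charDegree (η : G ⧸ K → ℂ) : ℂ) := by
      rw [CfsgLib.BlockReg.deg_cast, CfsgLib.BlockReg.deg_cast, ← hη, inflIrr_apply, QuotientGroup.mk_one]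
    rw [show charDegree ((χ : IrrCharacter G) : G → ℂ) = charDegree (η : G ⧸ K → ℂ) by exact_mod_cast h1]
    have h2 := CfsgLib.CharTools.degree_dvd_card η
    rw [← Subgroup.index_eq_card, hidx] at h2
    exact h2
  have hsq : ∑ χ : ↥(principalBlock M G),
      charDegree ((χ : IrrCharacter G) : G → ℂ) * charDegree ((χ : IrrCharacter G) : G → ℂ) = 27 := by
    rw [sum_block' (principalBlock M G)
      (fun φ : IrrCharacter G => (φ : G → ℂ) 1 * conj ((φ : G → ℂ) 1))] at hsum
    have key : ((∑ χ : ↥(principalBlock M G), charDegree ((χ : IrrCharacter G) : G → ℂ) *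
        charDegree ((χ : IrrCharacter G) : G → ℂ) : ℕ) : ℂ) = ((3 ^ 3 : ℕ) : ℂ) := by
      rw [← hsum, Nat.cast_sum]
      exact Finset.sum_congr rfl fun χ _ => by
        rw [Nat.cast_mul, ← CfsgLib.BlockReg.deg_cast (χ : IrrCharacter G), map_natCast]
    exact_mod_cast key
  have hdeg : ∀ χ : ↥(principalBlock M G), charDegree ((χ : IrrCharacter G) : G → ℂ) = 1 ∨
      charDegree ((χ : IrrCharacter G) : G → ℂ) = 3 := by
    intro χ
    obtain ⟨k, hk', hkeq⟩ := (Nat.dvd_prime_pow Nat.prime_three).1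
      (show charDegree ((χ : IrrCharacter G) : G → ℂ) ∣ 3 ^ 3 from hdvd χ)
    have hle : charDegree ((χ : IrrCharacter G) : G → ℂ) *
        charDegree ((χ : IrrCharacter G) : G → ℂ) ≤ 27 := hsq ▸ Finset.single_le_sum
      (f := fun χ : ↥(principalBlock M G) => charDegree ((χ : IrrCharacter G) : G → ℂ) *
        charDegree ((χ : IrrCharacter G) : G → ℂ)) (fun _ _ => Nat.zero_le _) (Finset.mem_univ χ)
    rw [hkeq] at hle ⊢
    interval_cases k <;> simp_all
  have hmin : sInf ((fun χ : IrrCharacter G =>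
      (charDegree (χ : G → ℂ)).factorization 3) '' principalBlock M G) = 0 :=
    Nat.sInf_eq_zero.2 (Or.inl ⟨CfsgLib.Char.principalIrr, principal_mem hM, by
      have : charDegree ((CfsgLib.Char.principalIrr : IrrCharacter G) : G → ℂ) = 1 := by
        have h1 := CfsgLib.BlockReg.deg_cast (CfsgLib.Char.principalIrr : IrrCharacter G)
        simp at h1
        exact_mod_cast h1
      simp only [this, Nat.factorization_one, Finsupp.coe_zero, Pi.zero_apply]⟩)
  rw [Nat.card_congr (Equiv.subtypeSubtypeEquivSubtypeInter (fun χ => χ ∈ principalBlock M G)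
    (fun χ => blockHeight 3 (principalBlock M G) (χ : G → ℂ) = 0)).symm,
    Nat.card_congr (Equiv.subtypeEquivRight (q := fun χ : ↥(principalBlock M G) =>
      charDegree ((χ : IrrCharacter G) : G → ℂ) = 1) fun χ => ?_),
    Nat.card_eq_fintype_card, Fintype.card_subtype]
  · have hcard : Fintype.card ↥(principalBlock M G) = 11 := by rw [← Nat.card_eq_fintype_card]; exact hk
    have h1 : ∑ χ : ↥(principalBlock M G), ((if charDegree ((χ : IrrCharacter G) : G → ℂ) = 1
        then 8 else 0) + charDegree ((χ : IrrCharacter G) : G → ℂ) *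
          charDegree ((χ : IrrCharacter G) : G → ℂ)) = ∑ _χ : ↥(principalBlock M G), 9 :=
      Finset.sum_congr rfl fun χ _ => by rcases hdeg χ with e' | e' <;> simp [e']
    rw [Finset.sum_add_distrib, hsq, Finset.sum_const, Finset.card_univ, hcard, smul_eq_mul,
      ← Finset.sum_filter, Finset.sum_const, smul_eq_mul] at h1
    omega
  · rw [blockHeight, hmin, Nat.sub_zero]
    rcases hdeg χ with e' | e' <;> simp [e', Nat.Prime.factorization_self Nat.prime_three]
where
  sum_block' (B : Set (IrrCharacter G)) (f : IrrCharacter G → ℂ) :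
      ∑ χ ∈ B.toFinset, f χ = ∑ χ : B, f χ :=
    Finset.sum_subtype _ (fun _ => Set.mem_toFinset) f

end CfsgLib.Blk83.Ex27
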