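import Cfsg.Agent.Lib.Blk83.Ex27.Group
import Mathlib.GroupTheory.GroupAction.Quotient

/-!
The classes of the `3`-elements of a group with extraspecial Sylow `3`-subgroup of order 27 and
exponent 3 whose normalizer centralizes the centre.
-/

set_option autoImplicit false
set_option maxHeartbeats 800000

open Cfsg CfsgLib.Transfer
open scoped Classical Pointwise

namespace CfsgLib.Blk83.Ex27

universe u

variable {G : Type u} [Group G] [Finite G] {P : Sylow 3 G} {z : G}

omit [Finite G] in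
/-- `P C(P)` lies in the normalizer. -/
theorem inner_le_normalizer (P : Sylow 3 G) :
    (P : Subgroup G) ⊔ Subgroup.centralizer ((P : Subgroup G) : Set G) ≤
      Subgroup.normalizer ((P : Subgroup G) : Set G) :=
  sup_le Subgroup.le_normalizer (Subgroup.centralizer_le_normalizer _)

omit [Finite G] in
theorem Data.pow_three_zpow (h : Data P z) (i : ℤ) : (z ^ i) ^ 3 = 1 := by
  rw [← zpow_natCast (z ^ i) 3, ← zpow_mul, mul_comm, zpow_mul, zpow_natCast, h.exp z h.zmem,
    one_zpow]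

omit [Finite G] in
/-- Elements of `P C(P)` act trivially modulo the centre. -/
theorem Data.act_mod (h : Data P z) {k : G}
    (hk : k ∈ (P : Subgroup G) ⊔ Subgroup.centralizer ((P : Subgroup G) : Set G)) {x : G}
    (hx : x ∈ P) : k * x * k⁻¹ * x⁻¹ ∈ Subgroup.zpowers z := by
  have hk' : k ∈ Subgroup.closure (((P : Subgroup G) : Set G) ∪
      Subgroup.centralizer ((P : Subgroup G) : Set G)) := by
    rwa [Subgroup.closure_union, Subgroup.closure_eq, Subgroup.closure_eq]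
  refine (Subgroup.closure_induction (p := fun k _ => k * z * k⁻¹ = z ∧
    ∀ a ∈ P, k * a * k⁻¹ * a⁻¹ ∈ Subgroup.zpowers z) ?_ ⟨by simp, by simp⟩ ?_ ?_ hk').2 x hx
  · rintro k (hk | hk)
    · exact ⟨by rw [← h.zcomm k hk]; group, fun a ha => h.comm k hk a ha⟩
    · exact ⟨by rw [← Subgroup.mem_centralizer_iff.1 hk z h.zmem]; group,
        fun a ha => by rw [← Subgroup.mem_centralizer_iff.1 hk a ha]; simp⟩
  · rintro p₀ c₀ - - ⟨h1, h2⟩ ⟨h3, h4⟩
    refine ⟨by rw [show p₀ * c₀ * z * (p₀ * c₀)⁻¹ = p₀ * (c₀ * z * c₀⁻¹) * p₀⁻¹ by group, h3, h1],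
      fun a ha => ?_⟩
    obtain ⟨t, ht⟩ := Subgroup.mem_zpowers_iff.1 (h4 a ha)
    rw [show p₀ * c₀ * a * (p₀ * c₀)⁻¹ * a⁻¹ =
      (p₀ * (c₀ * a * c₀⁻¹ * a⁻¹) * p₀⁻¹) * (p₀ * a * p₀⁻¹ * a⁻¹) by group, ← ht, ← conj_zpow, h1]
    exact mul_mem (Subgroup.mem_zpowers_iff.2 ⟨t, rfl⟩) (h2 a ha)
  · rintro p₀ - ⟨h1, h2⟩
    have h1' : p₀⁻¹ * z * p₀⁻¹⁻¹ = z := by
      conv_lhs => rw [← h1]
      group
    refine ⟨h1', fun a ha => ?_⟩
    obtain ⟨t, ht⟩ := Subgroup.mem_zpowers_iff.1 (h2 a ha)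
    rw [show p₀⁻¹ * a * p₀⁻¹⁻¹ * a⁻¹ = p₀⁻¹ * (p₀ * a * p₀⁻¹ * a⁻¹)⁻¹ * p₀⁻¹⁻¹ by group, ← ht,
      ← zpow_neg, ← conj_zpow, h1']
    exact Subgroup.mem_zpowers_iff.2 ⟨-t, rfl⟩

/-- Every translate of a noncentral element by the centre is conjugate to it. -/
theorem Data.isConj_mul (h : Data P z) {x w : G} (hx : x ∈ P) (hx' : x ∉ Subgroup.zpowers z)
    (hw : w ∈ Subgroup.zpowers z) : IsConj x (x * w) := by
  obtain ⟨a, -, ha⟩ := h.exists_shift hx hx' hw
  exact isConj_iff.2 ⟨a, ha⟩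

/-- Representatives of the classes of the noncentral elements of `P`. -/
theorem Data.exists_reps (h : Data P z) {e : ℕ}
    (he : ((P : Subgroup G) ⊔ Subgroup.centralizer ((P : Subgroup G) : Set G)).relIndex
      (Subgroup.normalizer ((P : Subgroup G) : Set G)) = e) (he3 : ¬ 3 ∣ e) :
    ∃ (r : ℕ) (u : Fin r → G), r * e = 8 ∧ (∀ q, u q ∈ P) ∧
      (∀ q, u q ∉ Subgroup.zpowers z) ∧ (∀ q q', IsConj (u q) (u q') → q = q') ∧
      ∀ x ∈ P, x ∉ Subgroup.zpowers z → ∃ q, IsConj x (u q) := by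
  haveI : Fact (Nat.Prime 3) := ⟨Nat.prime_three⟩
  set N := Subgroup.normalizer ((P : Subgroup G) : Set G) with hN
  set M := (P : Subgroup G) ⊔ Subgroup.centralizer ((P : Subgroup G) : Set G) with hM
  have hMN : M ≤ N := inner_le_normalizer P
  let X := {x : G // x ∈ P ∧ x ∉ Subgroup.zpowers z}
  have hzN : ∀ n : N, (n : G) * z * (n : G)⁻¹ = z := fun n => by
    rw [h.norm n n.2, mul_inv_cancel_right]
  letI : SMul N X := ⟨fun n x => ⟨(n : G) * x.1 * (n : G)⁻¹,
    (Subgroup.mem_normalizer_iff.1 n.2 x.1).1 x.2.1, fun hmem => x.2.2 (by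
      obtain ⟨i, hi⟩ := Subgroup.mem_zpowers_iff.1 hmem
      refine Subgroup.mem_zpowers_iff.2 ⟨i, ?_⟩
      have h1 : (n : G) * z ^ i * (n : G)⁻¹ = z ^ i := by rw [← conj_zpow, hzN]
      calc z ^ i = (n : G)⁻¹ * ((n : G) * z ^ i * (n : G)⁻¹) * n := by group
        _ = (n : G)⁻¹ * ((n : G) * x.1 * (n : G)⁻¹) * n := by rw [h1, ← hi]
        _ = x.1 := by group)⟩⟩
  letI : MulAction N X :=
    { one_smul := fun x => Subtype.ext (by show (1 : G) * x.1 * (1 : G)⁻¹ = x.1; simp)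
      mul_smul := fun m n x => Subtype.ext (by
        show ((m : G) * n) * x.1 * ((m : G) * n)⁻¹ = (m : G) * ((n : G) * x.1 * (n : G)⁻¹) * (m : G)⁻¹
        group) }
  have hsmul : ∀ (n : N) (x : X), ((n • x : X) : G) = (n : G) * x.1 * (n : G)⁻¹ := fun _ _ => rfl
  have hcardX : Nat.card X = 24 := by
    have h1 : Nat.card X = ((P : Set G) \ (Subgroup.zpowers z : Set G)).ncard := by
      rw [← Nat.card_coe_set_eq]; rfl
    rw [h1, Set.ncard_sdiff (show (Subgroup.zpowers z : Set G) ⊆ (P : Set G) from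
      fun w hw => Subgroup.zpowers_le.2 h.zmem hw)]
    rw [← Nat.card_coe_set_eq, ← Nat.card_coe_set_eq]
    change Nat.card (P : Subgroup G) - Nat.card (Subgroup.zpowers z) = 24
    rw [h.card, Nat.card_zpowers, h.orderOf_z]
  have hzne : ∀ w : X, (w : G) * z ≠ w := fun w => by simpa using h.zne
  have horb : ∀ x : X, (MulAction.orbit N x).ncard = 3 * e := by
    intro x
    rw [← MulAction.index_stabilizer]
    have hle : MulAction.stabilizer N x ≤ M.subgroupOf N := by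
      intro n hn
      refine h.mem_inner (n := (n : G)) x.2.1 x.2.2 n.2 ?_ he he3
      have h1 : (n : G) * x.1 * (n : G)⁻¹ = x.1 := by
        rw [← hsmul]; exact congrArg Subtype.val (MulAction.mem_stabilizer_iff.1 hn)
      rw [h1, mul_inv_cancel]
      exact one_mem _
    rw [← Subgroup.relIndex_mul_index hle, show (M.subgroupOf N).index = e from he]
    congr 1
    have hst : (MulAction.stabilizer N x).subgroupOf (M.subgroupOf N) =
        MulAction.stabilizer (M.subgroupOf N) x := by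
      ext m
      rfl
    rw [Subgroup.relIndex, hst, MulAction.index_stabilizer, Set.ncard_eq_three]
    have hz2 : z * z ∈ Subgroup.zpowers z := mul_mem (Subgroup.mem_zpowers z) (Subgroup.mem_zpowers z)
    have hmemX : ∀ w ∈ Subgroup.zpowers z, x.1 * w ∈ P ∧ x.1 * w ∉ Subgroup.zpowers z :=
      fun w hw => ⟨(P : Subgroup G).mul_mem x.2.1 (Subgroup.zpowers_le.2 h.zmem hw),
        fun h' => x.2.2 ((Subgroup.mul_mem_cancel_right _ hw).1 h')⟩
    refine ⟨x, ⟨x.1 * z, hmemX z (Subgroup.mem_zpowers z)⟩, ⟨x.1 * (z * z), hmemX _ hz2⟩, ?_, ?_, ?_,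
      ?_⟩
    · intro h'
      exact h.zne (by simpa using (congrArg Subtype.val h').symm)
    · intro h'
      have h2 : z * z = 1 := by simpa using (congrArg Subtype.val h').symm
      have h4 := h.exp z h.zmem
      rw [pow_succ, pow_two, h2, one_mul] at h4
      exact h.zne h4
    · intro h'
      exact h.zne (by simpa using (congrArg Subtype.val h').symm)
    ext w
    simp only [Set.mem_insert_iff, Set.mem_singleton_iff]
    constructor
    · rintro ⟨⟨m, hm⟩, rfl⟩
      have h1 := h.act_mod (k := (m : G)) hm x.2.1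
      obtain ⟨i, hi⟩ := Subgroup.mem_zpowers_iff.1 h1
      have hx : ((⟨m, hm⟩ : M.subgroupOf N) • x : X).1 = x.1 * z ^ i := by
        rw [((Commute.symm (h.zcomm x.1 x.2.1)).zpow_right i).eq, hi]
        show (m : G) * x.1 * (m : G)⁻¹ = _
        group
      rcases h.exists_pow (Subgroup.mem_zpowers_iff.2 ⟨i, rfl⟩) with e' | e' | e' <;> rw [e'] at hx
      · exact Or.inl (Subtype.ext (by simpa using hx))
      · exact Or.inr (Or.inl (Subtype.ext hx))
      · refine Or.inr (Or.inr (Subtype.ext (hx.trans ?_)))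
        show x.1 * z⁻¹ = x.1 * (z * z)
        rw [inv_eq_of_mul_eq_one_left (show z * z * z = 1 by
          rw [← pow_two, ← pow_succ]; exact h.exp z h.zmem)]
    · intro hw
      obtain ⟨v, hv, hwv⟩ : ∃ v ∈ Subgroup.zpowers z, w.1 = x.1 * v := by
        rcases hw with rfl | rfl | rfl
        · exact ⟨1, one_mem _, (mul_one _).symm⟩
        · exact ⟨z, Subgroup.mem_zpowers z, rfl⟩
        · exact ⟨z * z, hz2, rfl⟩
      obtain ⟨a, ha, hax⟩ := h.exists_shift x.2.1 x.2.2 hv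
      exact ⟨⟨⟨a, Subgroup.le_normalizer ha⟩, (le_sup_left : (P : Subgroup G) ≤ M) ha⟩,
        Subtype.ext (hax.trans hwv.symm)⟩
  haveI := Fintype.ofFinite (MulAction.orbitRel.Quotient N X)
  haveI : Fintype (Quotient (MulAction.orbitRel N X)) := this
  have hsum : Nat.card X = Nat.card (Quotient (MulAction.orbitRel N X)) * (3 * e) := by
    rw [Nat.card_congr (MulAction.selfEquivSigmaOrbits N X), Nat.card_sigma,
      Finset.sum_congr rfl fun ω _ => (Nat.card_coe_set_eq _).trans (horb _), Finset.sum_const,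
      Finset.card_univ, smul_eq_mul, Nat.card_eq_fintype_card]
  have E := Finite.equivFin (Quotient (MulAction.orbitRel N X))
  refine ⟨_, fun q => ((E.symm q).out).1, ?_, fun q => (E.symm q).out.2.1,
    fun q => (E.symm q).out.2.2, fun q q' hconj => ?_, fun x hx hx' => ?_⟩
  · rw [hsum] at hcardX
    linarith
  · obtain ⟨g, hg⟩ := isConj_iff.1 hconj
    obtain ⟨n, hn, hnu⟩ := h.fusion (E.symm q).out.2.1 (E.symm q).out.2.2 hg (E.symm q').out.2.1
    refine E.symm.injective (((E.symm q').out_eq.symm.trans (Quotient.sound ?_)).trans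
      (E.symm q).out_eq).symm
    exact ⟨⟨n, hn⟩, Subtype.ext hnu⟩
  · refine ⟨E (Quotient.mk _ (⟨x, hx, hx'⟩ : X)), ?_⟩
    simp only [Equiv.symm_apply_apply]
    obtain ⟨n, hn⟩ := Quotient.mk_out (s := MulAction.orbitRel N X) (⟨x, hx, hx'⟩ : X)
    exact isConj_iff.2 ⟨(n : G), congrArg Subtype.val hn⟩

/-- An inertial quotient of even order inverts the noncentral elements. -/
theorem Data.isConj_inv (h : Data P z) {e : ℕ}
    (he : ((P : Subgroup G) ⊔ Subgroup.centralizer ((P : Subgroup G) : Set G)).relIndex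
      (Subgroup.normalizer ((P : Subgroup G) : Set G)) = e) (he3 : ¬ 3 ∣ e) (he2 : 2 ∣ e) {x : G}
    (hx : x ∈ P) (hx' : x ∉ Subgroup.zpowers z) : IsConj x x⁻¹ := by
  set N := Subgroup.normalizer ((P : Subgroup G) : Set G) with hN
  set M := (P : Subgroup G) ⊔ Subgroup.centralizer ((P : Subgroup G) : Set G) with hM
  haveI : (M.subgroupOf N).Normal := by
    refine Subgroup.normal_subgroupOf_of_le_normalizer ?_
    refine le_trans ?_ (Subgroup.normalizer_inf_normalizer_le_normalizer_sup _ _)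
    exact le_inf le_rfl (CfsgLib.Blocks.Pairs.normalizer_le_normalizer_centralizer (P : Subgroup G))
  haveI : Fact (Nat.Prime 2) := ⟨Nat.prime_two⟩
  obtain ⟨q, hq⟩ := exists_prime_orderOf_dvd_card' (G := N ⧸ M.subgroupOf N) 2 (by
    rw [← Subgroup.index_eq_card, show (M.subgroupOf N).index = e from he]; exact he2)
  obtain ⟨⟨n, hn⟩, rfl⟩ := QuotientGroup.mk_surjective q
  have hnM : n ∉ M := fun hmem => by
    rw [(QuotientGroup.eq_one_iff _).2 (show (⟨n, hn⟩ : N) ∈ M.subgroupOf N from hmem),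
      orderOf_one] at hq
    norm_num at hq
  have hn2 : n * n ∈ M := by
    have h1 := pow_orderOf_eq_one (QuotientGroup.mk (⟨n, hn⟩ : N) : N ⧸ M.subgroupOf N)
    rw [hq, pow_two, ← QuotientGroup.mk_mul, QuotientGroup.eq_one_iff] at h1
    exact h1
  have hnx : n * x * n⁻¹ ∈ P := (Subgroup.mem_normalizer_iff.1 hn x).1 hx
  obtain ⟨w, hwdef⟩ : ∃ w, w = x * (n * x * n⁻¹) := ⟨_, rfl⟩
  have hwP : w ∈ P := hwdef ▸ (P : Subgroup G).mul_mem hx hnx
  have hw : w ∈ Subgroup.zpowers z := by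
    by_contra hw'
    refine hnM (h.mem_inner hwP hw' hn ?_ he he3)
    obtain ⟨i, hi⟩ := Subgroup.mem_zpowers_iff.1 (h.act_mod hn2 hx)
    obtain ⟨j, hj⟩ := Subgroup.mem_zpowers_iff.1 (h.comm _ hnx x hx)
    have hA : Commute (n * x * n⁻¹) (z ^ i) :=
      (Commute.symm (h.zcomm _ hnx)).zpow_right i
    rw [hwdef, show n * (x * (n * x * n⁻¹)) * n⁻¹ * (x * (n * x * n⁻¹))⁻¹ =
      (n * x * n⁻¹) * ((n * n) * x * (n * n)⁻¹ * x⁻¹) * (x * (n * x * n⁻¹)⁻¹ * x⁻¹) by group, ← hi,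
      hA.eq, show z ^ i * (n * x * n⁻¹) * (x * (n * x * n⁻¹)⁻¹ * x⁻¹) =
        z ^ i * ((n * x * n⁻¹) * x * (n * x * n⁻¹)⁻¹ * x⁻¹) by group, ← hj]
    exact mul_mem (Subgroup.mem_zpowers_iff.2 ⟨i, rfl⟩) (Subgroup.mem_zpowers_iff.2 ⟨j, rfl⟩)
  have hinv : IsConj x (x⁻¹ * w) := by
    rw [hwdef, inv_mul_cancel_left]
    exact isConj_iff.2 ⟨n, rfl⟩
  refine hinv.trans ?_
  have hmem : x⁻¹ * w ∈ P := (P : Subgroup G).mul_mem ((P : Subgroup G).inv_mem hx) hwP
  have hnmem : x⁻¹ * w ∉ Subgroup.zpowers z := fun h' =>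
    hx' (inv_mem_iff.1 ((Subgroup.mul_mem_cancel_right _ hw).1 h'))
  have := h.isConj_mul hmem hnmem (inv_mem hw)
  rwa [mul_inv_cancel_right] at this

omit [Finite G] in
theorem Data.exists_orderOf_eq_pow (h : Data P z) {x : G} (hx : x ∈ P) :
    ∃ k : ℕ, orderOf x = 3 ^ k := by
  obtain ⟨k, -, hk⟩ := (Nat.dvd_prime_pow Nat.prime_three).1
    (show orderOf x ∣ 3 ^ 1 by rw [pow_one]; exact orderOf_dvd_of_pow_eq_one (h.exp x hx))
  exact ⟨k, hk⟩

omit [Finite G] in
theorem Data.z_ne_inv (h : Data P z) : z⁻¹ ≠ z := fun h2 => by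
  have h3 : z * z = 1 := by nth_rw 1 [← h2]; exact inv_mul_cancel z
  have h4 := h.exp z h.zmem
  rw [pow_succ, pow_two, h3, one_mul] at h4
  exact h.zne h4

/-- The central element is not conjugate to its inverse. -/
theorem Data.not_isConj_z (h : Data P z) : ¬ IsConj z z⁻¹ := fun hc => by
  obtain ⟨g, hg⟩ := isConj_iff.1 hc
  have h1 := h.conj_z (g := g) (by rw [hg]; exact (P : Subgroup G).inv_mem h.zmem)
  exact h.z_ne_inv (hg.symm.trans h1)

/-- A noncentral element is not conjugate to a central one. -/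
theorem Data.not_isConj (h : Data P z) {x w : G} (hx : x ∈ P) (hx' : x ∉ Subgroup.zpowers z)
    (hw : w ∈ Subgroup.zpowers z) : ¬ IsConj x w := fun hc => by
  obtain ⟨g, hg⟩ := isConj_iff.1 hc.symm
  exact h.not_conj hx hx' hw hg

/-- Every `3`-element has a conjugate in `P`. -/
theorem exists_conj_mem (P : Sylow 3 G) {g : G} (hg : ∃ k : ℕ, orderOf g = 3 ^ k) :
    ∃ x ∈ P, IsConj g x := by
  obtain ⟨k, hk⟩ := hg
  haveI : Fact (Nat.Prime 3) := ⟨Nat.prime_three⟩
  obtain ⟨S, hS⟩ := (IsPGroup.of_card (p := 3) (n := k) (by rw [Nat.card_zpowers, hk]) :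
    IsPGroup 3 (Subgroup.zpowers g)).exists_le_sylow
  obtain ⟨c, rfl⟩ := MulAction.exists_smul_eq G P S
  refine ⟨c⁻¹ * g * c, (mem_sylow_smul_iff c P g).1 (hS (Subgroup.mem_zpowers g)), ?_⟩
  exact isConj_iff.2 ⟨c⁻¹, by rw [inv_inv]⟩

/-- The representatives of the classes of `3`-elements. -/
theorem Data.classes (h : Data P z) {r : ℕ} {u : Fin r → G} (hu : ∀ q, u q ∈ P)
    (hu' : ∀ q, u q ∉ Subgroup.zpowers z) (hinj : ∀ q q', IsConj (u q) (u q') → q = q')
    (hcov : ∀ x ∈ P, x ∉ Subgroup.zpowers z → ∃ q, IsConj x (u q)) :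
    (∀ x ∈ ({1, z, z⁻¹} : Finset G) ∪ Finset.univ.image u, ∃ k : ℕ, orderOf x = 3 ^ k) ∧
    (∀ g : G, (∃ k : ℕ, orderOf g = 3 ^ k) →
      ∃! x, x ∈ ({1, z, z⁻¹} : Finset G) ∪ Finset.univ.image u ∧ IsConj g x) := by
  have hcen : ∀ x ∈ ({1, z, z⁻¹} : Finset G), x ∈ Subgroup.zpowers z := by
    intro x hx
    simp only [Finset.mem_insert, Finset.mem_singleton] at hx
    rcases hx with rfl | rfl | rfl
    exacts [one_mem _, Subgroup.mem_zpowers _, inv_mem (Subgroup.mem_zpowers _)]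
  have hcen' : ∀ x, x ∈ Subgroup.zpowers z → x ∈ ({1, z, z⁻¹} : Finset G) := fun x hx => by
    simpa using h.exists_pow hx
  have hmemP : ∀ x ∈ ({1, z, z⁻¹} : Finset G) ∪ Finset.univ.image u, x ∈ P := by
    intro x hx
    rcases Finset.mem_union.1 hx with hx | hx
    · exact Subgroup.zpowers_le.2 h.zmem (hcen x hx)
    · obtain ⟨q, -, rfl⟩ := Finset.mem_image.1 hx; exact hu q
  refine ⟨fun x hx => h.exists_orderOf_eq_pow (hmemP x hx), fun g hg => ?_⟩
  obtain ⟨x, hx, hgx⟩ := exists_conj_mem P hg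
  have huniq : ∀ y ∈ ({1, z, z⁻¹} : Finset G) ∪ Finset.univ.image u,
      ∀ y' ∈ ({1, z, z⁻¹} : Finset G) ∪ Finset.univ.image u, IsConj y y' → y = y' := by
    intro y hy y' hy' hc
    rcases Finset.mem_union.1 hy with hy | hy <;> rcases Finset.mem_union.1 hy' with hy' | hy'
    · simp only [Finset.mem_insert, Finset.mem_singleton] at hy hy'
      rcases hy with rfl | rfl | rfl <;> rcases hy' with rfl | rfl | rfl <;>
        first
        | rfl
        | exact absurd (isConj_one_left.1 hc) h.zne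
        | exact absurd (isConj_one_left.1 hc) (inv_ne_one.2 h.zne)
        | exact absurd (isConj_one_right.1 hc) h.zne
        | exact absurd (isConj_one_right.1 hc) (inv_ne_one.2 h.zne)
        | exact absurd hc h.not_isConj_z
        | exact absurd hc.symm h.not_isConj_z
    · obtain ⟨q, -, rfl⟩ := Finset.mem_image.1 hy'
      exact absurd hc.symm (h.not_isConj (hu q) (hu' q) (hcen y hy))
    · obtain ⟨q, -, rfl⟩ := Finset.mem_image.1 hy
      exact absurd hc (h.not_isConj (hu q) (hu' q) (hcen y' hy'))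
    · obtain ⟨q, -, rfl⟩ := Finset.mem_image.1 hy
      obtain ⟨q', -, rfl⟩ := Finset.mem_image.1 hy'
      rw [hinj q q' hc]
  obtain ⟨y, hy, hxy⟩ : ∃ y ∈ ({1, z, z⁻¹} : Finset G) ∪ Finset.univ.image u, IsConj x y := by
    by_cases hxz : x ∈ Subgroup.zpowers z
    · exact ⟨x, Finset.mem_union_left _ (hcen' x hxz), IsConj.refl x⟩
    · obtain ⟨q, hq⟩ := hcov x hx hxz
      exact ⟨u q, Finset.mem_union_right _ (Finset.mem_image_of_mem u (Finset.mem_univ q)), hq⟩
  exact ⟨y, ⟨hy, hgx.trans hxy⟩, fun y' hy' =>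
    huniq y' hy'.1 y hy (hy'.2.symm.trans (hgx.trans hxy))⟩

/-- The hypotheses pass to the centralizer of the central element. -/
theorem Data.to_centralizer (h : Data P z) :
    ∃ (P' : Sylow 3 (Subgroup.centralizer ({z} : Set G)))
      (z' : Subgroup.centralizer ({z} : Set G)), (z' : G) = z ∧
      (P' : Subgroup (Subgroup.centralizer ({z} : Set G))) =
        (P : Subgroup G).subgroupOf (Subgroup.centralizer ({z} : Set G)) ∧ Data P' z' ∧
      ((P' : Subgroup (Subgroup.centralizer ({z} : Set G))) ⊔ Subgroup.centralizer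
        ((P' : Subgroup (Subgroup.centralizer ({z} : Set G))) :
          Set (Subgroup.centralizer ({z} : Set G)))).relIndex
        (Subgroup.normalizer ((P' : Subgroup (Subgroup.centralizer ({z} : Set G))) :
          Set (Subgroup.centralizer ({z} : Set G)))) =
      ((P : Subgroup G) ⊔ Subgroup.centralizer ((P : Subgroup G) : Set G)).relIndex
        (Subgroup.normalizer ((P : Subgroup G) : Set G)) := by
  set C := Subgroup.centralizer ({z} : Set G) with hC
  have hNC : Subgroup.normalizer ((P : Subgroup G) : Set G) ≤ C := fun g hg =>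
    Subgroup.mem_centralizer_singleton_iff.2 (h.norm g hg)
  have hPC : (P : Subgroup G) ≤ C := Subgroup.le_normalizer.trans hNC
  have hCPC : Subgroup.centralizer ((P : Subgroup G) : Set G) ≤ C :=
    (Subgroup.centralizer_le_normalizer _).trans hNC
  obtain ⟨P', hP'⟩ : ∃ P' : Sylow 3 C, (P' : Subgroup C) = (P : Subgroup G).subgroupOf C :=
    ⟨P.subtype hPC, rfl⟩
  have hmem : ∀ x : C, x ∈ P' ↔ (x : G) ∈ P := fun x => by
    show x ∈ (P' : Subgroup C) ↔ _
    rw [hP']; exact Subgroup.mem_subgroupOf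
  have hnorm : Subgroup.normalizer ((P' : Subgroup C) : Set C) =
      (Subgroup.normalizer ((P : Subgroup G) : Set G)).subgroupOf C := by
    ext n
    rw [Subgroup.mem_subgroupOf, Subgroup.mem_normalizer_iff, Subgroup.mem_normalizer_iff]
    constructor
    · intro hn x
      constructor
      · intro hx
        exact (hmem (n * ⟨x, hPC hx⟩ * n⁻¹)).1 ((hn ⟨x, hPC hx⟩).1 ((hmem _).2 hx))
      · intro hx
        have hxC : x ∈ C := by
          have := C.mul_mem (C.mul_mem (C.inv_mem n.2) (hPC hx)) n.2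
          simpa [mul_assoc] using this
        exact (hmem ⟨x, hxC⟩).1 ((hn ⟨x, hxC⟩).2 ((hmem (n * ⟨x, hxC⟩ * n⁻¹)).2 hx))
    · intro hn x
      exact ((hmem x).trans (hn (x : G))).trans (hmem (n * x * n⁻¹)).symm
  have hcent : Subgroup.centralizer ((P' : Subgroup C) : Set C) =
      (Subgroup.centralizer ((P : Subgroup G) : Set G)).subgroupOf C := by
    ext n
    rw [Subgroup.mem_subgroupOf, Subgroup.mem_centralizer_iff, Subgroup.mem_centralizer_iff]
    constructor
    · intro hn x hx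
      exact congrArg Subtype.val (hn ⟨x, hPC hx⟩ ((hmem _).2 hx))
    · intro hn x hx
      exact Subtype.ext (hn x ((hmem x).1 hx))
  refine ⟨P', ⟨z, hPC h.zmem⟩, rfl, hP', ⟨?_, fun x hx => ?_, (hmem _).2 h.zmem,
    fun h1 => h.zne (congrArg Subtype.val h1), fun y hy => Subtype.ext (h.zcomm _ ((hmem y).1 hy)),
    fun w hw hwc => ?_, fun x hx y hy => ?_, fun g hg => ?_⟩, ?_⟩
  · rw [hP', Nat.card_congr (Subgroup.subgroupOfEquivOfLe hPC).toEquiv, h.card]
  · exact Subtype.ext (by simpa using h.exp _ ((hmem x).1 hx))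
  · obtain ⟨i, hi⟩ := Subgroup.mem_zpowers_iff.1 (h.center _ ((hmem w).1 hw) fun y hy =>
      congrArg Subtype.val (hwc ⟨y, hPC hy⟩ ((hmem _).2 hy)))
    exact Subgroup.mem_zpowers_iff.2 ⟨i, Subtype.ext (by simpa using hi)⟩
  · obtain ⟨i, hi⟩ := Subgroup.mem_zpowers_iff.1 (h.comm _ ((hmem x).1 hx) _ ((hmem y).1 hy))
    exact Subgroup.mem_zpowers_iff.2 ⟨i, Subtype.ext (by simpa using hi)⟩
  · rw [hnorm] at hg
    exact Subtype.ext (h.norm _ hg)
  · rw [hnorm, hcent, hP', ← Subgroup.subgroupOf_sup hPC hCPC,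
      Subgroup.relIndex_subgroupOf hNC]

/-- The class of a noncentral element in the quotient by the centre. -/
theorem Data.compl_quotient (h : Data P z) [(Subgroup.zpowers z).Normal] (hc : ∀ g : G, g * z = z * g)
    {x : G} (hx : x ∈ P) (hx' : x ∉ Subgroup.zpowers z) :
    Compl 3 (QuotientGroup.mk x : G ⧸ Subgroup.zpowers z) 2 := by
  haveI : Fact (Nat.Prime 3) := ⟨Nat.prime_three⟩
  obtain ⟨K, hKn, hK, hKi⟩ := h.compl hx hx'
  set Z := Subgroup.zpowers z with hZ
  set D := (Subgroup.centralizer ({(QuotientGroup.mk x : G ⧸ Z)} : Set (G ⧸ Z))).comap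
    (QuotientGroup.mk' Z) with hD
  have hzi : ∀ (g : G) (i : ℤ), Commute g (z ^ i) := fun g i =>
    Commute.zpow_right (show Commute g z from hc g) i
  have hDmem : ∀ d, d ∈ D ↔ d * x * d⁻¹ * x⁻¹ ∈ Z := fun d => by
    refine Iff.trans ?_ (QuotientGroup.eq_one_iff _)
    rw [hD, Subgroup.mem_comap, Subgroup.mem_centralizer_singleton_iff, QuotientGroup.mk'_apply,
      QuotientGroup.mk_mul, QuotientGroup.mk_mul, QuotientGroup.mk_mul, QuotientGroup.mk_inv,
      QuotientGroup.mk_inv, mul_inv_eq_one, mul_inv_eq_iff_eq_mul]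
  have hzinv : ∀ w ∈ Z, ∀ g : G, Commute g w := fun w hw g => by
    obtain ⟨i, rfl⟩ := Subgroup.mem_zpowers_iff.1 hw; exact hzi g i
  -- the commutator with `x` is a homomorphism on `D`
  let ψ : D →* Z := MonoidHom.mk' (fun d => ⟨(d : G) * x * (d : G)⁻¹ * x⁻¹, (hDmem d).1 d.2⟩)
    fun a b => Subtype.ext (by
      show ((a : G) * b) * x * ((a : G) * b)⁻¹ * x⁻¹ =
        ((a : G) * x * (a : G)⁻¹ * x⁻¹) * ((b : G) * x * (b : G)⁻¹ * x⁻¹)
      have hb := hzinv _ ((hDmem b).1 b.2)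
      rw [(hb ((a : G) * x * (a : G)⁻¹ * x⁻¹)).eq,
        show ((a : G) * b) * x * ((a : G) * b)⁻¹ * x⁻¹ = (a : G) *
          ((b : G) * x * (b : G)⁻¹ * x⁻¹) * (x * (a : G)⁻¹ * x⁻¹) by group, (hb a).eq]
      group)
  have hψ : Function.Surjective ψ := by
    rintro ⟨w, hw⟩
    obtain ⟨a, -, ha⟩ := h.exists_shift hx hx' hw
    refine ⟨⟨a, (hDmem a).2 ?_⟩, Subtype.ext ?_⟩
    · rw [ha, (hzinv w hw x).eq, mul_inv_cancel_right]; exact hw
    · show a * x * a⁻¹ * x⁻¹ = w
      rw [ha, (hzinv w hw x).eq, mul_inv_cancel_right]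
  have hker : Nat.card ψ.ker = Nat.card (Subgroup.centralizer ({x} : Set G)) := by
    refine Nat.card_congr
      { toFun := fun d => ⟨(d : D), Subgroup.mem_centralizer_singleton_iff.2 ?_⟩
        invFun := fun c => ⟨⟨c, (hDmem c).2 (by
          rw [Subgroup.mem_centralizer_singleton_iff.1 c.2, mul_inv_cancel_right, mul_inv_cancel]
          exact one_mem _)⟩, Subtype.ext (by
          show (c : G) * x * (c : G)⁻¹ * x⁻¹ = 1
          rw [Subgroup.mem_centralizer_singleton_iff.1 c.2, mul_inv_cancel_right, mul_inv_cancel])⟩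
        left_inv := fun d => rfl
        right_inv := fun c => rfl }
    have h1 : ((d : D) : G) * x * ((d : D) : G)⁻¹ * x⁻¹ = 1 := congrArg Subtype.val d.2
    rwa [mul_inv_eq_one, mul_inv_eq_iff_eq_mul] at h1
  have hcardD : Nat.card D = 3 * Nat.card (Subgroup.centralizer ({x} : Set G)) := by
    rw [← Subgroup.card_mul_index ψ.ker, Subgroup.index_ker, MonoidHom.range_eq_top.2 hψ,
      Subgroup.card_top, hker, hZ, Nat.card_zpowers, h.orderOf_z, mul_comm]
  -- the quotient map restricted to `D`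
  let π : D →* Subgroup.centralizer ({(QuotientGroup.mk x : G ⧸ Z)} : Set (G ⧸ Z)) :=
    ((QuotientGroup.mk' Z).comp D.subtype).codRestrict _ fun d => d.2
  have hπ : Function.Surjective π := fun c => by
    obtain ⟨d, hd⟩ := QuotientGroup.mk_surjective (c : G ⧸ Z)
    exact ⟨⟨d, by rw [hD, Subgroup.mem_comap, QuotientGroup.mk'_apply, hd]; exact c.2⟩, Subtype.ext hd⟩
  have hcardC : Nat.card (Subgroup.centralizer ({(QuotientGroup.mk x : G ⧸ Z)} : Set (G ⧸ Z))) =
      Nat.card (Subgroup.centralizer ({x} : Set G)) := by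
    have hk : Nat.card π.ker = 3 := by
      rw [← h.orderOf_z, ← Nat.card_zpowers]
      refine Nat.card_congr
        { toFun := fun d => ⟨((d : D) : G), (QuotientGroup.eq_one_iff _).1 (congrArg Subtype.val d.2)⟩
          invFun := fun w => ⟨⟨w, (hDmem w).2 (by
            rw [← (hzinv w w.2 x).eq, mul_inv_cancel_right, mul_inv_cancel]; exact one_mem _)⟩,
            Subtype.ext ((QuotientGroup.eq_one_iff _).2 w.2)⟩
          left_inv := fun d => rfl
          right_inv := fun w => rfl }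
    have := Subgroup.card_mul_index π.ker
    rw [hk, Subgroup.index_ker, MonoidHom.range_eq_top.2 hπ, Subgroup.card_top, hcardD] at this
    omega
  -- the complement
  let f : Subgroup.centralizer ({x} : Set G) →*
      Subgroup.centralizer ({(QuotientGroup.mk x : G ⧸ Z)} : Set (G ⧸ Z)) :=
    ((QuotientGroup.mk' Z).comp (Subgroup.subtype _)).codRestrict _ fun c =>
      Subgroup.mem_centralizer_singleton_iff.2 (by
        show QuotientGroup.mk (c : G) * QuotientGroup.mk x = QuotientGroup.mk x * QuotientGroup.mk (c : G)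
        rw [← QuotientGroup.mk_mul, ← QuotientGroup.mk_mul,
          Subgroup.mem_centralizer_singleton_iff.1 c.2])
  have hreg : ∀ c : Subgroup.centralizer ({x} : Set G), c ∈ K ↔ ¬ 3 ∣ orderOf c := by
    intro c
    constructor
    · intro hc' hd
      refine hK (hd.trans ?_)
      rw [show orderOf c = orderOf (⟨c, hc'⟩ : K) from Subgroup.orderOf_coe (⟨c, hc'⟩ : K)]
      exact orderOf_dvd_natCard _
    · intro hd
      rw [← QuotientGroup.eq_one_iff, ← orderOf_eq_one_iff]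
      obtain ⟨j, -, hj⟩ := (Nat.dvd_prime_pow Nat.prime_three).1
        (show orderOf (QuotientGroup.mk c : _ ⧸ K) ∣ 3 ^ 2 by
          rw [← hKi, Subgroup.index_eq_card]; exact orderOf_dvd_natCard _)
      rw [hj]
      cases j with
      | zero => rfl
      | succ j =>
        exfalso
        refine hd (dvd_trans ?_ (orderOf_map_dvd (QuotientGroup.mk' K) c))
        rw [QuotientGroup.mk'_apply, hj]
        exact dvd_pow_self 3 j.succ_ne_zero
  have hfinj : ∀ c ∈ K, f c = 1 → c = 1 := by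
    intro c hcK hfc
    have hmem : (c : G) ∈ Z := (QuotientGroup.eq_one_iff _).1 (congrArg Subtype.val hfc)
    rcases (Nat.dvd_prime Nat.prime_three).1 (show orderOf c ∣ 3 by
      rw [← Subgroup.orderOf_coe]
      refine orderOf_dvd_of_pow_eq_one ?_
      obtain ⟨i, hi⟩ := Subgroup.mem_zpowers_iff.1 hmem
      rw [← hi, h.pow_three_zpow]) with h1 | h1
    · exact orderOf_eq_one_iff.1 h1
    · exact absurd (h1.symm ▸ dvd_rfl) ((hreg c).1 hcK)
  have hcardK : Nat.card (K.map f) = Nat.card K := by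
    refine (Nat.card_congr (Equiv.ofBijective (fun c : K => (⟨f c, c.1, c.2, rfl⟩ : K.map f))
      ⟨fun a b hab => ?_, ?_⟩)).symm
    · have hab' : f a = f b := congrArg Subtype.val hab
      refine Subtype.ext (inv_mul_eq_one.1 (hfinj _ (K.mul_mem (K.inv_mem a.2) b.2) ?_))
      rw [map_mul, map_inv, hab', inv_mul_cancel]
    · rintro ⟨_, c, hc', rfl⟩
      exact ⟨⟨c, hc'⟩, rfl⟩
  refine ⟨K.map f, ⟨?_⟩, hcardK.symm ▸ hK, ?_⟩
  · rintro _ ⟨c, hcK, rfl⟩ t
    obtain ⟨⟨d, hd⟩, rfl⟩ := hπ t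
    have hd' := (hDmem d).1 hd
    have hcx := Subgroup.mem_centralizer_singleton_iff.1 c.2
    have hmem : d * (c : G) * d⁻¹ ∈ Subgroup.centralizer ({x} : Set G) := by
      refine Subgroup.mem_centralizer_singleton_iff.2 ?_
      obtain ⟨w, hw, hwe⟩ : ∃ w ∈ Z, d * x * d⁻¹ * x⁻¹ = w := ⟨_, hd', rfl⟩
      have h1 : x = w⁻¹ * (d * x * d⁻¹) := by rw [← hwe]; group
      have h2 : Commute (d * (c : G) * d⁻¹) (d * x * d⁻¹) := by
        show d * (c : G) * d⁻¹ * (d * x * d⁻¹) = d * x * d⁻¹ * (d * (c : G) * d⁻¹)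
        rw [show d * (c : G) * d⁻¹ * (d * x * d⁻¹) = d * ((c : G) * x) * d⁻¹ by group, hcx]
        group
      have h3 := (((hzinv w hw (d * (c : G) * d⁻¹)).inv_right).mul_right h2).eq
      rwa [← h1] at h3
    refine ⟨⟨_, hmem⟩, (hreg _).2 ?_, Subtype.ext ?_⟩
    · rw [← Subgroup.orderOf_coe]
      show ¬ 3 ∣ orderOf (MulAut.conj d (c : G))
      rw [MulEquiv.orderOf_eq, Subgroup.orderOf_coe]
      exact (hreg c).1 hcK
    · show (QuotientGroup.mk (d * (c : G) * d⁻¹) : G ⧸ Z) =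
        QuotientGroup.mk d * QuotientGroup.mk (c : G) * (QuotientGroup.mk d)⁻¹
      rfl
  · have h1 := Subgroup.card_mul_index (K.map f)
    rw [hcardK, hcardC, ← Subgroup.card_mul_index K, hKi] at h1
    exact Nat.eq_of_mul_eq_mul_left Nat.card_pos h1

/-- The classes of `3`-elements of the quotient by the centre. -/
theorem Data.classes_quotient (h : Data P z) [(Subgroup.zpowers z).Normal] {r : ℕ} {u : Fin r → G}
    (hu : ∀ q, u q ∈ P) (hu' : ∀ q, u q ∉ Subgroup.zpowers z)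
    (hinj : ∀ q q', IsConj (u q) (u q') → q = q')
    (hcov : ∀ x ∈ P, x ∉ Subgroup.zpowers z → ∃ q, IsConj x (u q)) :
    (∀ q, ∃ k : ℕ, orderOf (QuotientGroup.mk (u q) : G ⧸ Subgroup.zpowers z) = 3 ^ k) ∧
    (∀ q q', IsConj (QuotientGroup.mk (u q) : G ⧸ Subgroup.zpowers z) (QuotientGroup.mk (u q')) →
      q = q') ∧
    (∀ q, ¬ IsConj (QuotientGroup.mk (u q) : G ⧸ Subgroup.zpowers z) 1) ∧
    ∀ g : G ⧸ Subgroup.zpowers z, (∃ k : ℕ, orderOf g = 3 ^ k) →
      g = 1 ∨ ∃ q, IsConj g (QuotientGroup.mk (u q)) := by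
  set Z := Subgroup.zpowers z with hZ
  have hinj' : ∀ q q', IsConj (QuotientGroup.mk (u q) : G ⧸ Z) (QuotientGroup.mk (u q')) →
      q = q' := by
    intro q q' hc
    obtain ⟨t, ht⟩ := isConj_iff.1 hc
    obtain ⟨g, rfl⟩ := QuotientGroup.mk_surjective t
    rw [← QuotientGroup.mk_inv, ← QuotientGroup.mk_mul, ← QuotientGroup.mk_mul, QuotientGroup.eq] at ht
    have h2 : IsConj (u q') (g * u q * g⁻¹) := by
      have h3 := h.isConj_mul (hu q') (hu' q') (inv_mem ht)
      rwa [show u q' * ((g * u q * g⁻¹)⁻¹ * u q')⁻¹ = g * u q * g⁻¹ by group] at h3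
    exact hinj q q' ((isConj_iff.2 ⟨g, rfl⟩ : IsConj (u q) (g * u q * g⁻¹)).trans h2.symm)
  refine ⟨fun q => ?_, hinj', fun q hc => hu' q ?_, fun g hg => ?_⟩
  · obtain ⟨k, hk⟩ := h.exists_orderOf_eq_pow (hu q)
    obtain ⟨j, -, hj⟩ := (Nat.dvd_prime_pow Nat.prime_three).1
      (hk ▸ orderOf_map_dvd (QuotientGroup.mk' Z) (u q))
    exact ⟨j, hj⟩
  · exact (QuotientGroup.eq_one_iff _).1 (isConj_one_left.1 hc)
  obtain ⟨k, hk⟩ := hg
  obtain ⟨g, rfl⟩ := QuotientGroup.mk_surjective g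
  have hpow : g ^ 3 ^ k ∈ Z := by
    rw [← QuotientGroup.eq_one_iff, QuotientGroup.mk_pow, ← hk, pow_orderOf_eq_one]
  have hg' : ∃ j : ℕ, orderOf g = 3 ^ j := by
    obtain ⟨i, hi⟩ := Subgroup.mem_zpowers_iff.1 hpow
    have h3 : g ^ 3 ^ (k + 1) = 1 := by rw [pow_succ, pow_mul, ← hi, h.pow_three_zpow]
    obtain ⟨j, -, hj⟩ := (Nat.dvd_prime_pow Nat.prime_three).1 (orderOf_dvd_of_pow_eq_one h3)
    exact ⟨j, hj⟩
  obtain ⟨x, hx, hgx⟩ := exists_conj_mem P hg'
  have hmap : IsConj (QuotientGroup.mk g : G ⧸ Z) (QuotientGroup.mk x) :=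
    (QuotientGroup.mk' Z).map_isConj hgx
  by_cases hxz : x ∈ Z
  · left
    rw [(QuotientGroup.eq_one_iff x).2 hxz] at hmap
    exact isConj_one_left.1 hmap
  · obtain ⟨q, hq⟩ := hcov x hx hxz
    exact Or.inr ⟨q, hmap.trans ((QuotientGroup.mk' Z).map_isConj hq)⟩

end CfsgLib.Blk83.Ex27
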